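import Mathlib
import Cfsg.Agent.Classical.Linear.RankOne

/-! Irreducible groups of three by three matrices with many elations. -/

set_option autoImplicit false
set_option linter.unusedSimpArgs false
set_option linter.unusedSectionVars false

namespace Cfsg.Lib.Classical.SLThree

open Matrix LinOne
open scoped MatrixGroups

universe u

variable {F : Type u} [Field F] {K : Subgroup (GL (Fin 3) F)}

/-- No proper non-zero subspace is invariant. -/
def Irr (K : Subgroup (GL (Fin 3) F)) : Prop :=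
  ∀ S : Submodule F (Fin 3 → F), (∀ k ∈ K, ∀ x ∈ S, (k : Matrix (Fin 3) (Fin 3) F) *ᵥ x ∈ S) → S = ⊥ ∨ S = ⊤

theorem Irr.mono {M : Subgroup (GL (Fin 3) F)} (h : Irr M) (hle : M ≤ K) : Irr K :=
  fun S hS => h S fun k hk => hS k (hle hk)

theorem exists_dot_eq (f : Module.Dual F (Fin 3 → F)) : ∃ u : Fin 3 → F, ∀ x, f x = x ⬝ᵥ u := by
  refine ⟨fun i => f (Pi.single i 1), fun x => ?_⟩
  conv_lhs => rw [← Finset.univ_sum_single x]
  rw [map_sum, dotProduct]
  refine Finset.sum_congr rfl fun i _ => ?_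
  rw [show (Pi.single i (x i) : Fin 3 → F) = x i • Pi.single i 1 by rw [← Pi.single_smul, smul_eq_mul, mul_one],
    map_smul, smul_eq_mul]

theorem exists_dot {S : Submodule F (Fin 3 → F)} {ψ : Fin 3 → F} (h : ψ ∉ S) :
    ∃ u, (∀ φ ∈ S, φ ⬝ᵥ u = 0) ∧ ψ ⬝ᵥ u = 1 := by
  obtain ⟨f, hf, hf0⟩ := Submodule.exists_dual_map_eq_bot_of_notMem h inferInstance
  obtain ⟨u, hu⟩ := exists_dot_eq ((f ψ)⁻¹ • f)
  refine ⟨u, fun φ hφ => ?_, ?_⟩
  · have : f φ ∈ S.map f := Submodule.mem_map_of_mem hφ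
    rw [hf0, Submodule.mem_bot] at this
    rw [← hu, LinearMap.smul_apply, this, smul_zero]
  · rw [← hu, LinearMap.smul_apply, smul_eq_mul, inv_mul_cancel₀ hf]

theorem exists_pair (φ ψ : Fin 3 → F) : ∃ u : Fin 3 → F, u ≠ 0 ∧ φ ⬝ᵥ u = 0 ∧ ψ ⬝ᵥ u = 0 := by
  obtain ⟨z, hz⟩ : ∃ z, z ∉ Submodule.span F (Set.range ![φ, ψ]) := by
    by_contra hc
    push Not at hc
    have h1 := Submodule.eq_top_iff'.mpr hc
    have h2 := finrank_range_le_card (R := F) ![φ, ψ]
    rw [Set.finrank, h1, finrank_top, Module.finrank_fin_fun, Fintype.card_fin] at h2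
    omega
  obtain ⟨u, hu, hu1⟩ := exists_dot hz
  exact ⟨u, fun e => by simp [e] at hu1, hu _ (Submodule.subset_span ⟨0, rfl⟩),
    hu _ (Submodule.subset_span ⟨1, rfl⟩)⟩

/-- The kernel of a functional is spanned by two independent vectors in it. -/
theorem mem_span_pair {φ x x' z : Fin 3 → F} (hφ : φ ≠ 0) (hx : φ ⬝ᵥ x = 0) (hx' : φ ⬝ᵥ x' = 0) (hz : φ ⬝ᵥ z = 0)
    (hx0 : x ≠ 0) (hne : x' ∉ Submodule.span F ({x} : Set (Fin 3 → F))) :
    ∃ a b : F, a • x + b • x' = z := by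
  let L : (Fin 3 → F) →ₗ[F] F := dotProductBilin F F φ
  have hL : ∀ v, L v = φ ⬝ᵥ v := fun v => rfl
  have hker : Module.finrank F (LinearMap.ker L) = 2 := by
    have h1 := LinearMap.finrank_range_add_finrank_ker L
    obtain ⟨i, hi⟩ := Function.ne_iff.mp hφ
    have hsurj : Function.Surjective L := fun c => ⟨Pi.single i (c / φ i), by
      rw [hL, dotProduct_single, mul_div_cancel₀ _ hi]⟩
    rw [LinearMap.range_eq_top.mpr hsurj, finrank_top, Module.finrank_self, Module.finrank_fin_fun] at h1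
    omega
  have hli : LinearIndependent F ![x, x'] := by
    refine LinearIndependent.pair_iff.mpr fun a b hab => ?_
    rcases eq_or_ne b 0 with rfl | hb
    · exact ⟨(smul_eq_zero.mp (by simpa using hab)).resolve_right hx0, rfl⟩
    · refine absurd (Submodule.mem_span_singleton.mpr ⟨-(b⁻¹ * a), ?_⟩) hne
      rw [neg_smul, ← smul_smul, eq_neg_of_add_eq_zero_left hab, smul_neg, neg_neg, smul_smul,
        inv_mul_cancel₀ hb, one_smul]
  have hle : Submodule.span F (Set.range ![x, x']) = LinearMap.ker L := by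
    refine Submodule.eq_of_le_of_finrank_le (Submodule.span_le.mpr ?_) ?_
    · rintro _ ⟨i, rfl⟩
      fin_cases i
      · exact hx
      · exact hx'
    · rw [hker, finrank_span_eq_card hli, Fintype.card_fin]
  have hmem : z ∈ Submodule.span F (Set.range ![x, x']) := hle ▸ (show z ∈ LinearMap.ker L from hz)
  obtain ⟨c, hc⟩ := (Submodule.mem_span_range_iff_exists_fun F).mp hmem
  exact ⟨c 0, c 1, by simpa [Fin.sum_univ_two] using hc⟩

/-- Invariant spaces of functionals. -/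
theorem Irr.dual (h : Irr K) (S : Submodule F (Fin 3 → F))
    (hS : ∀ k ∈ K, ∀ φ ∈ S, φ ᵥ* (k : Matrix (Fin 3) (Fin 3) F) ∈ S) : S = ⊥ ∨ S = ⊤ := by
  let T : Submodule F (Fin 3 → F) :=
    { carrier := {x | ∀ φ ∈ S, φ ⬝ᵥ x = 0}
      add_mem' := fun {a b} ha hb φ hφ => by rw [dotProduct_add, ha φ hφ, hb φ hφ, add_zero]
      zero_mem' := fun φ _ => dotProduct_zero φ
      smul_mem' := fun c x hx φ hφ => by rw [dotProduct_smul, hx φ hφ, smul_zero] }
  rcases h T (fun k hk x hx φ hφ => by rw [dotProduct_mulVec]; exact hx _ (hS k hk φ hφ)) with hT | hT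
  · right
    by_contra hne
    obtain ⟨ψ, hψ⟩ : ∃ ψ, ψ ∉ S := by
      by_contra hc
      push Not at hc
      exact hne (Submodule.eq_top_iff'.mpr hc)
    obtain ⟨u, hu, hu1⟩ := exists_dot hψ
    have : u ∈ T := hu
    rw [hT, Submodule.mem_bot] at this
    simp [this] at hu1
  · left
    rw [eq_bot_iff]
    intro φ hφ
    rw [Submodule.mem_bot]
    exact dotProduct_eq_zero φ fun x => by rw [(hT ▸ trivial : x ∈ T) φ hφ]

/-- All elations with the given axis. -/
def Axis (K : Subgroup (GL (Fin 3) F)) (φ : Fin 3 → F) : Prop := ∀ x, φ ⬝ᵥ x = 0 → One K x φ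

theorem Axis.smul {φ : Fin 3 → F} (h : Axis K φ) (a : F) : Axis K (a • φ) := fun x hx => by
  refine One.smul_left (h _ ?_)
  rw [dotProduct_smul, ← smul_dotProduct, hx]

theorem Axis.conj {φ : Fin 3 → F} (h : Axis K φ) {k : GL (Fin 3) F} (hk : k ∈ K) :
    Axis K (φ ᵥ* ((k⁻¹ : GL (Fin 3) F) : Matrix (Fin 3) (Fin 3) F)) := fun x hx => by
  rw [← dotProduct_mulVec] at hx
  have := (h _ hx).conj hk
  rwa [mulVec_mulVec, ← Units.val_mul, mul_inv_cancel, Units.val_one, one_mulVec] at this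

theorem Axis.add {φ ψ : Fin 3 → F} (h : Axis K φ) (h' : Axis K ψ) : Axis K (φ + ψ) := by
  by_cases hdep : ψ ∈ Submodule.span F ({φ} : Set (Fin 3 → F))
  · obtain ⟨a, rfl⟩ := Submodule.mem_span_singleton.mp hdep
    rw [show φ + a • φ = (1 + a) • φ by rw [add_smul, one_smul]]
    exact h.smul _
  obtain ⟨u, hu, hu1⟩ := exists_dot hdep
  have hφu : φ ⬝ᵥ u = 0 := hu φ (Submodule.mem_span_singleton_self φ)
  obtain ⟨k, hk, hkv⟩ := h u hφu
  have hinv := h'.conj (K.inv_mem hk)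
  rwa [inv_inv, hkv, vecMul_one', hu1, one_smul, add_comm] at hinv

/-- One full axis group and irreducibility give the special linear group. -/
theorem sl_of_axis (hirr : Irr K) {φ : Fin 3 → F} (hφ : φ ≠ 0) (h : Axis K φ) :
    Cfsg.Geo.specialLinear (Fin 3) F ≤ K := by
  let S : Submodule F (Fin 3 → F) :=
    { carrier := {ψ | Axis K ψ}
      add_mem' := fun ha hb => ha.add hb
      zero_mem' := fun x _ => One.zero x
      smul_mem' := fun c _ hψ => hψ.smul c }
  have hS : S = ⊤ := by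
    refine (hirr.dual S fun k hk ψ hψ => ?_).resolve_left fun e => hφ ?_
    · have := hψ.conj (K.inv_mem hk)
      rwa [inv_inv] at this
    · have : φ ∈ S := h
      rwa [e, Submodule.mem_bot] at this
  refine specialLinear_le fun i j hij c => ?_
  have hj : Axis K (Pi.single j 1) := (hS ▸ trivial : (Pi.single j 1 : Fin 3 → F) ∈ S)
  exact hj _ (by simp [hij, Ne.symm hij])

/-- One full centre group and irreducibility give the special linear group. -/
theorem sl_of_centre (hirr : Irr K) {x : Fin 3 → F} (hx : x ≠ 0)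
    (h : ∀ ψ : Fin 3 → F, ψ ⬝ᵥ x = 0 → One K x ψ) : Cfsg.Geo.specialLinear (Fin 3) F ≤ K := by
  obtain ⟨k, hk, hkx⟩ : ∃ k ∈ K, (k : Matrix (Fin 3) (Fin 3) F) *ᵥ x ∉ Submodule.span F ({x} : Set (Fin 3 → F)) := by
    by_contra hc
    push Not at hc
    rcases hirr (Submodule.span F {x}) (fun k hk y hy => by
      obtain ⟨a, rfl⟩ := Submodule.mem_span_singleton.mp hy
      rw [mulVec_smul]
      exact Submodule.smul_mem _ _ (hc k hk)) with h1 | h1
    · exact hx (Submodule.span_singleton_eq_bot.mp h1)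
    · have := finrank_span_singleton (K := F) hx
      rw [h1, finrank_top, Module.finrank_fin_fun] at this
      omega
  set x' := (k : Matrix (Fin 3) (Fin 3) F) *ᵥ x
  obtain ⟨φ, hφ, h1, h2⟩ := exists_pair x x'
  rw [dotProduct_comm] at h1 h2
  refine sl_of_axis hirr hφ fun z hz => ?_
  obtain ⟨a, b, rfl⟩ := mem_span_pair hφ h1 h2 hz hx hkx
  have hh : ∀ t : F, One K (t • x) φ ∧ One K (t • x') φ := fun t => by
    refine ⟨One.smul_right (h _ (by rw [smul_dotProduct, h1, smul_zero])), One.smul_right ?_⟩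
    have := (h ((t • φ) ᵥ* (k : Matrix (Fin 3) (Fin 3) F))
      (by rw [← dotProduct_mulVec, smul_dotProduct, h2, smul_zero])).conj hk
    rwa [vecMul_vecMul, ← Units.val_mul, mul_inv_cancel, Units.val_one, vecMul_one] at this
  exact (hh a).1.addL (hh b).2 (by rw [dotProduct_smul, h2, smul_zero])

/-- An irreducible group over a prime field containing an elation contains the special linear group. -/
theorem sl_of_elation_prime [Fintype F] (hp : (Fintype.card F).Prime) (hirr : Irr K) {x φ : Fin 3 → F}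
    (h : One K x φ) (h0 : φ ⬝ᵥ x = 0) (hx : x ≠ 0) (hφ : φ ≠ 0) : Cfsg.Geo.specialLinear (Fin 3) F ≤ K := by
  classical
  have hnat : ∀ c : F, ∃ n : ℕ, (n : F) = c := fun c => by
    haveI : Fact (Fintype.card F).Prime := ⟨hp⟩
    let e : ZMod (Fintype.card F) ≃+* F := ZMod.ringEquivOfPrime F hp rfl
    exact ⟨(e.symm c).val, by rw [← map_natCast e, ZMod.natCast_rightInverse, e.apply_symm_apply]⟩
  have hmul : ∀ {y η : Fin 3 → F}, One K y η → η ⬝ᵥ y = 0 → ∀ c : F, One K y (c • η) := by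
    intro y η hy hy0 c
    obtain ⟨n, rfl⟩ := hnat c
    induction n with
    | zero => rw [Nat.cast_zero, zero_smul]; exact One.zero y
    | succ n ih =>
      rw [Nat.cast_succ, add_smul, one_smul]
      exact ih.addR hy (by rw [smul_dotProduct, hy0, smul_zero])
  by_contra hSL
  let E : Set ((Fin 3 → F) × (Fin 3 → F)) := {e | One K e.1 e.2 ∧ e.2 ⬝ᵥ e.1 = 0 ∧ e.1 ≠ 0 ∧ e.2 ≠ 0}
  have hax : ∀ {η a b : Fin 3 → F}, η ≠ 0 → a ≠ 0 → η ⬝ᵥ a = 0 → η ⬝ᵥ b = 0 → One K a η → One K b η →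
      b ∈ Submodule.span F ({a} : Set (Fin 3 → F)) := by
    intro η a b hη ha h1 h2 hA hB
    by_contra hne
    refine hSL (sl_of_axis hirr hη fun z hz => ?_)
    obtain ⟨s, t, rfl⟩ := mem_span_pair hη h1 h2 hz ha hne
    exact (One.smul_right (hmul hA h1 s)).addL (One.smul_right (hmul hB h2 t)) (by rw [dotProduct_smul, h2, smul_zero])
  have key : ∀ a ∈ E, ∀ b ∈ E, a.2 ⬝ᵥ b.1 = 0 → b.1 ∈ Submodule.span F ({a.1} : Set (Fin 3 → F)) := by
    rintro ⟨y, η⟩ ⟨hA, hA0, hy, hη⟩ ⟨z, θ⟩ ⟨hB, hB0, hz, hθ⟩ hηz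
    by_contra hne
    by_cases hθy : θ ⬝ᵥ y = 0
    · -- both incidences: the same axis
      have hdep : θ ∈ Submodule.span F ({η} : Set (Fin 3 → F)) := by
        by_contra hind
        obtain ⟨u, hu, hu1⟩ := exists_dot hind
        have hu' : η ⬝ᵥ u = 0 := hu η (Submodule.mem_span_singleton_self η)
        obtain ⟨s, t, e⟩ := mem_span_pair hη hA0 hηz hu' hy hne
        rw [← e, dotProduct_add, dotProduct_smul, dotProduct_smul, hθy, hB0] at hu1
        simp at hu1
      obtain ⟨c, rfl⟩ := Submodule.mem_span_singleton.mp hdep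
      have hc : c ≠ 0 := fun e => hθ (by simp [e])
      have hB' := hmul hB hB0 c⁻¹
      rw [smul_smul, inv_mul_cancel₀ hc, one_smul] at hB'
      exact hne (hax hη hy hA0 hηz hA hB')
    · have hc := hA.comm_right hB hA0 hB0 hηz
      have hc' := hmul hc (by rw [smul_dotProduct, hηz, smul_zero]) (-(θ ⬝ᵥ y))⁻¹
      rw [smul_smul, inv_mul_cancel₀ (neg_ne_zero.mpr hθy), one_smul] at hc'
      exact hne (hax hη hy hA0 hηz hA hc')
  have hout : ∀ S : Submodule F (Fin 3 → F), S ≠ ⊤ → ∃ e ∈ E, e.1 ∉ S := by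
    intro S hS
    by_contra hc
    push Not at hc
    let T : Submodule F (Fin 3 → F) := Submodule.span F {y | ∃ η, (y, η) ∈ E}
    have hTinv : ∀ k ∈ K, ∀ y ∈ T, (k : Matrix (Fin 3) (Fin 3) F) *ᵥ y ∈ T := by
      intro k hk y hy
      refine Submodule.span_induction (fun z hz => ?_) (by rw [mulVec_zero]; exact T.zero_mem)
        (fun a b _ _ ha hb => by rw [mulVec_add]; exact T.add_mem ha hb)
        (fun c a _ ha => by rw [mulVec_smul]; exact T.smul_mem c ha) hy
      obtain ⟨η, hA, hA0, hz0, hη⟩ := hz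
      refine Submodule.subset_span ⟨_, hA.conj hk, ?_, GL_ne_zero_mulVec k hz0, GL_ne_zero_vecMul k⁻¹ hη⟩
      show (η ᵥ* _) ⬝ᵥ (_ *ᵥ z) = 0
      rw [dot_conj]
      exact hA0
    refine hS (eq_top_iff.mpr ?_)
    rcases hirr T hTinv with hT | hT
    · exact absurd ((Submodule.mem_bot F).mp (hT ▸ Submodule.subset_span ⟨φ, h, h0, hx, hφ⟩ : x ∈ (⊥ : Submodule F _))) hx
    · rw [← hT]
      exact Submodule.span_le.mpr fun z ⟨η, hη⟩ => hc _ hη
  obtain ⟨⟨x', φ'⟩, hE', hx'⟩ := hout (Submodule.span F {x}) fun e => by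
    have := finrank_span_singleton (K := F) hx
    rw [e, finrank_top, Module.finrank_fin_fun] at this
    omega
  obtain ⟨⟨y, η⟩, hEy, hy⟩ := hout (Submodule.span F (Set.range ![x, x'])) fun e => by
    have := finrank_range_le_card (R := F) ![x, x']
    rw [Set.finrank, e, finrank_top, Module.finrank_fin_fun, Fintype.card_fin] at this
    omega
  have hEx : (x, φ) ∈ E := ⟨h, h0, hx, hφ⟩
  have h1 : φ ⬝ᵥ x' ≠ 0 := fun e => hx' (key _ hEx _ hE' e)
  have hηx : η ⬝ᵥ x ≠ 0 := fun e => by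
    obtain ⟨c, hc⟩ := Submodule.mem_span_singleton.mp (key _ hEy _ hEx e)
    change c • y = x at hc
    have hc0 : c ≠ 0 := fun e' => hx (by rw [← hc, e', zero_smul])
    refine hy ?_
    rw [show y = c⁻¹ • x by rw [← hc, smul_smul, inv_mul_cancel₀ hc0, one_smul]]
    exact Submodule.smul_mem _ _ (Submodule.subset_span ⟨0, rfl⟩)
  set c : F := -(η ⬝ᵥ x') / (η ⬝ᵥ x) with hc
  obtain ⟨k, hk, hkv⟩ := hmul h h0 (c / (φ ⬝ᵥ x'))
  have hz : (k : Matrix (Fin 3) (Fin 3) F) *ᵥ x' = x' + c • x := by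
    rw [hkv, one_mulVec', smul_dotProduct, smul_eq_mul, div_mul_cancel₀ _ h1]
  have hEz : ((k : Matrix (Fin 3) (Fin 3) F) *ᵥ x', φ' ᵥ* ((k⁻¹ : GL (Fin 3) F) : Matrix (Fin 3) (Fin 3) F)) ∈ E :=
    ⟨hE'.1.conj hk, by rw [dot_conj]; exact hE'.2.1, GL_ne_zero_mulVec k hE'.2.2.1, GL_ne_zero_vecMul k⁻¹ hE'.2.2.2⟩
  obtain ⟨d, hd⟩ := Submodule.mem_span_singleton.mp (key _ hEy _ hEz (by
    show η ⬝ᵥ _ = 0
    rw [hz, dotProduct_add, dotProduct_smul, smul_eq_mul, hc, div_mul_cancel₀ _ hηx, add_neg_cancel]))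
  simp only [hz] at hd
  have hd0 : d ≠ 0 := by
    rintro rfl
    rw [zero_smul] at hd
    exact hx' (Submodule.mem_span_singleton.mpr ⟨-c, by rw [neg_smul]; exact (eq_neg_of_add_eq_zero_left hd.symm).symm⟩)
  refine hy ?_
  rw [show y = d⁻¹ • (x' + c • x) by rw [← hd, smul_smul, inv_mul_cancel₀ hd0, one_smul]]
  exact Submodule.smul_mem _ _ (Submodule.add_mem _ (Submodule.subset_span ⟨1, rfl⟩)
    (Submodule.smul_mem _ _ (Submodule.subset_span ⟨0, rfl⟩)))

end Cfsg.Lib.Classical.SLThree
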