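import Mathlib
import Cfsg.Agent.Classical.PrimeDim.Schur

/-! The normaliser of a field of matrices acts on it by powers of the Frobenius map. -/

set_option autoImplicit false
set_option linter.unusedSectionVars false
set_option linter.style.haveILetI false

namespace Cfsg.Lib.Classical.SLThree

open Matrix Cfsg.Geo
open scoped MatrixGroups

universe u

variable {F : Type u} [Field F] [Fintype F] {n : ℕ} [NeZero n] {K : Subalgebra F (Matrix (Fin n) (Fin n) F)}

local notation "MN" => Matrix (Fin n) (Fin n) F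
local notation "GN" => GL (Fin n) F

/-- Conjugation by an element of the normaliser is a power of the Frobenius map. -/
theorem exists_frob (hK : IsFieldSubalgebra n K) {g : GN} (hg : g ∈ subalgebraNormalizer K) :
    ∃ i, i < n ∧ ∀ k ∈ K, (g : MN) * k * ((g⁻¹ : GN) : MN) = k ^ Fintype.card F ^ i := by
  classical
  letI : CommRing K := { (inferInstance : Ring K) with mul_comm := fun a b => Subtype.ext (hK.comm a a.2 b b.2) }
  have hF : IsField K :=
    { exists_pair_ne := ⟨0, 1, zero_ne_one⟩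
      mul_comm := mul_comm
      mul_inv_cancel := fun {a} ha => by
        obtain ⟨y, hy, h⟩ := hK.inv a a.2 (fun h => ha (Subtype.ext h))
        exact ⟨⟨y, hy⟩, Subtype.ext h⟩ }
  letI : Field K := hF.toField
  haveI : Finite K := inferInstance
  have hgi : g⁻¹ ∈ subalgebraNormalizer K := (subalgebraNormalizer K).inv_mem hg
  have hl : ((g⁻¹ : GN) : MN) * (g : MN) = 1 := by rw [← Units.val_mul, inv_mul_cancel, Units.val_one]
  have hr : (g : MN) * ((g⁻¹ : GN) : MN) = 1 := by rw [← Units.val_mul, mul_inv_cancel, Units.val_one]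
  let f : K →ₐ[F] K :=
    { toFun := fun k => ⟨(g : MN) * k * ((g⁻¹ : GN) : MN), (hg k).mp k.2⟩
      map_one' := Subtype.ext (by simp [hr])
      map_mul' := fun a b => Subtype.ext (by
        show (g : MN) * ((a : MN) * b) * ((g⁻¹ : GN) : MN) = _ * _
        simp only [mul_assoc]
        rw [← mul_assoc ((g⁻¹ : GN) : MN) (g : MN), hl, one_mul])
      map_zero' := Subtype.ext (by simp)
      map_add' := fun a b => Subtype.ext (by
        show (g : MN) * ((a : MN) + b) * ((g⁻¹ : GN) : MN) = _ + _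
        rw [mul_add, add_mul])
      commutes' := fun c => Subtype.ext (by
        show (g : MN) * (algebraMap F MN c) * ((g⁻¹ : GN) : MN) = algebraMap F MN c
        rw [← Algebra.commutes, mul_assoc, hr, mul_one]) }
  have hf : Function.Bijective f := Finite.injective_iff_bijective.mp (RingHom.injective f.toRingHom)
  obtain ⟨i, hi⟩ := (FiniteField.bijective_frobeniusAlgEquivOfAlgebraic_pow F K).2 (AlgEquiv.ofBijective f hf)
  refine ⟨i, lt_of_lt_of_eq i.2 hK.finrank_eq, fun k hk => ?_⟩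
  have h := congrArg (fun e : K ≃ₐ[F] K => ((e ⟨k, hk⟩ : K) : MN)) hi
  simp only [AlgEquiv.coe_pow, FiniteField.coe_frobeniusAlgEquivOfAlgebraic_iterate] at h
  exact h.symm

/-- Commutators of the normaliser centralise the field. -/
theorem commutator_centralizes (hK : IsFieldSubalgebra n K) {g h : GN} (hg : g ∈ subalgebraNormalizer K)
    (hh : h ∈ subalgebraNormalizer K) {k : MN} (hk : k ∈ K) :
    ((g * h * g⁻¹ * h⁻¹ : GN) : MN) * k = k * ((g * h * g⁻¹ * h⁻¹ : GN) : MN) := by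
  obtain ⟨i, -, hi⟩ := exists_frob hK hg
  obtain ⟨j, -, hj⟩ := exists_frob hK hh
  set c := g * h * g⁻¹ * h⁻¹ with hc
  have e1 : ∀ l ∈ K, (g : MN) * ((h : MN) * l * ((h⁻¹ : GN) : MN)) * ((g⁻¹ : GN) : MN) =
      (h : MN) * ((g : MN) * l * ((g⁻¹ : GN) : MN)) * ((h⁻¹ : GN) : MN) := fun l hl => by
    rw [hj l hl, hi _ (K.pow_mem hl _), hi l hl, hj _ (K.pow_mem hl _), ← pow_mul, ← pow_mul, mul_comm]
  have hmem : ((g⁻¹ * h⁻¹ : GN) : MN) * k * (((g⁻¹ * h⁻¹)⁻¹ : GN) : MN) ∈ K :=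
    ((subalgebraNormalizer K).mul_mem ((subalgebraNormalizer K).inv_mem hg) ((subalgebraNormalizer K).inv_mem hh) k).mp hk
  have h1 := e1 _ hmem
  have l1 : (g : MN) * ((h : MN) * (((g⁻¹ * h⁻¹ : GN) : MN) * k * (((g⁻¹ * h⁻¹)⁻¹ : GN) : MN)) * ((h⁻¹ : GN) : MN)) *
      ((g⁻¹ : GN) : MN) = (c : MN) * k * ((c⁻¹ : GN) : MN) := by
    rw [hc, show (g * h * g⁻¹ * h⁻¹)⁻¹ = (g⁻¹ * h⁻¹)⁻¹ * h⁻¹ * g⁻¹ by group]
    simp only [Units.val_mul, mul_assoc]
  have r1 : (h : MN) * ((g : MN) * (((g⁻¹ * h⁻¹ : GN) : MN) * k * (((g⁻¹ * h⁻¹)⁻¹ : GN) : MN)) * ((g⁻¹ : GN) : MN)) *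
      ((h⁻¹ : GN) : MN) = ((h * g * (g⁻¹ * h⁻¹) : GN) : MN) * k * (((g⁻¹ * h⁻¹)⁻¹ * g⁻¹ * h⁻¹ : GN) : MN) := by
    simp only [Units.val_mul, mul_assoc]
  rw [l1, r1, show h * g * (g⁻¹ * h⁻¹) = 1 by group, show (g⁻¹ * h⁻¹)⁻¹ * g⁻¹ * h⁻¹ = (1 : GN) by group,
    Units.val_one, one_mul, mul_one] at h1
  calc (c : MN) * k = (c : MN) * k * ((c⁻¹ : GN) : MN) * (c : MN) := by
        rw [mul_assoc _ ((c⁻¹ : GN) : MN), ← Units.val_mul, inv_mul_cancel, Units.val_one, mul_one]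
    _ = k * (c : MN) := by rw [h1]

end Cfsg.Lib.Classical.SLThree
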