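import Cfsg.Agent.Classical.SLThree.Basic
import Cfsg.Agent.Classical.Linear.MonoSL
import Cfsg.Agent.Classical.Misc.MonomialOver

/-! Overgroups of the monomial group in dimension three, over fields with at least five elements.

Homologies conjugate to the diagonal ones have matching supports of centre and axis, or an elation with a sparse
centre appears. -/

set_option autoImplicit false
set_option linter.unusedSimpArgs false
set_option linter.unusedSectionVars false

namespace Cfsg.Lib.Classical.SLThree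

open Matrix LinOne
open Cfsg.Lib.Classical.MonoOver (Mono Root)
open scoped MatrixGroups

universe u

variable {F : Type u} [Field F] {K : Subgroup (GL (Fin 3) F)}

/-- An overgroup of the monomial group inside the special linear group. -/
structure MonoThree (K : Subgroup (GL (Fin 3) F)) : Prop where
  det : ∀ g ∈ K, (g : Matrix (Fin 3) (Fin 3) F).det = 1
  fix : ∀ g : GL (Fin 3) F, (g : Matrix (Fin 3) (Fin 3) F).det = 1 → Mono (g : Matrix (Fin 3) (Fin 3) F) → g ∈ K

theorem det_inv_mul (g : GL (Fin 3) F) :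
    ((g⁻¹ : GL (Fin 3) F) : Matrix (Fin 3) (Fin 3) F).det * (g : Matrix (Fin 3) (Fin 3) F).det = 1 := by
  rw [← det_mul, ← Units.val_mul, inv_mul_cancel, Units.val_one, det_one]

theorem invT_invT (g : GL (Fin 3) F) : MonoOver.invT (MonoOver.invT g) = g := Units.ext (by
  rw [MonoOver.invT_val, ← map_inv, MonoOver.invT_val, inv_inv, transpose_transpose])

theorem MonoThree.dual (M : MonoThree K) : MonoThree (K.comap MonoOver.invT) where
  det g hg := by
    have h := M.det _ hg
    rw [MonoOver.invT_val, det_transpose] at h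
    have h2 := det_inv_mul g
    rwa [h, one_mul] at h2
  fix g hd hm := M.fix (MonoOver.invT g) (by
    have h2 := det_inv_mul g
    rw [MonoOver.invT_val, det_transpose]
    rwa [hd, mul_one] at h2) (by rw [MonoOver.invT_val]; exact MonoOver.mono_inv_transpose g hm)

/-- The group with the scalars adjoined. -/
def Tilde (K : Subgroup (GL (Fin 3) F)) : Subgroup (GL (Fin 3) F) := K ⊔ Cfsg.Geo.scalars (Fin 3) F

theorem mem_tilde {g : GL (Fin 3) F} (hg : g ∈ Tilde K) : ∃ k ∈ K, ∃ c : Fˣ,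
    (g : Matrix (Fin 3) (Fin 3) F) = (c : F) • (k : Matrix (Fin 3) (Fin 3) F) := by
  obtain ⟨k, hk, z, hz, rfl⟩ := Subgroup.mem_sup_of_normal_right.mp hg
  obtain ⟨c, hc⟩ := (Cfsg.Geo.mem_scalars_iff _).mp hz
  exact ⟨k, hk, c, by rw [Units.val_mul, hc, Matrix.mul_smul, Matrix.mul_one]⟩

theorem smul_mem_tilde {g k : GL (Fin 3) F} (hk : k ∈ K) {c : F} (hc : c ≠ 0)
    (hg : (g : Matrix (Fin 3) (Fin 3) F) = c • (k : Matrix (Fin 3) (Fin 3) F)) : g ∈ Tilde K := by
  have hz : k⁻¹ * g ∈ Cfsg.Geo.scalars (Fin 3) F := (Cfsg.Geo.mem_scalars_iff _).mpr ⟨Units.mk0 c hc, by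
    rw [Units.val_mul, hg, Matrix.mul_smul, ← Units.val_mul, inv_mul_cancel, Units.val_one]; rfl⟩
  have := Subgroup.mul_mem_sup hk hz
  rwa [mul_inv_cancel_left] at this

theorem mono_smul {A : Matrix (Fin 3) (Fin 3) F} (h : Mono A) (c : F) : Mono (c • A) := by
  obtain ⟨σ, hσ⟩ := h
  exact ⟨σ, fun i j hij => by rw [Matrix.smul_apply, hσ i j hij, smul_zero]⟩

theorem MonoThree.mem_tilde_of_mono (M : MonoThree K) {g : GL (Fin 3) F} (hm : Mono (g : Matrix (Fin 3) (Fin 3) F))
    {s : F} (hs : s ≠ 0) (hd : (g : Matrix (Fin 3) (Fin 3) F).det = s ^ 3) : g ∈ Tilde K := by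
  have hd' : (s⁻¹ • (g : Matrix (Fin 3) (Fin 3) F)).det = 1 := by
    rw [det_smul, hd, Fintype.card_fin, ← mul_pow, inv_mul_cancel₀ hs, one_pow]
  exact smul_mem_tilde (M.fix (Matrix.GeneralLinearGroup.mkOfDetNeZero _ (by rw [hd']; exact one_ne_zero)) hd'
    (mono_smul hm _)) hs (by
      show _ = s • (s⁻¹ • (g : Matrix (Fin 3) (Fin 3) F))
      rw [smul_smul, mul_inv_cancel₀ hs, one_smul])

theorem MonoThree.lower (M : MonoThree K) {x φ : Fin 3 → F} (h : One (Tilde K) x φ) (h0 : φ ⬝ᵥ x = 0) :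
    One K x φ := by
  obtain ⟨g, hg, hgv⟩ := h
  obtain ⟨k, hk, c, hc⟩ := mem_tilde hg
  have h3 : (c : F) ^ 3 = 1 := by
    have := congrArg Matrix.det hc
    rw [hgv, det_one', h0, add_zero, det_smul, M.det k hk, Fintype.card_fin, mul_one] at this
    exact this.symm
  refine ⟨g, ?_, hgv⟩
  have hz : k⁻¹ * g ∈ K := M.fix _ (by
    rw [Units.val_mul, hc, Matrix.mul_smul, ← Units.val_mul, inv_mul_cancel, Units.val_one, det_smul, det_one,
      mul_one, Fintype.card_fin, h3]) (by
    rw [Units.val_mul, hc, Matrix.mul_smul, ← Units.val_mul, inv_mul_cancel, Units.val_one]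
    exact mono_smul ⟨1, fun i j hij => one_apply_ne hij⟩ _)
  have := K.mul_mem hk hz
  rwa [mul_inv_cancel_left] at this

theorem One.dual_tilde {x φ : Fin 3 → F} (h : One (Tilde K) x φ) {c : F} (hc : 1 + c + (φ ⬝ᵥ x) * c = 0) :
    One (Tilde (K.comap MonoOver.invT)) φ (c • x) := by
  obtain ⟨g, hg, hgv⟩ := h
  refine ⟨MonoOver.invT g, ?_, ?_⟩
  · obtain ⟨k, hk, a, ha⟩ := mem_tilde hg
    refine smul_mem_tilde (k := MonoOver.invT k) (by rw [Subgroup.mem_comap, invT_invT]; exact hk) (inv_ne_zero a.ne_zero) ?_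
    rw [MonoOver.invT_val, MonoOver.invT_val, ← transpose_smul]
    congr 1
    rw [Matrix.coe_units_inv, Matrix.coe_units_inv, ha]
    refine Matrix.inv_eq_right_inv ?_
    rw [Matrix.smul_mul, Matrix.mul_smul, smul_smul, mul_inv_cancel₀ a.ne_zero, one_smul, Matrix.mul_nonsing_inv]
    exact (Matrix.isUnit_iff_isUnit_det _).mp k.isUnit
  · rw [MonoOver.invT_val, Matrix.coe_units_inv, hgv]
    rw [Matrix.inv_eq_right_inv (B := 1 + vecMulVec x (c • φ)) ?_]
    · rw [transpose_add, transpose_one]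
      congr 1
      ext i j
      simp only [transpose_apply, vecMulVec_apply, Pi.smul_apply, smul_eq_mul]
      ring
    rw [one_mul_one, vecMulVec_smul, smul_vecMulVec, vecMulVec_smul, smul_smul,
      show vecMulVec x φ = (1 : F) • vecMulVec x φ from (one_smul F _).symm, smul_smul, smul_smul, add_assoc,
      add_assoc, ← add_smul, ← add_smul,
      show (1 : F) + (c * 1 + (φ ⬝ᵥ x) * c * 1) = 0 by linear_combination hc, zero_smul, add_zero]

theorem vecMul_inv_of {k : GL (Fin 3) F} {φ ψ : Fin 3 → F} (h : ψ ᵥ* (k : Matrix (Fin 3) (Fin 3) F) = φ) :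
    φ ᵥ* ((k⁻¹ : GL (Fin 3) F) : Matrix (Fin 3) (Fin 3) F) = ψ := by
  rw [← h, vecMul_vecMul, ← Units.val_mul, mul_inv_cancel, Units.val_one, vecMul_one]

theorem three_others : ∀ p : Fin 3, ∃ r w, r ≠ p ∧ w ≠ p ∧ r ≠ w ∧ ∀ i, i = p ∨ i = r ∨ i = w := by decide

theorem cover_three : ∀ {p r w : Fin 3}, r ≠ p → w ≠ p → r ≠ w → ∀ i, i = p ∨ i = r ∨ i = w := by decide

theorem exists_third : ∀ {p r : Fin 3}, p ≠ r → ∃ w, w ≠ p ∧ w ≠ r ∧ ∀ i, i = p ∨ i = r ∨ i = w := by decide

theorem exists_perm_pair : ∀ {i j a b : Fin 3}, i ≠ j → a ≠ b → ∃ τ : Equiv.Perm (Fin 3), τ i = a ∧ τ j = b := by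
  decide

theorem univ_three {p r w : Fin 3} (hpr : r ≠ p) (hpw : w ≠ p) (hrw : r ≠ w) :
    (Finset.univ : Finset (Fin 3)) = {p, r, w} := by
  ext i
  rcases cover_three hpr hpw hrw i with rfl | rfl | rfl <;> simp

theorem sum_three {p r w : Fin 3} (hpr : r ≠ p) (hpw : w ≠ p) (hrw : r ≠ w) (f : Fin 3 → F) :
    ∑ i, f i = f p + f r + f w := by
  rw [univ_three hpr hpw hrw]
  simp [hpr.symm, hpw.symm, hrw, add_assoc]

theorem prod_three {p r w : Fin 3} (hpr : r ≠ p) (hpw : w ≠ p) (hrw : r ≠ w) (f : Fin 3 → F) :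
    ∏ i, f i = f p * f r * f w := by
  rw [univ_three hpr hpw hrw]
  simp [hpr.symm, hpw.symm, hrw, mul_assoc]

theorem MonoThree.diag_mem (M : MonoThree K) (t : Fin 3 → F) {s : F} (hs : s ≠ 0) (ht : ∏ i, t i = s ^ 3) :
    ∃ d ∈ Tilde K, (d : Matrix (Fin 3) (Fin 3) F) = diagonal t := by
  have hd : (diagonal t).det = s ^ 3 := by rw [det_diagonal, ht]
  exact ⟨Matrix.GeneralLinearGroup.mkOfDetNeZero (diagonal t) (by rw [hd]; exact pow_ne_zero _ hs),
    M.mem_tilde_of_mono ⟨1, fun i j hij => diagonal_apply_ne _ (by simpa using hij)⟩ hs hd, rfl⟩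

theorem MonoThree.conj_diag (M : MonoThree K) {x φ : Fin 3 → F} (h : One (Tilde K) x φ) (t : Fin 3 → F) {s : F}
    (hs : s ≠ 0) (ht : ∏ i, t i = s ^ 3) : One (Tilde K) (fun i => t i * x i) (fun i => φ i / t i) := by
  obtain ⟨d, hd, hdv⟩ := M.diag_mem t hs ht
  have h0 : ∀ i, t i ≠ 0 := fun i hi => pow_ne_zero 3 hs (by
    rw [← ht]; exact Finset.prod_eq_zero (Finset.mem_univ i) hi)
  have h1 := h.conj hd
  rw [vecMul_inv_of (ψ := fun i => φ i / t i) (by
    rw [hdv]; funext i; rw [vecMul_diagonal, div_mul_cancel₀ _ (h0 i)])] at h1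
  rwa [hdv, show diagonal t *ᵥ x = fun i => t i * x i from funext fun i => mulVec_diagonal t x i] at h1

theorem exists_gen [Fintype F] (hq : 5 ≤ Fintype.card F) :
    ∃ u : F, u ≠ 0 ∧ u ^ 3 ≠ 1 ∧ u ^ 9 ≠ 1 ∧ u ≠ -1 ∧ orderOf u = Fintype.card F - 1 := by
  classical
  obtain ⟨g, hg⟩ := IsCyclic.exists_ofOrder_eq_natCard (α := Fˣ)
  rw [Nat.card_eq_fintype_card, Fintype.card_units] at hg
  have ho : orderOf (g : F) = Fintype.card F - 1 := by rw [orderOf_units, hg]
  have h9 : (g : F) ^ 9 ≠ 1 := fun e => by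
    have h := Nat.le_of_dvd (by norm_num) (ho ▸ orderOf_dvd_of_pow_eq_one e)
    have h' : Fintype.card F - 1 ∣ 9 := ho ▸ orderOf_dvd_of_pow_eq_one e
    have hpp : IsPrimePow (Fintype.card F) := Fintype.isPrimePow_card_of_field
    have h5 : 5 ≤ Fintype.card F ∧ Fintype.card F ≤ 10 := ⟨hq, by omega⟩
    obtain ⟨h5, h10⟩ := h5
    interval_cases hc : Fintype.card F <;> norm_num at h'
    rw [isPrimePow_nat_iff] at hpp
    obtain ⟨p, k, hp, hk, e⟩ := hpp
    have hp10 : p ∣ 10 := e ▸ dvd_pow_self p (by omega)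
    have hp_le := Nat.le_of_dvd (by norm_num) hp10
    have hk4 : k < 4 := by
      have h2 : 2 ^ k ≤ p ^ k := Nat.pow_le_pow_left hp.two_le k
      by_contra hk4
      have : 2 ^ 4 ≤ 2 ^ k := Nat.pow_le_pow_right (by norm_num) (by omega)
      omega
    interval_cases p <;> interval_cases k <;> (revert hp e; norm_num)
  refine ⟨g, g.ne_zero, fun e => h9 (by rw [show (9 : ℕ) = 3 * 3 from rfl, pow_mul, e, one_pow]), h9, fun e => ?_, ho⟩
  have h : Fintype.card F - 1 ∣ 2 := ho ▸ orderOf_dvd_of_pow_eq_one (by rw [e]; ring)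
  have := Nat.le_of_dvd (by norm_num) h
  omega

section Main

variable [Fintype F] (hq : 5 ≤ Fintype.card F)
include hq

/-- An elation with axis a coordinate hyperplane gives a root element. -/
theorem root_axis (M : MonoThree K) {x : Fin 3 → F} {p : Fin 3} {c : F} (h : One (Tilde K) x (Pi.single p c)) (hc : c ≠ 0)
    (hp : x p = 0) (hx : x ≠ 0) : Root K := by
  obtain ⟨r, w, hr, hw, hrw, hall⟩ := three_others p
  have fin : ∀ {a : Fin 3} {d : F}, a ≠ p → d ≠ 0 → One (Tilde K) (Pi.single a d) (Pi.single p c) → Root K := by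
    intro a d hap hd h'
    refine ⟨a, p, d * c, hap, mul_ne_zero hd hc, (M.lower h' (by simp [hap, Ne.symm hap])).congr ?_⟩
    ext i j
    simp only [vecMulVec_apply, Pi.single_apply]
    split_ifs <;> ring
  have only : ∀ {a b : Fin 3}, (∀ i, i = p ∨ i = a ∨ i = b) → a ≠ p → x b = 0 → x a ≠ 0 → Root K := by
    intro a b hab hap hb ha
    refine fin hap ha (h.congr ?_)
    congr 1
    funext i
    rcases eq_or_ne i a with rfl | hia
    · simp
    · rcases hab i with rfl | rfl | rfl <;> simp_all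
  have hne : x r ≠ 0 ∨ x w ≠ 0 := by
    by_contra hc'
    push Not at hc'
    exact hx (funext fun i => by rcases hall i with rfl | rfl | rfl <;> simp [hp, hc'.1, hc'.2])
  by_cases hxr : x r = 0
  · exact only (fun i => by rcases hall i with h | h | h <;> tauto) hw hxr (hne.resolve_left (not_not_intro hxr))
  by_cases hxw : x w = 0
  · exact only hall hr hxw hxr
  obtain ⟨u, hu0, hu3, -, -, -⟩ := exists_gen hq
  let t : Fin 3 → F := fun i => if i = r then u⁻¹ ^ 2 else u
  have h1 := M.conj_diag h t (s := 1) one_ne_zero (by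
    rw [prod_three hr hw hrw, one_pow]
    simp [t, Ne.symm hr, Ne.symm hrw]
    field_simp)
  set x'' : Fin 3 → F := fun i => if i = r then u⁻¹ ^ 3 * x r else x i with hx''
  have h2 : One (Tilde K) x'' (Pi.single p c) := h1.congr (by
    ext i j
    simp only [vecMulVec_apply, Pi.single_apply, hx'', t]
    rcases eq_or_ne j p with rfl | hj
    · rw [if_pos rfl, if_neg (Ne.symm hr)]
      rcases eq_or_ne i r with rfl | hi
      · simp [div_eq_mul_inv]; ring
      · simp [hi]; field_simp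
    · simp [hj])
  have h3 := h2.addL (h.negL (by simp [hp])) (by simp [hp])
  refine fin hr (d := (u⁻¹ ^ 3 - 1) * x r) (mul_ne_zero (sub_ne_zero.mpr fun e => hu3 (by
    rwa [inv_pow, inv_eq_one] at e)) hxr) (h3.congr ?_)
  congr 1
  funext i
  rcases eq_or_ne i r with rfl | hi
  · simp [hx'']; ring
  · simp [hx'', hi]

/-- An elation with a zero of the centre off the axis gives a root element. -/
theorem root_mis (M : MonoThree K) {x φ : Fin 3 → F} (h : One (Tilde K) x φ) (h0 : φ ⬝ᵥ x = 0) {p : Fin 3} (hp : x p = 0)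
    (hφ : φ p ≠ 0) (hx : x ≠ 0) : Root K := by
  obtain ⟨u, hu0, hu3, -, -, -⟩ := exists_gen hq
  obtain ⟨r, w, hr, hw, hrw, hall⟩ := three_others p
  let t : Fin 3 → F := fun i => if i = p then u⁻¹ ^ 2 else u
  have h1 := M.conj_diag h t (s := 1) one_ne_zero (by
    rw [prod_three hr hw hrw, one_pow]
    simp [t, hr, hw]
    field_simp)
  set ψ : Fin 3 → F := fun i => if i = p then u ^ 3 * φ p else φ i with hψ
  have h2 : One (Tilde K) x ψ := h1.congr (by
    ext i j
    simp only [vecMulVec_apply, hψ, t]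
    rcases eq_or_ne i p with rfl | hi
    · simp [hp]
    · simp only [if_neg hi]
      rcases eq_or_ne j p with rfl | hj
      · simp; field_simp
      · simp [hj]; field_simp)
  have h3 := h2.addR (h.neg h0) (by
    rw [dotProduct, sum_three hr hw hrw]
    rw [dotProduct, sum_three hr hw hrw] at h0
    simp only [hψ, hr, hw, if_false, if_true, hp, mul_zero] at h0 ⊢
    linear_combination h0)
  refine root_axis hq M (p := p) (c := (u ^ 3 - 1) * φ p) (h3.congr ?_) (mul_ne_zero (sub_ne_zero.mpr hu3) hφ) hp hx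
  congr 1
  funext i
  rcases eq_or_ne i p with rfl | hi
  · simp [hψ]; ring
  · simp [hψ, hi]

/-- Homologies with all cube multipliers. -/
def Pseudo (K : Subgroup (GL (Fin 3) F)) (x φ : Fin 3 → F) : Prop :=
  φ ⬝ᵥ x = 1 ∧ ∀ s : F, s ≠ 0 → One (Tilde K) x ((s ^ 3 - 1) • φ)

omit hq in
theorem Pseudo.conj {x φ : Fin 3 → F} (h : Pseudo K x φ) {k : GL (Fin 3) F} (hk : k ∈ Tilde K) :
    Pseudo K ((k : Matrix (Fin 3) (Fin 3) F) *ᵥ x) (φ ᵥ* ((k⁻¹ : GL (Fin 3) F) : Matrix (Fin 3) (Fin 3) F)) :=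
  ⟨by rw [dot_conj, h.1], fun s hs => by
    have := (h.2 s hs).conj hk
    rwa [smul_vecMul] at this⟩

omit hq in
theorem Pseudo.scale {x φ : Fin 3 → F} {a : F} (h : Pseudo K (a • x) φ) : Pseudo K x (a • φ) :=
  ⟨by rw [smul_dotProduct, ← dotProduct_smul, h.1], fun s hs => by
    rw [smul_comm]
    exact (h.2 s hs).smul_left⟩

omit hq in
theorem Pseudo.dual {x φ : Fin 3 → F} (h : Pseudo K x φ) : Pseudo (K.comap MonoOver.invT) φ x := by
  refine ⟨by rw [dotProduct_comm, h.1], fun s hs => ?_⟩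
  have h2 := One.dual_tilde (h.2 s⁻¹ (inv_ne_zero hs)) (c := -(s ^ 3)) (by
    rw [smul_dotProduct, h.1, smul_eq_mul, mul_one, inv_pow]
    field_simp
    ring)
  refine h2.smul_left.congr ?_
  rw [smul_smul]
  congr 2
  rw [inv_pow]
  field_simp
  ring

omit hq in
theorem Pseudo.diffR {x φ φ' : Fin 3 → F} (h : Pseudo K x φ) (h' : Pseudo K x φ') {s : F} (hs : s ≠ 0) :
    One (Tilde K) x ((s ^ 3 - 1) • (φ - φ')) := by
  have h1 := (h.2 s hs).mulR (h'.2 s⁻¹ (inv_ne_zero hs))
  rwa [smul_dotProduct, h.1, smul_eq_mul, mul_one, smul_smul, add_assoc, ← add_smul,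
    show s⁻¹ ^ 3 - 1 + (s ^ 3 - 1) * (s⁻¹ ^ 3 - 1) = -(s ^ 3 - 1) by rw [inv_pow]; field_simp; ring,
    neg_smul, ← sub_eq_add_neg, ← smul_sub] at h1

omit hq in
theorem Pseudo.new {x φ y η : Fin 3 → F} (h : Pseudo K x φ) (h' : Pseudo K y η) {s : F} (hs : s ≠ 0) :
    Pseudo K (y + ((s ^ 3 - 1) * (φ ⬝ᵥ y)) • x) (η + ((s⁻¹ ^ 3 - 1) * (η ⬝ᵥ x)) • φ) := by
  obtain ⟨k, hk, hkv⟩ := h.2 s hs
  have h2 := h'.conj hk
  rw [vecMul_inv_of (ψ := η + ((s⁻¹ ^ 3 - 1) * (η ⬝ᵥ x)) • φ)] at h2
  · rwa [hkv, one_mulVec', smul_dotProduct, smul_eq_mul] at h2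
  · rw [hkv, vecMul_one', add_dotProduct, smul_dotProduct, h.1, smul_eq_mul, mul_one, smul_smul, add_assoc,
      ← add_smul]
    conv_rhs => rw [← add_zero η, ← zero_smul F φ]
    congr 2
    rw [inv_pow]
    field_simp
    ring

theorem pseudo_single (M : MonoThree K) (p : Fin 3) : Pseudo K (Pi.single p 1) (Pi.single p 1) := by
  refine ⟨by simp, fun s hs => ⟨mkGL (Pi.single p 1) ((s ^ 3 - 1) • Pi.single p 1)
    (by simp [hs]), M.mem_tilde_of_mono (MonoOver.mono_diag_one p _) hs ?_, rfl⟩⟩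
  rw [mkGL_val, det_one']
  simp

theorem pseudo_column (M : MonoThree K) {g : GL (Fin 3) F} (hg : g ∈ Tilde K) (b : Fin 3) :
    Pseudo K ((g : Matrix (Fin 3) (Fin 3) F) *ᵥ Pi.single b 1)
      ((Pi.single b 1 : Fin 3 → F) ᵥ* ((g⁻¹ : GL (Fin 3) F) : Matrix (Fin 3) (Fin 3) F)) :=
  (pseudo_single hq M b).conj hg

theorem pseudo_mis (M : MonoThree K) {x φ : Fin 3 → F} (h : Pseudo K x φ) {p : Fin 3} (hp : x p = 0) (hφ : φ p ≠ 0) : Root K := by
  obtain ⟨u, hu0, hu3, -, -, -⟩ := exists_gen hq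
  obtain ⟨r, w, hr, hw, hrw, hall⟩ := three_others p
  have hx : x ≠ 0 := fun e => by simpa [e] using h.1
  let t : Fin 3 → F := fun i => if i = p then u⁻¹ ^ 2 else u
  obtain ⟨k, hk, hkv⟩ := M.diag_mem t (s := 1) one_ne_zero (by
    rw [prod_three hr hw hrw, one_pow]
    simp [t, hr, hw]
    field_simp)
  have h1 := h.conj hk
  rw [show (k : Matrix (Fin 3) (Fin 3) F) *ᵥ x = u • x from funext fun i => by
      rw [hkv, mulVec_diagonal, Pi.smul_apply, smul_eq_mul]
      rcases eq_or_ne i p with rfl | hi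
      · simp [hp]
      · simp [t, hi],
    vecMul_inv_of (ψ := fun i => φ i / t i) (by
      rw [hkv]; funext i; rw [vecMul_diagonal, div_mul_cancel₀]; simp only [t]; split_ifs <;> simp [hu0])] at h1
  have h2 := h.diffR h1.scale hu0
  refine root_axis hq M (p := p) (c := -((u ^ 3 - 1) ^ 2 * φ p)) (h2.congr ?_)
    (neg_ne_zero.mpr (mul_ne_zero (pow_ne_zero _ (sub_ne_zero.mpr hu3)) hφ)) hp hx
  congr 1
  funext i
  rcases eq_or_ne i p with rfl | hi
  · simp [t]; field_simp; ring
  · simp [t, hi]; right; field_simp; ring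

theorem zero_iff (M : MonoThree K) (hR : ¬ Root K) {x φ : Fin 3 → F} (h : Pseudo K x φ) (p : Fin 3) :
    x p = 0 ↔ φ p = 0 :=
  ⟨fun e => by_contra fun e' => hR (pseudo_mis hq M h e e'),
    fun e => by_contra fun e' => hR (MonoOver.root_of_dual (pseudo_mis hq M.dual h.dual e e'))⟩

/-- With full support all the products agree. -/
theorem all_equal (M : MonoThree K) (hR : ¬ Root K) {x φ : Fin 3 → F} (h : Pseudo K x φ) (hx : ∀ i, x i ≠ 0)
    (p r : Fin 3) : φ p * x p = φ r * x r := by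
  by_contra hne
  have hrp : r ≠ p := fun e => hne (by rw [e])
  obtain ⟨w, hwp, hwr, hall⟩ := exists_third (Ne.symm hrp)
  obtain ⟨u, hu0, hu3, -, -, -⟩ := exists_gen hq
  set v : Fin 3 → F := Pi.single r (x r) - Pi.single p (x p) with hv
  set ψ : Fin 3 → F := Pi.single p (x p)⁻¹ - Pi.single r (x r)⁻¹ with hψ
  have hψx : ψ ⬝ᵥ x = 0 := by simp [hψ, sub_dotProduct, hx p, hx r]
  have hψv : ψ ⬝ᵥ v = -2 := by
    simp [hψ, hv, sub_dotProduct, dotProduct_sub, hx p, hx r, hrp, Ne.symm hrp]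
    norm_num
  have hne1 : 1 + ψ ⬝ᵥ v ≠ 0 := by rw [hψv]; norm_num
  let k := mkGL v ψ hne1
  have hkm : Mono (k : Matrix (Fin 3) (Fin 3) F) := ⟨Equiv.swap p r, fun i j hij => by
    rw [mkGL_val, Matrix.add_apply, vecMulVec_apply, one_apply]
    rcases hall j with rfl | rfl | rfl <;> rcases hall i with rfl | rfl | rfl <;>
      simp_all [hv, hψ, Equiv.swap_apply_of_ne_of_ne, Ne.symm]⟩
  have hk : k ∈ Tilde K := M.mem_tilde_of_mono hkm (neg_ne_zero.mpr one_ne_zero) (by
    rw [mkGL_val, det_one', hψv]; ring)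
  have h' := h.conj (Subgroup.inv_mem _ hk)
  have hkx : (k : Matrix (Fin 3) (Fin 3) F) *ᵥ x = x := by rw [mkGL_val, one_mulVec', hψx, zero_smul, add_zero]
  have e : ((k⁻¹ : GL (Fin 3) F) : Matrix (Fin 3) (Fin 3) F) *ᵥ x = x := by
    conv_lhs => rw [← hkx]
    rw [mulVec_mulVec, ← Units.val_mul, inv_mul_cancel, Units.val_one, one_mulVec]
  rw [inv_inv, e, mkGL_val, vecMul_one'] at h'
  have h2 := h.diffR h' hu0
  rw [sub_add_cancel_left, smul_neg, smul_smul, ← neg_smul] at h2
  set e0 := -((u ^ 3 - 1) * (φ ⬝ᵥ v)) with he0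
  have he0' : e0 ≠ 0 := by
    rw [he0, neg_ne_zero, hv, dotProduct_sub, dotProduct_single, dotProduct_single]
    exact mul_ne_zero (sub_ne_zero.mpr hu3) (sub_ne_zero.mpr (Ne.symm hne))
  have hψ0 : e0 • ψ ≠ 0 := fun e' => by
    have := congrFun e' p
    simp [hψ, he0', hx p, Ne.symm hrp] at this
  exact hR (MonoOver.root_of_dual (root_mis hq M.dual
    (One.dual_tilde h2 (c := -1) (by rw [smul_dotProduct, hψx, smul_zero]; ring))
    (by rw [neg_one_smul, neg_dotProduct, dotProduct_comm, smul_dotProduct, hψx, smul_zero, neg_zero])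
    (p := w) (by simp [hψ, hwp, hwr]) (by simp [hx w]) hψ0))

/-- Full support is impossible without root elements. -/
theorem root_full (M : MonoThree K) {x φ : Fin 3 → F} (h : Pseudo K x φ) (hx : ∀ i, x i ≠ 0) : Root K := by
  by_contra hR
  obtain ⟨u, hu0, hu3, hu9, -, -⟩ := exists_gen hq
  set a := φ 0 * x 0 with ha
  have hall : ∀ i, φ i * x i = a := fun i => all_equal hq M hR h hx i 0
  have h3 : a + a + a = 1 := by
    have := h.1
    rw [dotProduct, Fin.sum_univ_three, hall 1, hall 2, ← ha] at this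
    exact this
  have ha0 : a ≠ 0 := fun e => by simp [e] at h3
  have hφ : ∀ i, φ i ≠ 0 := fun i e => hx i ((zero_iff hq M hR h i).mpr e)
  set c := u ^ 3 - 1 with hc
  set d := u⁻¹ ^ 3 - 1 with hd
  have hc0 : c ≠ 0 := sub_ne_zero.mpr hu3
  have hd0 : d ≠ 0 := sub_ne_zero.mpr fun e => hu3 (by rwa [inv_pow, inv_eq_one] at e)
  have hn := h.new (pseudo_single hq M 0) hu0
  rw [dotProduct_single, mul_one, single_dotProduct, one_mul, ← hc, ← hd] at hn
  set y := (Pi.single 0 1 : Fin 3 → F) + (c * φ 0) • x with hy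
  set η := (Pi.single 0 1 : Fin 3 → F) + (d * x 0) • φ with hη
  have hy1 : ∀ i : Fin 3, i ≠ 0 → y i = c * φ 0 * x i ∧ η i = d * x 0 * φ i := fun i hi => by simp [hy, hη, hi]
  have hy0 : y 0 ≠ 0 := fun e => by
    have e1 : 1 + c * a = 0 := by rw [ha]; simpa [hy, mul_assoc] using e
    have e2 : η 0 = 0 := (zero_iff hq M hR hn 0).mp e
    have e3 : 1 + d * a = 0 := by rw [ha]; simpa [hη, mul_assoc, mul_comm (x 0)] using e2
    have hcd : c = d := mul_right_cancel₀ ha0 (by linear_combination e1 - e3)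
    have hm : u ^ 3 * u ^ 3 = 1 := by
      rw [hc, hd, sub_left_inj, inv_pow] at hcd
      field_simp at hcd
      linear_combination hcd
    have hm1 : u ^ 3 = -1 := (mul_self_eq_one_iff.mp hm).resolve_left hu3
    rw [hc, hm1] at e1
    exact ha0 (by linear_combination h3 - (1 : F) * (0 : F) + e1)
  have hfull : ∀ i, y i ≠ 0 := fun i => by
    rcases eq_or_ne i 0 with rfl | hi
    · exact hy0
    · rw [(hy1 i hi).1]; exact mul_ne_zero (mul_ne_zero hc0 (hφ 0)) (hx i)
  have h10 : (1 : Fin 3) ≠ 0 := by decide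
  have hsum := hn.1
  rw [dotProduct, Fin.sum_univ_three, all_equal hq M hR hn hfull 0 1, all_equal hq M hR hn hfull 2 1,
    (hy1 1 h10).1, (hy1 1 h10).2] at hsum
  have hca : c * d * a * a + c * d * a * a + c * d * a * a = 1 := by
    linear_combination hsum - (3 * c * d * a) * hall 1 + (3 * c * d * φ 1 * x 1) * ha
  have hcd : c * d = 3 := by linear_combination (3 : F) * hca - (c * d * (3 * a + 1)) * h3
  have hm : u ^ 3 * u ^ 3 + u ^ 3 + 1 = 0 := by
    rw [hc, hd, inv_pow] at hcd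
    field_simp at hcd
    linear_combination -hcd
  exact hu9 (by linear_combination (u ^ 3 - 1) * hm)

/-- Two non-zero products in a column are halves. -/
theorem half (M : MonoThree K) (hR : ¬ Root K) {g : GL (Fin 3) F} (hg : g ∈ Tilde K) {b p r w : Fin 3} (hr : r ≠ p)
    (hw : w ≠ p) (hrw : r ≠ w) (hxp : (g : Matrix (Fin 3) (Fin 3) F) p b ≠ 0) (hxr : (g : Matrix (Fin 3) (Fin 3) F) r b ≠ 0)
    (hxw : (g : Matrix (Fin 3) (Fin 3) F) w b = 0) :
    2 * (((g⁻¹ : GL (Fin 3) F) : Matrix (Fin 3) (Fin 3) F) b p * (g : Matrix (Fin 3) (Fin 3) F) p b) = 1 ∧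
      (2 : F) ≠ 0 := by
  have h := pseudo_column hq M hg b
  set gm := (g : Matrix (Fin 3) (Fin 3) F) with hgm
  set G := ((g⁻¹ : GL (Fin 3) F) : Matrix (Fin 3) (Fin 3) F) with hG
  have hsum : G b p * gm p b + G b r * gm r b = 1 := by
    have := h.1
    rw [dotProduct, sum_three hr hw hrw] at this
    simpa [hxw] using this
  have hGp : G b p ≠ 0 := fun e => hxp (by simpa using (zero_iff hq M hR h p).mpr (by simpa using e))
  have hGr : G b r ≠ 0 := fun e => hxr (by simpa using (zero_iff hq M hR h r).mpr (by simpa using e))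
  set A := G b p * gm p b with hA
  set B := G b r * gm r b with hB
  have hA0 : A ≠ 0 := mul_ne_zero hGp hxp
  have hB0 : B ≠ 0 := mul_ne_zero hGr hxr
  let t : Fin 3 → F := fun i => if i = p then -B / A else if i = r then 1 else -A / B
  have ht0 : ∀ i, t i ≠ 0 := fun i => by simp only [t]; split_ifs <;> simp [hA0, hB0]
  obtain ⟨D, hD, hDv⟩ := M.diag_mem t (s := 1) one_ne_zero (by
    rw [prod_three hr hw hrw, one_pow]
    simp [t, hr, hw, Ne.symm hrw]
    field_simp)
  have hy := pseudo_column hq M (Subgroup.mul_mem _ (Subgroup.mul_mem _ (Subgroup.inv_mem _ hg) hD) hg) b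
  have hi : ((D⁻¹ : GL (Fin 3) F) : Matrix (Fin 3) (Fin 3) F) = diagonal fun i => (t i)⁻¹ := by
    rw [Matrix.coe_units_inv, hDv]
    refine Matrix.inv_eq_right_inv ?_
    rw [diagonal_mul_diagonal, ← diagonal_one]
    congr 1
    funext i
    rw [mul_inv_cancel₀ (ht0 i)]
  have hz := (zero_iff hq M hR hy b).mp (by
    rw [mulVec_single_one, col_apply, Units.val_mul, Units.val_mul, hDv, mul_assoc, mul_apply,
      sum_three hr hw hrw, diagonal_mul, diagonal_mul, diagonal_mul, ← hG, ← hgm, hxw]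
    simp [t, hr]
    field_simp
    linear_combination (-B) * hA + A * hB)
  rw [_root_.mul_inv_rev, _root_.mul_inv_rev, inv_inv, single_one_vecMul, row_apply, ← mul_assoc, Units.val_mul,
    Units.val_mul, hi, mul_apply, sum_three hr hw hrw, mul_diagonal, mul_diagonal, mul_diagonal, ← hG, ← hgm,
    hxw] at hz
  simp [t, hr] at hz
  field_simp at hz
  have hAB : A = B := by
    have e : (A - B) * (A + B) = 0 := by linear_combination -hz
    rw [hsum, mul_one] at e
    exact sub_eq_zero.mp e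
  have h2A : 2 * A = 1 := by linear_combination hsum - (1 : F) * (0 : F) + hAB
  exact ⟨h2A, fun e => by rw [e, zero_mul] at h2A; exact zero_ne_one h2A⟩

/-- A column with two non-zero entries gives a root element. -/
theorem root_two (M : MonoThree K) {g : GL (Fin 3) F} (hg : g ∈ Tilde K) {b p r w : Fin 3} (hr : r ≠ p)
    (hw : w ≠ p) (hrw : r ≠ w) (hxp : (g : Matrix (Fin 3) (Fin 3) F) p b ≠ 0) (hxr : (g : Matrix (Fin 3) (Fin 3) F) r b ≠ 0)
    (hxw : (g : Matrix (Fin 3) (Fin 3) F) w b = 0) : Root K := by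
  by_contra hR
  obtain ⟨u, hu0, hu3, -, hu1, -⟩ := exists_gen hq
  obtain ⟨hAp, h2⟩ := half hq M hR hg hr hw hrw hxp hxr hxw
  have h := pseudo_column hq M hg b
  set x := (g : Matrix (Fin 3) (Fin 3) F) *ᵥ Pi.single b 1 with hx
  set φ := (Pi.single b 1 : Fin 3 → F) ᵥ* ((g⁻¹ : GL (Fin 3) F) : Matrix (Fin 3) (Fin 3) F) with hφ
  have exi : ∀ i, x i = (g : Matrix (Fin 3) (Fin 3) F) i b := fun i => by simp [hx]
  have eφi : ∀ i, φ i = ((g⁻¹ : GL (Fin 3) F) : Matrix (Fin 3) (Fin 3) F) b i := fun i => by simp [hφ]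
  have hA : 2 * (φ p * x p) = 1 := by rw [exi, eφi]; exact hAp
  have hφw : φ w = 0 := (zero_iff hq M hR h w).mp (by rw [exi, hxw])
  by_cases hm : u ^ 3 = -1
  · -- the multiplier is minus one
    let t : Fin 3 → F := fun i => if i = p then u else if i = r then 1 else u⁻¹
    obtain ⟨D, hD, hDv⟩ := M.diag_mem t (s := 1) one_ne_zero (by
      rw [prod_three hr hw hrw, one_pow]
      simp [t, hr, hw, Ne.symm hrw, hu0])
    have hY : g⁻¹ * D * g ∈ Tilde K := Subgroup.mul_mem _ (Subgroup.mul_mem _ (Subgroup.inv_mem _ hg) hD) hg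
    have hy := pseudo_column hq M hY b
    set y := ((g⁻¹ * D * g : GL (Fin 3) F) : Matrix (Fin 3) (Fin 3) F) *ᵥ Pi.single b 1 with hyd
    set η := (Pi.single b 1 : Fin 3 → F) ᵥ* (((g⁻¹ * D * g)⁻¹ : GL (Fin 3) F) : Matrix (Fin 3) (Fin 3) F) with hηd
    have hB : φ r * x r = φ p * x p := by
      have := h.1
      rw [dotProduct, sum_three hr hw hrw, hφw, zero_mul, add_zero] at this
      linear_combination this - hA
    have hyb : 2 * y b = u + 1 := by
      have e : y b = φ ⬝ᵥ ((D : Matrix (Fin 3) (Fin 3) F) *ᵥ x) := by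
        rw [hyd, Units.val_mul, Units.val_mul, ← mulVec_mulVec, ← mulVec_mulVec, ← hx, hφ, ← dotProduct_mulVec,
          single_dotProduct, one_mul]
      rw [e, hDv, dotProduct, sum_three hr hw hrw, mulVec_diagonal, mulVec_diagonal, mulVec_diagonal, hφw]
      simp only [t, if_true, hr, if_false, zero_mul, add_zero, one_mul]
      linear_combination (u + 1) * hA + 2 * hB
    have hηb : 2 * η b = u⁻¹ + 1 := by
      have hi : ((D⁻¹ : GL (Fin 3) F) : Matrix (Fin 3) (Fin 3) F) = diagonal fun i => (t i)⁻¹ := by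
        rw [Matrix.coe_units_inv, hDv]
        refine Matrix.inv_eq_right_inv ?_
        rw [diagonal_mul_diagonal, ← diagonal_one]
        congr 1
        funext i
        refine mul_inv_cancel₀ ?_
        simp only [t]; split_ifs <;> simp [hu0]
      have e : η b = (φ ᵥ* ((D⁻¹ : GL (Fin 3) F) : Matrix (Fin 3) (Fin 3) F)) ⬝ᵥ x := by
        rw [hηd, _root_.mul_inv_rev, _root_.mul_inv_rev, inv_inv, ← mul_assoc, Units.val_mul, Units.val_mul,
          ← vecMul_vecMul, ← vecMul_vecMul, ← hφ, hx, dotProduct_mulVec, dotProduct_single, mul_one]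
      rw [e, hi, dotProduct, sum_three hr hw hrw, vecMul_diagonal, vecMul_diagonal, vecMul_diagonal, hφw]
      simp only [t, if_true, hr, if_false, zero_mul, add_zero, inv_one, mul_one]
      linear_combination (u⁻¹ + 1) * hA + 2 * hB
    have hu1' : u + 1 ≠ 0 := fun e => hu1 (eq_neg_of_add_eq_zero_left e)
    have hyb0 : y b ≠ 0 := fun e => hu1' (by rw [← hyb, e, mul_zero])
    obtain ⟨c, d, hc, hd, hcd, hall⟩ := three_others b
    have eyi : ∀ i, y i = ((g⁻¹ * D * g : GL (Fin 3) F) : Matrix (Fin 3) (Fin 3) F) i b := fun i => by simp [hyd]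
    have eηi : ∀ i, η i = (((g⁻¹ * D * g)⁻¹ : GL (Fin 3) F) : Matrix (Fin 3) (Fin 3) F) b i := fun i => by
      simp [hηd]
    have hv : 2 * (η b * y b) = 1 ∨ η b * y b = 1 := by
      by_cases h1 : y c = 0 <;> by_cases h2' : y d = 0
      · right
        have := hy.1
        rwa [dotProduct, sum_three hc hd hcd, h1, h2', mul_zero, mul_zero, add_zero, add_zero] at this
      · left
        have := (half hq M hR hY (b := b) (p := b) (r := d) (w := c) hd hc (Ne.symm hcd) (by rwa [← eyi])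
          (by rwa [← eyi]) (by rwa [← eyi])).1
        rwa [eηi, eyi]
      · left
        have := (half hq M hR hY (b := b) (p := b) (r := c) (w := d) hc hd hcd (by rwa [← eyi])
          (by rwa [← eyi]) (by rwa [← eyi])).1
        rwa [eηi, eyi]
      · exact absurd (root_full hq M hy fun i => by rcases hall i with rfl | rfl | rfl <;> assumption) hR
    have huu : u⁻¹ * u = 1 := inv_mul_cancel₀ hu0
    rcases hv with hv | hv
    · have e : u * u = -1 := by
        linear_combination (2 * u) * hv - (2 * u * η b) * hyb - (u * (u + 1)) * hηb + (-(u + 1)) * huu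
      exact h2 (by linear_combination (-(u * u * u + -1)) * hm + (u * u * (u * u) - u * u + 1) * e)
    · have e : (u - 1) * (u - 1) = 0 := by
        linear_combination (4 * u) * hv - (2 * u * η b) * hyb - (u * (u + 1)) * hηb + (-(u + 1)) * huu
      exact hu3 (by rw [sub_eq_zero.mp (mul_self_eq_zero.mp e), one_pow])
  · -- move the second point outside the support
    let π := Equiv.swap r w
    let P : Matrix (Fin 3) (Fin 3) F := fun i j => if i = π j then 1 else 0
    have hPP : P * P = 1 := by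
      ext i j
      rw [mul_apply, Finset.sum_eq_single (π i)]
      · simp [P, π, one_apply]
      · intro c _ hc
        have : i ≠ π c := fun e => hc (by rw [e]; simp [π])
        simp [P, this]
      · simp
    let k : GL (Fin 3) F := ⟨P, P, hPP, hPP⟩
    have hPdet : P.det = -1 := by
      have e : P = π.permMatrix F := by
        ext i j
        have : (j = π i) ↔ i = π j := by constructor <;> rintro rfl <;> simp [π]
        simp [P, PEquiv.toMatrix_apply, Equiv.Perm.permMatrix, this, eq_comm]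
      rw [e, det_permutation, Equiv.Perm.sign_swap hrw]
      simp
    have hk : k ∈ Tilde K := M.mem_tilde_of_mono ⟨π, fun i j hij => if_neg hij⟩ (neg_ne_zero.mpr one_ne_zero) (by
      show P.det = _
      rw [hPdet]; ring)
    have h' := h.conj hk
    set x' := (k : Matrix (Fin 3) (Fin 3) F) *ᵥ x with hx'
    have hkx : ∀ i, x' i = x (π i) := fun i => by
      show (P *ᵥ x) i = _
      have hj : ∀ j, i = π j ↔ j = π i := fun j => by constructor <;> rintro rfl <;> simp [π]
      simp [P, mulVec, dotProduct, hj]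
    have e1 : x' p = x p := by rw [hkx]; simp [π, Equiv.swap_apply_of_ne_of_ne (Ne.symm hr) (Ne.symm hw)]
    have e2 : x' r = 0 := by rw [hkx]; simp [π, exi, hxw]
    have e3 : x' w = x r := by rw [hkx]; simp [π]
    have hn := h.new h' hu0
    have hφx' : φ ⬝ᵥ x' = φ p * x p := by
      rw [dotProduct, sum_three hr hw hrw, e1, e2, hφw, mul_zero, zero_mul, add_zero, add_zero]
    rw [hφx'] at hn
    refine hR (root_full hq M hn fun i => ?_)
    simp only [Pi.add_apply, Pi.smul_apply, smul_eq_mul]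
    obtain rfl | rfl | rfl := cover_three hr hw hrw i
    · rw [e1]
      intro e
      refine hm ?_
      have h5 : x i * (2 + (u ^ 3 - 1)) = 0 := by linear_combination 2 * e - ((u ^ 3 - 1) * x i) * hA
      have h6 := (mul_eq_zero.mp h5).resolve_left (by rw [exi]; exact hxp)
      linear_combination h6
    · rw [e2, zero_add]
      exact mul_ne_zero (mul_ne_zero (sub_ne_zero.mpr hu3) (fun e => by simp [e] at hA)) (by rw [exi]; exact hxr)
    · rw [e3, show x i = 0 by rw [exi]; exact hxw, mul_zero, add_zero, exi]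
      exact hxr

/-- An overgroup of the monomial group is monomial or contains the special linear group. -/
theorem MonoThree.dichotomy (M : MonoThree K) {g : GL (Fin 3) F} (hg : g ∈ K)
    (hgm : ¬ Mono (g : Matrix (Fin 3) (Fin 3) F)) : Cfsg.Geo.specialLinear (Fin 3) F ≤ K := by
  have hroot : Root K := by
    obtain ⟨b, p, r, hpr, hp, hr⟩ := MonoOver.exists_big_column hgm
    obtain ⟨w, hwp, hwr, hall⟩ := exists_third hpr
    have hgT : g ∈ Tilde K := Subgroup.mem_sup_left hg
    by_cases hw : (g : Matrix (Fin 3) (Fin 3) F) w b = 0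
    · exact root_two hq M hgT (Ne.symm hpr) hwp (Ne.symm hwr) hp hr hw
    · refine root_full hq M (pseudo_column hq M hgT b) fun i => ?_
      rw [mulVec_single_one, col_apply]
      obtain rfl | rfl | rfl := hall i
      all_goals assumption
  obtain ⟨i, j, c, hij, hc, h⟩ := hroot
  refine specialLinear_le fun a b hab d => ?_
  obtain ⟨τ, hτi, hτj⟩ := exists_perm_pair hij hab
  let A : Matrix (Fin 3) (Fin 3) F := fun x y => if x = τ y then ((Equiv.Perm.sign τ : ℤ) : F) else 0
  have hA : A = ((Equiv.Perm.sign τ : ℤ) : F) • τ⁻¹.permMatrix F := by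
    ext x y
    have : (y = τ.symm x) ↔ x = τ y := by constructor <;> rintro rfl <;> simp
    simp [A, PEquiv.toMatrix_apply, Equiv.Perm.permMatrix, this, eq_comm]
  set ε := ((Equiv.Perm.sign τ : ℤ) : F) with hε
  have hεε : ε * ε = 1 := by rw [hε, ← Int.cast_mul, ← Units.val_mul, Int.units_mul_self]; simp
  have hε0 : ε ≠ 0 := fun e => by simp [e] at hεε
  have hdet : A.det = 1 := by
    rw [hA, det_smul, det_permutation, Fintype.card_fin, Equiv.Perm.sign_inv, ← hε,
      show ε ^ 3 * ε = (ε * ε) * (ε * ε) by ring, hεε, one_mul]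
  let k : GL (Fin 3) F := Matrix.GeneralLinearGroup.mkOfDetNeZero A (by rw [hdet]; exact one_ne_zero)
  have hk : k ∈ K := M.fix _ hdet ⟨τ, fun x y hxy => if_neg hxy⟩
  have h1 := h.conj hk
  rw [show (k : Matrix (Fin 3) (Fin 3) F) *ᵥ Pi.single i c = Pi.single a (ε * c) from funext fun x => by
      show (A *ᵥ Pi.single i c) x = _
      rw [mulVec_single]
      rcases eq_or_ne x a with rfl | hx
      · simp [A, col, transpose, hτi, ← hε, mul_comm]
      · simp [A, col, transpose, hτi, hx, ← hε],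
    vecMul_inv_of (ψ := Pi.single b ε⁻¹) (funext fun y => by
      show (Pi.single b ε⁻¹ ᵥ* A) y = _
      rw [single_vecMul]
      rcases eq_or_ne y j with rfl | hy
      · simp [row, A, hτj, hε0, ← hε]
      · have : b ≠ τ y := fun e => hy (τ.injective (by rw [← e, hτj]))
        simp [row, A, this, hy])] at h1
  obtain ⟨o, hoa, hob, -⟩ := exists_third hab
  rcases eq_or_ne d 0 with rfl | hd
  · simpa using (One.zero (G := K) (Pi.single a (1 : F))).congr (y := Pi.single a 0) (ψ := Pi.single b 1) (by simp)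
  have h2 : One (Tilde K) (Pi.single a c) (Pi.single b (1 : F)) := by
    obtain ⟨e, he, hev⟩ := h1
    refine ⟨e, Subgroup.mem_sup_left he, hev.trans ?_⟩
    congr 1
    ext x y
    simp only [vecMulVec_apply, Pi.single_apply]
    split_ifs <;> simp [mul_comm ε c, mul_assoc, hε0]
  let t : Fin 3 → F := fun x => if x = a then d / c else if x = b then 1 else c / d
  have h3 := M.conj_diag h2 t (s := 1) one_ne_zero (by
    rw [prod_three (Ne.symm hab) hoa (Ne.symm hob), one_pow]
    simp [t, Ne.symm hab, hoa, hob]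
    field_simp)
  refine M.lower (h3.congr ?_) (by simp [hab, Ne.symm hab])
  congr 1
  · funext x
    rcases eq_or_ne x a with rfl | hx
    · simp [t, div_mul_cancel₀ _ hc]
    · simp [hx]
  · funext x
    rcases eq_or_ne x b with rfl | hx
    · simp [t, Ne.symm hab]
    · simp [hx]

end Main

/-- The stabiliser of three independent lines is maximal. -/
theorem decomposition_maximal [Fintype F] (hq : 5 ≤ Fintype.card F) {D : Fin 3 → Submodule F (Fin 3 → F)}
    (hD : Cfsg.Geo.IsMDecomposition 1 D) :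
    Cfsg.Geo.IsMaximalIn (Cfsg.Geo.specialLinear (Fin 3) F)
      (Cfsg.Geo.decompositionStabilizer D ⊓ Cfsg.Geo.specialLinear (Fin 3) F) := by
  classical
  obtain ⟨b₀, hb₀⟩ := exists_adapted_basis hD
  let b : Module.Basis (Fin 3) F (Fin 3 → F) := b₀.reindex (Equiv.prodUnique (Fin 3) (Fin 1))
  have hb : ∀ i, ∀ x ∈ D i, ∀ j, j ≠ i → b.repr x j = 0 := fun i x hx j hji => by
    rw [Module.Basis.repr_reindex_apply]
    exact hb₀ i x hx _ _ hji
  have hspan : ∀ i, D i = Submodule.span F {b i} := fun i => by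
    refine Submodule.eq_of_le_of_finrank_le (fun x hx => ?_) ?_
    · refine Submodule.mem_span_singleton.mpr ⟨b.repr x i, ?_⟩
      conv_rhs => rw [← b.sum_repr x]
      rw [Finset.sum_eq_single i (fun j _ hji => by rw [hb i x hx j hji, zero_smul]) (by simp)]
    · rw [hD.finrank_eq, finrank_span_singleton (b.ne_zero i)]
  let e : GL (Fin 3) F ≃* GL (Fin 3) F :=
    Units.mapEquiv ((Matrix.toLinAlgEquiv').trans (LinearMap.toMatrixAlgEquiv b)).toMulEquiv
  have hentry : ∀ (g : GL (Fin 3) F) a c,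
      (e g : Matrix (Fin 3) (Fin 3) F) a c = b.repr ((g : Matrix (Fin 3) (Fin 3) F) *ᵥ b c) a := fun g a c => by
    show LinearMap.toMatrixAlgEquiv b (Matrix.toLinAlgEquiv' (g : Matrix (Fin 3) (Fin 3) F)) a c = _
    rw [LinearMap.toMatrixAlgEquiv_apply]
    rfl
  have hdet : ∀ g : GL (Fin 3) F, (e g : Matrix (Fin 3) (Fin 3) F).det = (g : Matrix (Fin 3) (Fin 3) F).det :=
    fun g => by
    show (LinearMap.toMatrix b b (Matrix.toLin' (g : Matrix (Fin 3) (Fin 3) F))).det = _
    rw [LinearMap.det_toMatrix, LinearMap.det_toLin']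
  have hSL : ∀ g : GL (Fin 3) F, g ∈ Cfsg.Geo.specialLinear (Fin 3) F ↔ (g : Matrix (Fin 3) (Fin 3) F).det = 1 := by
    intro g
    rw [← Matrix.GeneralLinearGroup.val_det_apply, Units.val_eq_one]
    rfl
  have hstab : ∀ g, g ∈ Cfsg.Geo.decompositionStabilizer D ↔ Mono (e g : Matrix (Fin 3) (Fin 3) F) := by
    intro g
    constructor
    · rintro ⟨σ, hσ⟩
      refine ⟨σ, fun a c hac => ?_⟩
      rw [hentry]
      refine hb (σ c) _ (mulVec_mem_of_decomposition hσ ?_) a hac
      rw [hspan]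
      exact Submodule.mem_span_singleton_self _
    · rintro ⟨σ, hσ⟩
      refine ⟨σ, fun i => ?_⟩
      have himg : (g : Matrix (Fin 3) (Fin 3) F) *ᵥ b i = (e g : Matrix (Fin 3) (Fin 3) F) (σ i) i • b (σ i) := by
        conv_lhs => rw [← b.sum_repr ((g : Matrix (Fin 3) (Fin 3) F) *ᵥ b i)]
        simp only [← hentry]
        rw [Finset.sum_eq_single (σ i) (fun j _ hj => by rw [hσ j i hj, zero_smul]) (by simp)]
      rw [hspan i, hspan (σ i), Submodule.map_span, Set.image_singleton, Matrix.toLin'_apply, himg]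
      refine Submodule.span_singleton_smul_eq (Ne.isUnit fun h0 => ?_) _
      rw [h0, zero_smul] at himg
      exact GL_ne_zero_mulVec g (b.ne_zero i) himg
  refine ⟨lt_of_le_of_ne inf_le_right fun he => ?_, fun K hK1 hK2 => ?_⟩
  · have h01 : (0 : Fin 3) ≠ 1 := by decide
    have hd : 1 + (Pi.single 1 1 : Fin 3 → F) ⬝ᵥ Pi.single 0 1 = 1 := by simp [h01, Ne.symm h01]
    let T := mkGL (Pi.single 0 1 : Fin 3 → F) (Pi.single 1 1) (by rw [hd]; exact one_ne_zero)
    have hT : e.symm T ∈ Cfsg.Geo.specialLinear (Fin 3) F := by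
      rw [hSL, ← hdet, MulEquiv.apply_symm_apply, mkGL_val, det_one', hd]
    obtain ⟨σ, hσ⟩ := (hstab _).mp (he.symm ▸ hT : e.symm T ∈ Cfsg.Geo.decompositionStabilizer D ⊓ _).1
    rw [MulEquiv.apply_symm_apply, mkGL_val] at hσ
    have e1 : σ 1 = 1 := by
      by_contra hne
      have := hσ 1 1 (Ne.symm hne)
      simp [vecMulVec_apply, h01, Ne.symm h01] at this
    have := hσ 0 1 (by rw [e1]; exact h01)
    simp [vecMulVec_apply, h01] at this
  by_cases hall : ∀ g ∈ K, Mono (e g : Matrix (Fin 3) (Fin 3) F)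
  · exact Or.inl (le_antisymm (fun g hg => ⟨(hstab g).mpr (hall g hg), hK2 hg⟩) hK1)
  push Not at hall
  obtain ⟨g, hg, hgb⟩ := hall
  refine Or.inr (le_antisymm hK2 fun x hx => ?_)
  have hM : MonoThree (K.map e.toMonoidHom) :=
    ⟨by rintro _ ⟨y, hy, rfl⟩; exact (hdet y).trans ((hSL y).mp (hK2 hy)), fun A hA hB =>
      ⟨e.symm A, hK1 ⟨(hstab _).mpr (by rwa [MulEquiv.apply_symm_apply]), (hSL _).mpr (by
        rw [← hdet, MulEquiv.apply_symm_apply, hA])⟩, e.apply_symm_apply A⟩⟩
  obtain ⟨y, hy, hye⟩ := hM.dichotomy hq (g := e g) ⟨g, hg, rfl⟩ hgb ((hSL (e x)).mpr (by rw [hdet, (hSL x).mp hx]))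
  exact (e.injective hye) ▸ hy

end Cfsg.Lib.Classical.SLThree
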