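import Mathlib
import Cfsg.Agent.Classical.Orth.InSLSmall
import Cfsg.Agent.Classical.MaxBridge
import Cfsg.Prelude.Def_GeometricClasses

/-! The orthogonal similitudes are maximal in the special linear group in dimension three.

A transvection with non-singular centre is spread by reflections: the multipliers of its axis vector form a ring
containing all squares. -/

set_option autoImplicit false
set_option linter.unusedVariables false
set_option linter.unusedSimpArgs false
set_option linter.style.haveILetI false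

namespace Cfsg.Lib.Classical

universe u v

variable {F : Type u} [Field F] {V : Type v} [AddCommGroup V] [Module F V] {B : LinearMap.BilinForm F V}
  {K : Subgroup (slGroup F V)}

namespace SymSpace

/-- The reflection in `a`, as a function. -/
def rfx (B : LinearMap.BilinForm F V) (a z : V) : V := z + (-2 * B z a / B a a) • a

theorem rfx_fix {a z : V} (h : B z a = 0) : rfx B a z = z := by
  rw [rfx, h, mul_zero, zero_div, zero_smul, add_zero]

theorem rfx_self {a : V} (h : B a a ≠ 0) : rfx B a a = -a := by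
  rw [rfx, mul_div_assoc, div_self h, mul_one]
  module

variable (S : SymSpace B)

include S

/-- The product of two reflections. -/
theorem exists_rfx_mul [FiniteDimensional F V] {a b : V} (ha : B a a ≠ 0) (hb : B b b ≠ 0) :
    ∃ s : slGroup F V, (∀ p q, B ((s : V ≃ₗ[F] V) p) ((s : V ≃ₗ[F] V) q) = B p q) ∧
      ∀ z, (s : V ≃ₗ[F] V) z = rfx B a (rfx B b z) := by
  set f : V →ₗ[F] V := LinearMap.transvection ((-2 / B a a) • B.flip a) a ∘ₗ
    LinearMap.transvection ((-2 / B b b) • B.flip b) b
  have hf : ∀ z, f z = rfx B a (rfx B b z) := fun z => by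
    simp only [f, rfx, LinearMap.comp_apply, LinearMap.transvection.apply, LinearMap.smul_apply,
      LinearMap.BilinForm.flip_apply, smul_eq_mul, div_mul_eq_mul_div]
  have hdet : LinearMap.det f = 1 := by
    rw [LinearMap.det_comp, LinearMap.transvection.det, LinearMap.transvection.det]
    simp only [LinearMap.smul_apply, LinearMap.BilinForm.flip_apply, smul_eq_mul, div_mul_cancel₀ _ ha,
      div_mul_cancel₀ _ hb]
    ring
  let e : V ≃ₗ[F] V := f.equivOfDetNeZero (by rw [hdet]; exact one_ne_zero)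
  have he : ∀ z, e z = f z := fun z => rfl
  refine ⟨⟨e, ?_⟩, fun p q => ?_, fun z => (he z).trans (hf z)⟩
  · rw [slGroup, MonoidHom.mem_ker]
    apply Units.ext
    rw [LinearEquiv.coe_det, Units.val_one, show e.toLinearMap = f from LinearMap.ext he, hdet]
  · have hiso : ∀ c : V, B c c ≠ 0 → ∀ p q, B (rfx B c p) (rfx B c q) = B p q := fun c hc p q => by
      simp only [rfx, map_add, map_smul, LinearMap.add_apply, LinearMap.smul_apply, smul_eq_mul, S.symm c q]
      field_simp
      ring
    change B (e p) (e q) = _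
    rw [he, he, hf, hf, hiso a ha, hiso b hb]

/-- Coordinates in a hyperbolic pair and a vector orthogonal to it. -/
theorem frame_dec [FiniteDimensional F V] (hd : Module.finrank F V = 3) {r r' e : V} (hr : B r r = 0)
    (hr' : B r' r' = 0) (hrr : B r r' = 1) (her : B e r = 0) (her' : B e r' = 0) (he : e ≠ 0) :
    B e e ≠ 0 ∧ ∀ z, z = B z r' • r + B z r • r' + (B z e / B e e) • e := by
  set U := LinearMap.BilinForm.orthogonal B (Submodule.span F (Set.range ![r, r']))
  have hU : Module.finrank F U = 1 := by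
    rw [LinearMap.BilinForm.finrank_orthogonal S.nondegenerate, finrank_span_eq_card, Fintype.card_fin, hd]
    refine LinearIndependent.pair_iff.mpr fun s t h => ?_
    have h1 := congrArg (B r) h
    have h2 := congrArg (B r') h
    simp only [map_add, map_smul, hr, hr', hrr, S.symm r' r, smul_eq_mul, map_zero, mul_zero, mul_one, zero_add,
      add_zero] at h1 h2
    exact ⟨h2, h1⟩
  have hmem : ∀ w, B w r = 0 → B w r' = 0 → w ∈ U := fun w h1 h2 => by
    have hle : Submodule.span F (Set.range ![r, r']) ≤ LinearMap.ker (B w) := Submodule.span_le.mpr (by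
      rintro _ ⟨i, rfl⟩
      fin_cases i
      · exact h1
      · exact h2)
    intro y hy
    show B y w = 0
    rw [S.symm]
    exact hle hy
  have hline : ∀ w, B w r = 0 → B w r' = 0 → ∃ k : F, k • e = w := fun w h1 h2 => by
    obtain ⟨k, hk⟩ := (finrank_eq_one_iff_of_nonzero' (⟨e, hmem e her her'⟩ : U)
      (fun h => he (congrArg Subtype.val h))).mp hU ⟨w, hmem w h1 h2⟩
    exact ⟨k, congrArg Subtype.val hk⟩
  have hp : ∀ z, ∃ k : F, z = B z r' • r + B z r • r' + k • e := fun z => by
    obtain ⟨k, hk⟩ := hline (z - B z r' • r - B z r • r')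
      (by simp [hr, hrr, S.symm r' r]) (by simp [hr', hrr])
    exact ⟨k, by rw [hk]; abel⟩
  have hee : B e e ≠ 0 := fun h0 => he (S.nondeg e fun z => by
    obtain ⟨k, hk⟩ := hp z
    rw [hk]
    simp [her, her', h0])
  refine ⟨hee, fun z => ?_⟩
  obtain ⟨k, hk⟩ := hp z
  have : B z e = k * B e e := by
    conv_lhs => rw [hk]
    simp [S.symm r e, S.symm r' e, her, her']
  conv_lhs => rw [hk]
  rw [this, mul_div_cancel_right₀ _ hee]

/-- A frame starting with a given singular vector. -/
theorem exists_frame [FiniteDimensional F V] (hd : Module.finrank F V = 3) {r : V} (hr0 : r ≠ 0) (hr : B r r = 0) :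
    ∃ r' e, B r' r' = 0 ∧ B r r' = 1 ∧ B e r = 0 ∧ B e r' = 0 ∧ e ≠ 0 := by
  obtain ⟨r', hr', hrr⟩ := S.exists_partner hr0 hr
  obtain ⟨e, he0, he⟩ := S.exists_perp ![r, r'] (by omega)
  exact ⟨r', e, hr', hrr, he 0, he 1, he0⟩

omit S in
/-- The axis vectors of the transvections with the given centre. -/
def axesAt (B : LinearMap.BilinForm F V) (K : Subgroup (slGroup F V)) (x : V) : AddSubgroup V where
  carrier := {h | ∃ e : (B.flip h) x = 0, slT (B.flip h) x e ∈ K}
  zero_mem' := ⟨by simp, by
    convert K.one_mem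
    exact slGroup.ext' fun z => by rw [slT_apply]; simp⟩
  add_mem' := fun {p q} ⟨ep, hp⟩ ⟨eq, hq⟩ => by
    refine ⟨by simp only [LinearMap.BilinForm.flip_apply] at ep eq ⊢; simp [ep, eq], ?_⟩
    convert K.mul_mem hp hq using 1
    rw [← slT_mul]
    exact slT_congr fun z => by simp
  neg_mem' := fun {p} ⟨ep, hp⟩ => by
    refine ⟨by simp only [LinearMap.BilinForm.flip_apply] at ep ⊢; simp [ep], ?_⟩
    convert K.inv_mem hp using 1
    refine eq_inv_of_mul_eq_one_left ?_
    rw [← slT_mul]
    exact slGroup.ext' fun z => by rw [slT_apply]; simp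

variable (hM : ∀ g : slGroup F V, (∀ a b, B ((g : V ≃ₗ[F] V) a) ((g : V ≃ₗ[F] V) b) = B a b) → g ∈ K)

include hM

/-- Transporting a transvection by an isometry. -/
theorem slT_transport {s : slGroup F V} (hs : ∀ p q, B ((s : V ≃ₗ[F] V) p) ((s : V ≃ₗ[F] V) q) = B p q) {x h : V}
    (e : (B.flip h) x = 0) (hT : slT (B.flip h) x e ∈ K) :
    ∃ e' : (B.flip ((s : V ≃ₗ[F] V) h)) ((s : V ≃ₗ[F] V) x) = 0,
      slT (B.flip ((s : V ≃ₗ[F] V) h)) ((s : V ≃ₗ[F] V) x) e' ∈ K := by
  refine ⟨by rw [LinearMap.BilinForm.flip_apply] at e ⊢; rw [hs, e], ?_⟩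
  have := K.mul_mem (K.mul_mem (hM s hs) hT) (K.inv_mem (hM s hs))
  rw [slT_conj] at this
  convert this using 1
  refine slT_congr fun z => ?_
  simp only [LinearMap.comp_apply, LinearEquiv.coe_coe, LinearMap.BilinForm.flip_apply]
  rw [← hs (((s⁻¹ : slGroup F V) : V ≃ₗ[F] V) z) h, slGroup.apply_inv_self]

theorem axesAt_map {s : slGroup F V} (hs : ∀ p q, B ((s : V ≃ₗ[F] V) p) ((s : V ≃ₗ[F] V) q) = B p q) {x h : V}
    (hx : (s : V ≃ₗ[F] V) x = x ∨ (s : V ≃ₗ[F] V) x = -x) (hh : h ∈ axesAt B K x) :
    (s : V ≃ₗ[F] V) h ∈ axesAt B K x := by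
  obtain ⟨e, hT⟩ := hh
  obtain ⟨e', hT'⟩ := S.slT_transport hM hs e hT
  rcases hx with hx | hx
  · simp only [hx] at e' hT'
    exact ⟨e', hT'⟩
  · have : -(s : V ≃ₗ[F] V) h ∈ axesAt B K x := by
      refine ⟨by simpa [LinearMap.BilinForm.flip_apply, hx] using e', ?_⟩
      convert hT' using 1
      exact slT_congr fun z => by simp [hx, LinearMap.BilinForm.flip_apply]
    simpa using (axesAt B K x).neg_mem this

/-- One full centre generates everything. -/
theorem top_of_centre [Finite F] [FiniteDimensional F V] (hd : Module.finrank F V = 3) {x : V} (hx : x ≠ 0)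
    (hxC : x ∈ slCentres K) : K = ⊤ := by
  have h2 := S.two
  obtain ⟨r, hr, hxr⟩ : ∃ r, B r r = 0 ∧ B x r ≠ 0 := by
    by_contra hc
    push Not at hc
    obtain ⟨r, -, hr0, hr⟩ := S.exists_singular_mem ⊤ (by rw [finrank_top, hd])
    obtain ⟨r', e, hr', hrr, her, her', he⟩ := S.exists_frame hd hr0 hr
    obtain ⟨hee, hdec⟩ := S.frame_dec hd hr hr' hrr her her' he
    have h1 := hc (r + (-(B e e) / 2) • r' + e) (by
      simp only [map_add, map_smul, LinearMap.add_apply, LinearMap.smul_apply, smul_eq_mul, hr, hr', hrr, her, her',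
        S.symm r e, S.symm r' e, S.symm r' r]
      field_simp
      ring)
    rw [map_add, map_add, map_smul, hc r hr, hc r' hr', smul_zero, zero_add, zero_add] at h1
    apply hx
    rw [hdec x, hc r hr, hc r' hr', h1, zero_div, zero_smul, zero_smul, zero_smul, add_zero, add_zero]
  have hr0 : r ≠ 0 := fun h => hxr (by simp [h])
  obtain ⟨r', e, hr', hrr, her, her', he⟩ := S.exists_frame hd hr0 hr
  obtain ⟨hee, hdec⟩ := S.frame_dec hd hr hr' hrr her her' he
  set W := slCentreSpace K
  have hxW : x ∈ W := hxC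
  have hmap : ∀ s : slGroup F V, (∀ p q, B ((s : V ≃ₗ[F] V) p) ((s : V ≃ₗ[F] V) q) = B p q) → ∀ z ∈ W,
      (s : V ≃ₗ[F] V) z ∈ W := fun s hs z hz => slCentres_map hz (hM s hs)
  obtain ⟨m₁, hm₁, ha₁⟩ := S.exists_siegel hr her
  obtain ⟨m₂, hm₂, ha₂⟩ := S.exists_siegel hr (w := -e) (by simp [her])
  have b1 := hmap m₁ hm₁ x hxW
  have b2 := hmap m₂ hm₂ x hxW
  rw [ha₁] at b1
  rw [ha₂] at b2
  simp only [map_neg, LinearMap.neg_apply, neg_neg] at b2
  have hrW : r ∈ W := by
    have := W.smul_mem (-(B e e * B x r))⁻¹ (W.sub_mem (W.add_mem b1 b2) (W.smul_mem (2 : F) hxW))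
    convert this using 1
    match_scalars <;> field_simp <;> ring
  have heW : e ∈ W := by
    have := W.smul_mem (2 * B x r)⁻¹ (W.add_mem (W.sub_mem b1 b2) (W.smul_mem (2 * B x e) hrW))
    convert this using 1
    match_scalars <;> field_simp <;> ring
  obtain ⟨m₃, hm₃, ha₃⟩ := S.exists_siegel hr' her'
  have b3 := hmap m₃ hm₃ r hrW
  rw [ha₃, hrr, S.symm r e, her, one_smul, zero_add, mul_one] at b3
  have hr'W : r' ∈ W := by
    have := W.smul_mem (-(B e e / 2))⁻¹ (W.sub_mem b3 (W.add_mem hrW heW))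
    convert this using 1
    match_scalars <;> field_simp <;> ring
  refine slGroup_eq_top_of_transvections fun y => ?_
  show y ∈ W
  rw [hdec y]
  exact W.add_mem (W.add_mem (W.smul_mem _ hrW) (W.smul_mem _ hr'W)) (W.smul_mem _ heW)

/-- All axis vectors make a full centre. -/
theorem top_of_axesAt [Finite F] [FiniteDimensional F V] (hd : Module.finrank F V = 3) {x : V} (hx : x ≠ 0)
    (hall : ∀ w, B x w = 0 → w ∈ axesAt B K x) : K = ⊤ := by
  refine S.top_of_centre hM hd hx fun φ hφ => ?_
  obtain ⟨w, hw⟩ := S.exists_rep φ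
  obtain ⟨e, he⟩ := hall w (by rw [hw, hφ])
  convert he using 1
  exact slT_congr fun z => by rw [LinearMap.BilinForm.flip_apply, hw]

/-- A transvection with non-singular centre and singular axis vector generates everything. -/
theorem top_of_singular_axis [Finite F] [FiniteDimensional F V] (hd : Module.finrank F V = 3) {x h : V}
    (hx : B x x ≠ 0) (hh0 : h ≠ 0) (hhh : B h h = 0) (hh : h ∈ axesAt B K x) : K = ⊤ := by
  have h2 := S.two
  have hxh : B x h = 0 := hh.1
  obtain ⟨q, hq⟩ := S.exists_one hh0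
  set q' := q - (B q x / B x x) • x
  have hq' : B h q' = 1 := by simp [q', S.symm h q, hq, S.symm h x, hxh]
  obtain ⟨hp, hhp⟩ := S.exists_singular_partner hhh hq'
  set p := q' - (B q' q' / 2) • h
  have hxp : B x p = 0 := by simp [p, q', S.symm x q, hxh, div_mul_cancel₀ _ hx]
  have hx0 : x ≠ 0 := fun e => hx (by simp [e])
  obtain ⟨-, hdec⟩ := S.frame_dec hd hhh hp hhp hxh hxp hx0
  have hph : B p h = 1 := by rw [S.symm, hhp]
  clear_value p
  have hb : B (h - p) (h - p) ≠ 0 := by
    simp only [map_sub, LinearMap.sub_apply, hhh, hp, hhp, hph]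
    intro e; exact h2 (by linear_combination -e)
  have hxb : B x (h - p) = 0 := by simp [hxh, hxp]
  have hbh : rfx B (h - p) h = p := by
    have e1 : B h (h - p) = -1 := by simp [hhh, hhp]
    have e2 : B (h - p) (h - p) = -2 := by
      simp only [map_sub, LinearMap.sub_apply, hhh, hp, hhp, hph]; ring
    rw [rfx, e2, mul_div_assoc, e1, ← mul_div_assoc, mul_div_cancel_left₀ _ (neg_ne_zero.mpr h2)]
    module
  have hmul : ∀ c : F, c • h ∈ axesAt B K x := by
    intro c
    rcases eq_or_ne c 0 with rfl | hc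
    · rw [zero_smul]; exact (axesAt B K x).zero_mem
    have ha : B (h - c⁻¹ • p) (h - c⁻¹ • p) ≠ 0 := by
      simp only [map_sub, map_smul, LinearMap.sub_apply, LinearMap.smul_apply, smul_eq_mul, hhh, hp, hhp, hph,
        mul_zero, sub_zero, zero_sub, mul_one]
      intro e; exact mul_ne_zero h2 (inv_ne_zero hc) (by linear_combination -e)
    obtain ⟨s, hs, hsz⟩ := S.exists_rfx_mul ha hb
    have hsx : (s : V ≃ₗ[F] V) x = x := by rw [hsz, rfx_fix hxb, rfx_fix (by simp [hxh, hxp])]
    have := S.axesAt_map hM hs (Or.inl hsx) hh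
    rw [hsz, hbh] at this
    convert this using 1
    have e1 : B p (h - c⁻¹ • p) = 1 := by simp [hph, hp]
    have e2 : B (h - c⁻¹ • p) (h - c⁻¹ • p) = -2 * c⁻¹ := by
      simp only [map_sub, map_smul, LinearMap.sub_apply, LinearMap.smul_apply, smul_eq_mul, hhh, hp, hhp, hph]; ring
    rw [rfx, e1, e2, mul_div_mul_left _ _ (neg_ne_zero.mpr h2), one_div, inv_inv, smul_sub, smul_smul,
      mul_inv_cancel₀ hc, one_smul]
    abel
  obtain ⟨s, hs, hsz⟩ := S.exists_rfx_mul hx hb
  have hsx : (s : V ≃ₗ[F] V) x = -x := by rw [hsz, rfx_fix hxb, rfx_self hx]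
  have hmulp : ∀ c : F, c • p ∈ axesAt B K x := fun c => by
    have := S.axesAt_map hM hs (Or.inr hsx) (hmul c)
    rwa [map_smul, hsz, hbh, rfx_fix (show B p x = 0 by rw [S.symm, hxp])] at this
  refine S.top_of_axesAt hM hd hx0 fun w hw => ?_
  rw [hdec w, S.symm w x, hw, zero_div, zero_smul, add_zero]
  exact (axesAt B K x).add_mem (hmul _) (hmulp _)

/-- The multipliers of a non-singular axis vector fill the field. -/
theorem top_of_aniso_axis [Finite F] [FiniteDimensional F V] (hd : Module.finrank F V = 3) {x h g : V}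
    (hx : B x x ≠ 0) (hh : B h h ≠ 0) (hg : B g g ≠ 0) (hxg : B x g = 0) (hhg : B h g = 0)
    (hL : h ∈ axesAt B K x) {m : F} (hm : m ≠ 0) (hmm : B h h + m ^ 2 * B g g ≠ 0) : K = ⊤ := by
  haveI : Fintype F := Fintype.ofFinite F
  have h2 := S.two
  have hxh : B x h = 0 := hL.1
  have hgh : B g h = 0 := by rw [S.symm, hhg]
  let R : Subring F :=
    { carrier := {k | ∀ y : F, y • h ∈ axesAt B K x → (k * y) • h ∈ axesAt B K x}
      mul_mem' := fun {a b} ha hb y hy => by rw [mul_assoc]; exact ha _ (hb y hy)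
      one_mem' := fun y hy => by rwa [one_mul]
      add_mem' := fun {a b} ha hb y hy => by rw [add_mul, add_smul]; exact (axesAt B K x).add_mem (ha y hy) (hb y hy)
      zero_mem' := fun y _ => by rw [zero_mul, zero_smul]; exact (axesAt B K x).zero_mem
      neg_mem' := fun {a} ha y hy => by rw [neg_mul, neg_smul]; exact (axesAt B K x).neg_mem (ha y hy) }
  have hinv : ∀ k ∈ R, k⁻¹ ∈ R := fun k hk => by
    rcases eq_or_ne k 0 with rfl | hk0
    · rwa [inv_zero]
    · have hc : 2 ≤ Fintype.card F := Fintype.one_lt_card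
      have : k⁻¹ = k ^ (Fintype.card F - 2) := by
        refine inv_eq_of_mul_eq_one_right ?_
        rw [← pow_succ', show Fintype.card F - 2 + 1 = Fintype.card F - 1 by omega,
          FiniteField.pow_card_sub_one_eq_one k hk0]
      rw [this]
      exact R.pow_mem hk _
  -- rotations
  have hrot : ∀ n : F, B h h + n ^ 2 * B g g ≠ 0 → ∃ s : slGroup F V,
      (∀ p q, B ((s : V ≃ₗ[F] V) p) ((s : V ≃ₗ[F] V) q) = B p q) ∧ (s : V ≃ₗ[F] V) x = x ∧
      (s : V ≃ₗ[F] V) h = -h + (2 * B h h / (B h h + n ^ 2 * B g g)) • (h + n • g) := by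
    intro n hn
    have hu : B (h + n • g) (h + n • g) = B h h + n ^ 2 * B g g := by
      simp only [map_add, map_smul, LinearMap.add_apply, LinearMap.smul_apply, smul_eq_mul, hhg, hgh]
      ring
    obtain ⟨s, hs, hsz⟩ := S.exists_rfx_mul (a := h + n • g) (b := h) (by rw [hu]; exact hn) hh
    refine ⟨s, hs, ?_, ?_⟩
    · rw [hsz, rfx_fix hxh, rfx_fix (by simp [hxh, hxg])]
    · rw [hsz, rfx_self hh, rfx, hu]
      simp only [map_add, map_smul, map_neg, LinearMap.neg_apply, smul_eq_mul, hhg, neg_zero, mul_zero, add_zero]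
      rw [show -2 * -B h h = 2 * B h h by ring]
  have hδ : ∀ n : F, n ^ 2 * B g g / B h h ∈ R := by
    intro n
    by_cases hn : B h h + n ^ 2 * B g g = 0
    · rw [show n ^ 2 * B g g = -B h h by linear_combination hn, neg_div, div_self hh]
      exact R.neg_mem R.one_mem
    have hu : B (h + n • g) (h + n • g) = B h h + n ^ 2 * B g g := by
      simp only [map_add, map_smul, LinearMap.add_apply, LinearMap.smul_apply, smul_eq_mul, hhg, hgh]
      ring
    obtain ⟨s, hs, hsx, hsh⟩ := hrot n hn
    obtain ⟨s', hs', hsz'⟩ := S.exists_rfx_mul (a := h) (b := h + n • g) hh (by rw [hu]; exact hn)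
    have hsx' : (s' : V ≃ₗ[F] V) x = x := by rw [hsz', rfx_fix (z := x) (a := h + n • g) (by simp [hxh, hxg]), rfx_fix hxh]
    have ht : 4 * B h h / (B h h + n ^ 2 * B g g) - 2 ∈ R := by
      intro y hy
      have := (axesAt B K x).add_mem (S.axesAt_map hM hs (Or.inl hsx) hy) (S.axesAt_map hM hs' (Or.inl hsx') hy)
      have hsh' : (s' : V ≃ₗ[F] V) h = -h + (2 * B h h / (B h h + n ^ 2 * B g g)) • (h - n • g) := by
        have e1 : rfx B (h + n • g) h = h + (-(2 * B h h / (B h h + n ^ 2 * B g g))) • (h + n • g) := by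
          rw [rfx, hu, map_add, map_smul, hhg, smul_zero, add_zero, neg_mul, neg_div]
        rw [hsz', e1]
        generalize 2 * B h h / (B h h + n ^ 2 * B g g) = k
        simp only [rfx, map_add, map_smul, LinearMap.add_apply, LinearMap.smul_apply, smul_eq_mul, hgh]
        match_scalars <;> field_simp <;> ring
      rw [map_smul, map_smul, hsh, hsh', ← smul_add] at this
      convert this using 1
      rw [show 4 * B h h / (B h h + n ^ 2 * B g g) = 2 * (2 * B h h / (B h h + n ^ 2 * B g g)) by ring]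
      generalize 2 * B h h / (B h h + n ^ 2 * B g g) = k
      module
    have h4 : (4 : F) ∈ R := by
      rw [show (4 : F) = 1 + 1 + 1 + 1 by norm_num]
      exact R.add_mem (R.add_mem (R.add_mem R.one_mem R.one_mem) R.one_mem) R.one_mem
    have := R.sub_mem (hinv _ (R.mul_mem (hinv _ h4) (R.add_mem ht (R.add_mem R.one_mem R.one_mem)))) R.one_mem
    convert this using 1
    have h40 : (4 : F) ≠ 0 := by rw [show (4 : F) = 2 * 2 by norm_num]; exact mul_ne_zero h2 h2
    rw [one_add_one_eq_two, sub_add_cancel, mul_div_assoc (4 : F), inv_mul_cancel_left₀ h40, inv_div]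
    field_simp
    ring
  have hsq : ∀ n : F, n ^ 2 ∈ R := fun n => by
    have h1 := hδ 1
    have := R.mul_mem (hinv _ h1) (hδ n)
    convert this using 1
    field_simp
  have hall : ∀ y : F, y • h ∈ axesAt B K x := fun y => by
    have : y ∈ R := by
      rw [show y = ((y + 1) / 2) ^ 2 - ((y - 1) / 2) ^ 2 by field_simp; ring]
      exact R.sub_mem (hsq _) (hsq _)
    simpa using this 1 (by rwa [one_smul])
  obtain ⟨s, hs, hsx, hsh⟩ := hrot m hmm
  set c := 2 * B h h / (B h h + m ^ 2 * B g g) with hc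
  have hgall : ∀ y : F, y • g ∈ axesAt B K x := fun y => by
    have h1 := S.axesAt_map hM hs (Or.inl hsx) (hall (y / (c * m)))
    rw [map_smul, hsh] at h1
    have := (axesAt B K x).sub_mem h1 (hall (y / (c * m) * (c - 1)))
    convert this using 1
    have hc0 : c ≠ 0 := div_ne_zero (mul_ne_zero h2 hh) hmm
    match_scalars <;> field_simp <;> ring
  have hx0 : x ≠ 0 := fun e => hx (by simp [e])
  refine S.top_of_axesAt hM hd hx0 fun w hw => ?_
  have hli : LinearIndependent F ![x, h, g] := LinearMap.BilinForm.linearIndependent_of_iIsOrtho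
    (B := B) (fun i j hij => by
      show B (![x, h, g] i) (![x, h, g] j) = 0
      fin_cases i <;> fin_cases j <;> first | exact absurd rfl hij | simp [hxh, hxg, hhg, hgh, S.symm h x, S.symm g x])
    (fun i hi => by
      fin_cases i
      · exact hx hi
      · exact hh hi
      · exact hg hi)
  obtain ⟨c', hc'⟩ := (Submodule.mem_span_range_iff_exists_fun F).mp
    (hli.span_eq_top_of_card_eq_finrank' (by rw [hd, Fintype.card_fin]) ▸ Submodule.mem_top :
      w ∈ Submodule.span F (Set.range ![x, h, g]))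
  rw [Fin.sum_univ_three] at hc'
  have hc0 : c' 0 = 0 := by
    have := congrArg (B x) hc'
    simp [hxh, hxg, hw] at this
    exact this.resolve_right hx
  rw [← hc', hc0]
  simpa using (axesAt B K x).add_mem (hall (c' 1)) (hgall (c' 2))

/-- A transvection with non-singular centre generates everything. -/
theorem top_of_transvection_three [Finite F] [FiniteDimensional F V] (hd : Module.finrank F V = 3) {x h : V}
    (hx : B x x ≠ 0) (h0 : h ≠ 0) (e₀ : (B.flip h) x = 0) (hK : slT (B.flip h) x e₀ ∈ K) : K = ⊤ := by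
  haveI : Fintype F := Fintype.ofFinite F
  have h2 := S.two
  have hL : h ∈ axesAt B K x := ⟨e₀, hK⟩
  have hxh : B x h = 0 := e₀
  have hhx : B h x = 0 := by rw [S.symm, hxh]
  by_cases hh : B h h = 0
  · exact S.top_of_singular_axis hM hd hx h0 hh hL
  obtain ⟨t, ht0, ht⟩ := S.exists_perp ![x, h] (by omega)
  obtain ⟨g, hg, hgf, -⟩ := S.exists_aniso ![x, h] (fun i => by fin_cases i <;> assumption) (fun i j hij => by
    fin_cases i <;> fin_cases j <;> first | exact absurd rfl hij | assumption) ht ht0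
  have hgx : B g x = 0 := hgf 0
  have hgh : B g h = 0 := hgf 1
  have hxg : B x g = 0 := by rw [S.symm, hgx]
  have hhg : B h g = 0 := by rw [S.symm, hgh]
  by_cases hex : ∃ m : F, m ≠ 0 ∧ B h h + m ^ 2 * B g g ≠ 0
  · obtain ⟨m, hm, hmm⟩ := hex
    exact S.top_of_aniso_axis hM hd hx hh hg hxg hhg hL hm hmm
  push Not at hex
  -- three elements
  have hgg : B g g = -B h h := by linear_combination hex 1 one_ne_zero
  have hpm : ∀ k : F, k ≠ 0 → k ^ 2 = 1 := fun k hk => by
    have h1 := hex k hk
    rw [hgg] at h1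
    exact sub_eq_zero.mp ((mul_eq_zero.mp (show B h h * (k ^ 2 - 1) = 0 by linear_combination -h1)).resolve_left hh)
  have ha2 := hpm _ hx
  have hcases : B h h = B x x ∨ B h h = -B x x :=
    sq_eq_sq_iff_eq_or_eq_neg.mp (by rw [ha2, hpm _ hh])
  have h2x : 2 * B x x ≠ 0 := mul_ne_zero h2 hx
  rcases hcases with hab | hab
  · have hxhn : B (x - h) (x - h) = 2 * B x x := by
      simp only [map_sub, LinearMap.sub_apply, hxh, hhx, hab]; ring
    obtain ⟨s, hs, hsz⟩ := S.exists_rfx_mul (a := x - h) (b := x) (by rw [hxhn]; exact h2x) hx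
    have hsx : (s : V ≃ₗ[F] V) x = -h := by
      rw [hsz, rfx_self hx, rfx, hxhn]
      simp only [map_sub, map_neg, LinearMap.neg_apply, hxh]
      match_scalars <;> field_simp <;> ring
    have hsh : (s : V ≃ₗ[F] V) h = x := by
      rw [hsz, rfx_fix hhx, rfx, hxhn]
      simp only [map_sub, hhx, hab]
      match_scalars <;> field_simp <;> ring
    obtain ⟨e', hT'⟩ := S.slT_transport hM hs e₀ hK
    simp only [hsx, hsh] at e' hT'
    have e1 : (B.flip (h + B x x • x)) (x - B x x • h) = 0 := by
      simp [LinearMap.BilinForm.flip_apply, hxh, hhx, hab]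
    have hL' : h + B x x • x ∈ axesAt B K (x - B x x • h) := by
      refine ⟨e1, ?_⟩
      have := K.mul_mem (K.mul_mem hT' hK) (K.inv_mem hT')
      convert this using 1
      rw [eq_mul_inv_iff_mul_eq]
      refine slGroup.ext' fun z => ?_
      simp only [slGroup.mul_apply', slT_apply, LinearMap.BilinForm.flip_apply, map_add, map_sub, map_neg, map_smul,
        LinearMap.add_apply, LinearMap.sub_apply, LinearMap.neg_apply, LinearMap.smul_apply, smul_eq_mul, hxh, hhx,
        hab]
      module
    refine S.top_of_aniso_axis hM hd ?_ ?_ hg ?_ ?_ hL' (m := 1) one_ne_zero ?_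
    · have : B (x - B x x • h) (x - B x x • h) = 2 * B x x := by
        simp only [map_sub, map_smul, LinearMap.sub_apply, LinearMap.smul_apply, smul_eq_mul, hxh, hhx, hab]
        linear_combination B x x * ha2
      rwa [this]
    · have : B (h + B x x • x) (h + B x x • x) = 2 * B x x := by
        simp only [map_add, map_smul, LinearMap.add_apply, LinearMap.smul_apply, smul_eq_mul, hxh, hhx, hab]
        linear_combination B x x * ha2
      rwa [this]
    · simp [hxg, hhg]
    · simp [hxg, hhg]
    · have : B (h + B x x • x) (h + B x x • x) + 1 ^ 2 * B g g = B x x := by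
        rw [hgg]
        simp only [map_add, map_smul, LinearMap.add_apply, LinearMap.smul_apply, smul_eq_mul, hxh, hhx, hab]
        linear_combination B x x * ha2
      rwa [this]
  · have hgg' : B g g = B x x := by rw [hgg, hab, neg_neg]
    have hxgn : B (x + g) (x + g) = 2 * B x x := by
      simp only [map_add, LinearMap.add_apply, hxg, hgx, hgg']; ring
    obtain ⟨s, hs, hsz⟩ := S.exists_rfx_mul (a := x + g) (b := x) (by rw [hxgn]; exact h2x) hx
    have hsx : (s : V ≃ₗ[F] V) x = g := by
      rw [hsz, rfx_self hx, rfx, hxgn]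
      simp only [map_add, map_neg, LinearMap.neg_apply, hxg]
      match_scalars <;> field_simp <;> ring
    have hsh : (s : V ≃ₗ[F] V) h = h := by
      rw [hsz, rfx_fix hhx, rfx_fix (by simp [hhx, hhg])]
    obtain ⟨e', hT'⟩ := S.slT_transport hM hs e₀ hK
    simp only [hsx, hsh] at e' hT'
    have hL' : h ∈ axesAt B K (x + g) := by
      refine ⟨by simp [LinearMap.BilinForm.flip_apply, hxh, hgh], ?_⟩
      convert K.mul_mem hK hT' using 1
      refine slGroup.ext' fun z => ?_
      simp only [slGroup.mul_apply', slT_apply, LinearMap.BilinForm.flip_apply, map_add, map_smul,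
        LinearMap.add_apply, LinearMap.smul_apply, smul_eq_mul, hgh]
      module
    have hxgn' : B (x - g) (x - g) = 2 * B x x := by
      simp only [map_sub, LinearMap.sub_apply, hxg, hgx, hgg']; ring
    refine S.top_of_aniso_axis hM hd (g := x - g) (by rw [hxgn]; exact h2x) hh (by rw [hxgn']; exact h2x) ?_ ?_ hL'
      (m := 1) one_ne_zero ?_
    · simp [hxg, hgx, hgg']
    · simp [hhx, hhg]
    · rw [hxgn', hab, show -B x x + 1 ^ 2 * (2 * B x x) = B x x by ring]
      exact hx

omit hM in
/-- An element keeping the singular vectors singular is a similitude. -/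
theorem similitude_of_singular_three [Finite F] [FiniteDimensional F V] (hd : Module.finrank F V = 3)
    {g : slGroup F V} (hall : ∀ v, B v v = 0 → B ((g : V ≃ₗ[F] V) v) ((g : V ≃ₗ[F] V) v) = 0) :
    ∃ c : F, c ≠ 0 ∧ ∀ a b, B ((g : V ≃ₗ[F] V) a) ((g : V ≃ₗ[F] V) b) = c * B a b := by
  set G : V ≃ₗ[F] V := (g : V ≃ₗ[F] V) with hG
  have h2 := S.two
  obtain ⟨r, -, hr0, hr⟩ := S.exists_singular_mem ⊤ (by rw [finrank_top, hd])
  obtain ⟨r', e, hr', hrr, her, her', he⟩ := S.exists_frame hd hr0 hr
  obtain ⟨hee, hdec⟩ := S.frame_dec hd hr hr' hrr her her' he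
  have hr'r : B r' r = 1 := by rw [S.symm, hrr]
  set c := B (G r) (G r') with hc
  set a := B (G r) (G e) with ha
  set b := B (G r') (G e) with hb
  set N := B e e with hN
  have g0 : B (G r) (G r) = 0 := hall r hr
  have g1 : B (G r') (G r') = 0 := hall r' hr'
  have key : ∀ s : F, s ^ 2 * B (G e) (G e) + 2 * s * a - s ^ 2 * N * c - s ^ 3 * N * b = 0 := by
    intro s
    have h := hall (r + (-(s ^ 2 * N) / 2) • r' + s • e) (by
      simp only [map_add, map_smul, LinearMap.add_apply, LinearMap.smul_apply, smul_eq_mul, hr, hr', hrr, hr'r, her,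
        her', S.symm r e, S.symm r' e, hN]
      field_simp
      ring)
    simp only [map_add, map_smul, LinearMap.add_apply, LinearMap.smul_apply, smul_eq_mul, g0, g1,
      S.symm (G r') (G r), S.symm (G e) (G r), S.symm (G e) (G r'), ← hc, ← ha, ← hb] at h
    linear_combination (norm := (field_simp; ring)) h
  have hge : B (G e) (G e) = c * N := by
    have h1 := key 1
    have h1' := key (-1)
    exact mul_left_cancel₀ h2 (by linear_combination h1 + h1')
  have hab : ∀ s : F, s ≠ 0 → 2 * a = s ^ 2 * N * b := fun s hs => by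
    have h := key s
    rw [hge] at h
    exact sub_eq_zero.mp ((mul_eq_zero.mp (show s * (2 * a - s ^ 2 * N * b) = 0 by linear_combination h)).resolve_left hs)
  have hgr : ∀ p q : V, B (G p) (G q) =
      c * (B p r' * B q r + B p r * B q r') + a * (B p r' * (B q e / N) + (B p e / N) * B q r') +
      b * (B p r * (B q e / N) + (B p e / N) * B q r) + c * N * ((B p e / N) * (B q e / N)) := by
    intro p q
    conv_lhs => rw [hdec p, hdec q]
    simp only [map_add, map_smul, LinearMap.add_apply, LinearMap.smul_apply, smul_eq_mul, g0, g1, hge,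
      S.symm (G r') (G r), S.symm (G e) (G r), S.symm (G e) (G r'), ← hc, ← ha, ← hb, ← hN]
    ring
  have hgB : ∀ p q : V, B p q = (B p r' * B q r + B p r * B q r') + N * ((B p e / N) * (B q e / N)) := by
    intro p q
    conv_lhs => rw [hdec p, hdec q]
    simp only [map_add, map_smul, LinearMap.add_apply, LinearMap.smul_apply, smul_eq_mul, hr, hr', hrr, hr'r, her,
      her', S.symm r e, S.symm r' e, ← hN]
    ring
  have hrad : ∀ w : V, (∀ q, B (G w) (G q) = 0) → w = 0 := fun w hw =>
    G.map_eq_zero_iff.mp (S.nondeg _ fun z => by rw [← G.apply_symm_apply z]; exact hw _)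
  have hb0 : b = 0 := by
    by_contra hbne
    have ha' : a = N * b / 2 := by
      have := hab 1 one_ne_zero
      field_simp
      linear_combination this
    have hsq : ∀ s : F, s ≠ 0 → s ^ 2 = 1 := fun s hs => by
      have h1 := hab s hs
      have h2' := hab 1 one_ne_zero
      exact sub_eq_zero.mp ((mul_eq_zero.mp (show N * b * (s ^ 2 - 1) = 0 by linear_combination h2' - h1)).resolve_left
        (mul_ne_zero hee hbne))
    have h3 : (3 : F) = 0 := by linear_combination hsq 2 h2
    have hc0 : c ≠ 0 := fun h0 => by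
      refine hbne ?_
      have hw := hrad (b • r + (-a) • r') fun q => by
        rw [hgr]
        simp [hr, hr', hrr, hr'r, S.symm r e, S.symm r' e, her, her', h0]
        ring
      have := congrArg (B r') hw
      simpa [hr', hr'r] using this
    have hw := hrad ((-b) • r + (-a) • r' + c • e) fun q => by
      rw [hgr]
      simp only [map_add, map_smul, LinearMap.add_apply, LinearMap.smul_apply, smul_eq_mul, hr, hr', hrr, hr'r,
        S.symm r e, S.symm r' e, her, her', ← hN]
      have e1 : c ^ 2 = 1 := hsq c hc0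
      have e2 : b ^ 2 = 1 := hsq b hbne
      rw [ha']
      field_simp
      linear_combination (norm := ring_nf) (4 * N * B q e) * e1 - (4 * N * B q e) * e2
    have := congrArg (B e) hw
    simp [her, her', ← hN, hc0, hee] at this
  have ha0 : a = 0 := by
    have := hab 1 one_ne_zero
    rw [hb0, mul_zero, mul_eq_zero] at this
    exact this.resolve_left h2
  have hcB : ∀ p q, B (G p) (G q) = c * B p q := fun p q => by rw [hgr, hgB p q, ha0, hb0]; ring
  exact ⟨c, fun h0 => hr0 (hrad r fun q => by rw [hcB, h0, zero_mul]), hcB⟩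

omit hM in
theorem isCoatom_similitudes_three [Finite F] [FiniteDimensional F V] (hd : Module.finrank F V = 3)
    {M : Subgroup (slGroup F V)}
    (hM : ∀ g : slGroup F V, g ∈ M ↔
      ∃ c : F, c ≠ 0 ∧ ∀ a b, B ((g : V ≃ₗ[F] V) a) ((g : V ≃ₗ[F] V) b) = c * B a b) : IsCoatom M := by
  refine ⟨fun htop => ?_, fun K hlt => ?_⟩
  · obtain ⟨r, -, hr0, hr⟩ := S.exists_singular_mem ⊤ (by rw [finrank_top, hd])
    obtain ⟨r', e, hr', hrr, her, her', he⟩ := S.exists_frame hd hr0 hr
    obtain ⟨hee, -⟩ := S.frame_dec hd hr hr' hrr her her' he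
    have h0 : (B.flip r) r = 0 := by rw [LinearMap.BilinForm.flip_apply, hr]
    obtain ⟨c, -, hc⟩ := (hM _).mp (htop ▸ Subgroup.mem_top (slT (B.flip r) r h0))
    have e1 := hc e e
    have e2 := hc r' r'
    simp only [slT_apply, LinearMap.BilinForm.flip_apply, her, zero_smul, add_zero] at e1
    simp only [slT_apply, LinearMap.BilinForm.flip_apply, map_add, map_smul, LinearMap.add_apply,
      LinearMap.smul_apply, smul_eq_mul, hr, hr', hrr, S.symm r' r, mul_zero] at e2
    exact S.two (by linear_combination e2)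
  have hK : ∀ g : slGroup F V, (∀ a b, B ((g : V ≃ₗ[F] V) a) ((g : V ≃ₗ[F] V) b) = B a b) → g ∈ K :=
    fun g hg => hlt.le ((hM g).mpr ⟨1, one_ne_zero, fun a b => by rw [one_mul]; exact hg a b⟩)
  obtain ⟨g, hg, hgM⟩ := SetLike.exists_of_lt hlt
  by_cases hall : ∀ v, B v v = 0 → B ((g : V ≃ₗ[F] V) v) ((g : V ≃ₗ[F] V) v) = 0
  · exact absurd ((hM g).mpr (S.similitude_of_singular_three hd hall)) hgM
  push Not at hall
  obtain ⟨v, hv, hQ⟩ := hall
  obtain ⟨x, h, e, hx, hh, hT⟩ := S.exists_transvection hK (by omega) hg hv (fun h => hQ (by simp [h])) hQ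
  exact S.top_of_transvection_three hK hd hx hh e hT

end SymSpace

end Cfsg.Lib.Classical

namespace Cfsg.Lib.Classical.SLThree

theorem orthogonal_maximal {F : Type*} [Field F] [Fintype F] (hodd : Odd (Fintype.card F))
    (Q : (Fin 3 → F) → F) (hQ : Cfsg.Geo.IsNondegenerateQuadraticForm Q) :
    Cfsg.Geo.IsMaximalIn (Cfsg.Geo.specialLinear (Fin 3) F)
      (Cfsg.Geo.quadSimilarityGroup Q ⊓ Cfsg.Geo.specialLinear (Fin 3) F) := by
  classical
  obtain ⟨hsm, hb, hn'⟩ := hQ
  let B : LinearMap.BilinForm F (Fin 3 → F) := LinearMap.mk₂ F (QuadraticMap.polar Q) hb.add_left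
    (fun c x v => hb.smul_left c x v) hb.add_right (fun c v x => hb.smul_right c v x)
  have hB : ∀ u v, B u v = Q (u + v) - Q u - Q v := fun u v => rfl
  have h2 : (2 : F) ≠ 0 := fun h => by
    haveI : CharP F 2 := CharTwo.of_one_ne_zero_of_two_eq_zero one_ne_zero h
    obtain ⟨m, -, hm⟩ := FiniteField.card F 2
    rw [hm] at hodd
    exact absurd hodd (by simp [Nat.even_pow, m.ne_zero])
  have hdiag : ∀ v, B v v = 2 * Q v := fun v => by
    rw [hB, ← two_smul F v, hsm]; ring
  have S : Cfsg.Lib.Classical.SymSpace B :=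
    { symm := fun u v => QuadraticMap.polar_comm Q u v
      nondeg := fun u hu => by
        by_contra hne
        obtain ⟨-, x, hx⟩ := hn' u hne
        exact hx (hu x)
      two := h2 }
  refine Cfsg.Lib.Classical.isMaximalIn_of_isCoatom_comap (Cfsg.Lib.Classical.slToGL (Fin 3) F)
    (Cfsg.Lib.Classical.range_slToGL (Fin 3)) ?_
  refine S.isCoatom_similitudes_three (Module.finrank_fin_fun F) fun g => ?_
  change (∃ c : Fˣ, ∀ v, Q ((Cfsg.Lib.Classical.slToGL (Fin 3) F g).val.mulVec v) = c * Q v) ↔ _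
  simp only [Cfsg.Lib.Classical.slToGL_mulVec]
  constructor
  · rintro ⟨c, hc⟩
    refine ⟨c, c.ne_zero, fun a b => ?_⟩
    rw [hB, hB, ← map_add, hc, hc, hc]
    ring
  · rintro ⟨c, hc0, hc⟩
    refine ⟨Units.mk0 c hc0, fun v => mul_left_cancel₀ h2 ?_⟩
    rw [← hdiag, hc, hdiag, Units.val_mk0]
    ring

end Cfsg.Lib.Classical.SLThree
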