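import Mathlib
import Cfsg.Agent.Classical.SLThree.Basic
import Cfsg.Prelude.Def_GeometricClasses

/-! Subgroups of `SL₃` containing the normaliser of a Singer cycle: coordinates in the cubic extension. -/

set_option autoImplicit false
set_option linter.unusedSimpArgs false
set_option linter.unusedSectionVars false
set_option linter.style.haveILetI false

namespace Cfsg.Lib.Classical.SLThree.Singer

open Matrix LinOne
open scoped MatrixGroups

universe u v

variable {F : Type u} [Field F] [Fintype F]

local notation "MM" => Matrix (Fin 3) (Fin 3) F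
local notation "GG" => GL (Fin 3) F
local notation "VV" => (Fin 3 → F)

/-- Inverse transpose. -/
def dualHom : GL (Fin 3) F →* GL (Fin 3) F :=
  MonoidHom.mk' (fun g => ⟨((g⁻¹ : GG) : MM)ᵀ, (g : MM)ᵀ,
    by rw [← Matrix.transpose_mul, ← Units.val_mul, mul_inv_cancel, Units.val_one, Matrix.transpose_one],
    by rw [← Matrix.transpose_mul, ← Units.val_mul, inv_mul_cancel, Units.val_one, Matrix.transpose_one]⟩)
    fun g h => Units.ext (by
      show (((g * h)⁻¹ : GG) : MM)ᵀ = ((g⁻¹ : GG) : MM)ᵀ * ((h⁻¹ : GG) : MM)ᵀ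
      rw [_root_.mul_inv_rev, Units.val_mul, Matrix.transpose_mul])

theorem dualHom_val (g : GG) : ((dualHom g : GG) : MM) = ((g⁻¹ : GG) : MM)ᵀ := rfl

theorem dualHom_dual (g : GG) : dualHom (dualHom g) = g := Units.ext (by
  rw [dualHom_val, ← map_inv, dualHom_val, inv_inv, Matrix.transpose_transpose])

variable {L : Type v} [Field L] [Finite L] [Algebra F L]

/-- The Frobenius map. -/
noncomputable abbrev fr (F : Type u) (L : Type v) [Field F] [Fintype F] [Field L] [Finite L] [Algebra F L] :
    L ≃ₐ[F] L :=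
  FiniteField.frobeniusAlgEquivOfAlgebraic F L

theorem fr_apply (x : L) : fr F L x = x ^ Fintype.card F := rfl

/-- A group containing the normaliser of a Singer cycle, in coordinates. -/
structure Sing (L : Type v) [Field L] [Finite L] [Algebra F L] (X : Subgroup (GL (Fin 3) F))
    (e e' : L ≃ₗ[F] (Fin 3 → F)) : Prop where
  finrank : Module.finrank F L = 3
  pair : ∀ x y, e' y ⬝ᵥ e x = Algebra.trace F L (x * y)
  mul : ∀ k : L, Algebra.norm F k = 1 → ∃ g ∈ X, ∀ x, (g : Matrix (Fin 3) (Fin 3) F) *ᵥ e x = e (k * x)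
  frob : ∃ g ∈ X, ∀ x, (g : Matrix (Fin 3) (Fin 3) F) *ᵥ e x = e (fr F L x)

variable {X : Subgroup (GL (Fin 3) F)} {e e' : L ≃ₗ[F] (Fin 3 → F)}

section
variable (hd : Module.finrank F L = 3)
include hd

theorem tr_eq (a : L) : algebraMap F L (Algebra.trace F L a) = a + fr F L a + fr F L (fr F L a) := by
  rw [FiniteField.algebraMap_trace_eq_sum_pow, hd, Nat.card_eq_fintype_card]
  simp [Finset.sum_range_succ, fr_apply, ← pow_mul, pow_two]

theorem norm_eq (a : L) : algebraMap F L (Algebra.norm F a) = a * fr F L a * fr F L (fr F L a) := by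
  rw [FiniteField.algebraMap_norm_eq_prod_pow, hd, Nat.card_eq_fintype_card]
  simp [Finset.prod_range_succ, fr_apply, ← pow_mul, pow_two]

theorem fr_three (a : L) : fr F L (fr F L (fr F L a)) = a := by
  haveI := Fintype.ofFinite L
  rw [fr_apply, fr_apply, fr_apply, ← pow_mul, ← pow_mul,
    show Fintype.card F * (Fintype.card F * Fintype.card F) = Fintype.card L by
      rw [Module.card_eq_pow_finrank (K := F) (V := L), hd]; ring]
  exact FiniteField.pow_card a

theorem tr_fr (a : L) : Algebra.trace F L (fr F L a) = Algebra.trace F L a :=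
  (algebraMap F L).injective (by rw [tr_eq hd, tr_eq hd, fr_three hd]; ring)

theorem norm_fr (a : L) : Algebra.norm F (fr F L a) = Algebra.norm F a :=
  (algebraMap F L).injective (by rw [norm_eq hd, norm_eq hd, fr_three hd]; ring)

theorem mem_base {a : L} (h : fr F L a = a) : ∃ b : F, algebraMap F L b = a := by
  haveI : IsGalois F L := inferInstance
  haveI : FiniteDimensional F L := Module.finite_of_finrank_eq_succ hd
  have : a ∈ (⊥ : IntermediateField F L) := (IsGalois.mem_bot_iff_fixed a).mpr fun f => by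
    obtain ⟨n, hn⟩ := (FiniteField.bijective_frobeniusAlgEquivOfAlgebraic_pow F L).2 f
    rw [← hn]
    show (fr F L ^ (n : ℕ)) a = a
    rw [AlgEquiv.coe_pow]
    exact Function.iterate_fixed h _
  exact IntermediateField.mem_bot.mp this

/-- Elements with vanishing trace and inverse trace have cubes in the ground field. -/
theorem cube_of_traces {c : L} (hc : c ≠ 0) (h1 : Algebra.trace F L c = 0) (h2 : Algebra.trace F L c⁻¹ = 0) :
    c ^ 3 = algebraMap F L (Algebra.norm F c) := by
  have e1 := tr_eq hd c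
  have e2 := tr_eq hd c⁻¹
  rw [h1, map_zero] at e1
  rw [h2, map_zero, map_inv₀, map_inv₀] at e2
  set b := fr F L c
  set d := fr F L b
  have hb : b ≠ 0 := by simpa [b] using hc
  have hd' : d ≠ 0 := by simpa [d] using hb
  field_simp at e2
  rw [norm_eq hd]
  linear_combination c * e2 - c ^ 2 * e1

/-- A non-scalar element satisfies no quadratic relation. -/
theorem indep {c : L} (hc : ∀ b : F, algebraMap F L b ≠ c) {a₀ a₁ a₂ : F}
    (h : algebraMap F L a₀ + algebraMap F L a₁ * c + algebraMap F L a₂ * c ^ 2 = 0) :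
    a₀ = 0 ∧ a₁ = 0 ∧ a₂ = 0 := by
  by_cases h2 : a₂ = 0
  · rw [h2, map_zero, zero_mul, add_zero] at h
    by_cases h1 : a₁ = 0
    · rw [h1, map_zero, zero_mul, add_zero, map_eq_zero] at h
      exact ⟨h, h1, h2⟩
    · exact absurd (show algebraMap F L (-a₀ / a₁) = c by
        rw [map_div₀, map_neg, div_eq_iff (by simpa using h1)]; linear_combination -h) (hc _)
  · exfalso
    set σ := fr F L
    have hb2 : algebraMap F L a₂ ≠ 0 := by simpa using h2
    have h' := congrArg σ h
    simp only [map_add, map_mul, map_pow, map_zero, AlgEquiv.commutes] at h'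
    have h'' := congrArg σ h'
    simp only [map_add, map_mul, map_pow, map_zero, AlgEquiv.commutes] at h''
    have hne : c ≠ σ c := fun e => (mem_base hd e.symm).elim hc
    have hne' : σ c ≠ σ (σ c) := fun e => hne (σ.injective e)
    have k1 : algebraMap F L a₁ + algebraMap F L a₂ * (c + σ c) = 0 :=
      (mul_eq_zero.mp (show (c - σ c) * (algebraMap F L a₁ + algebraMap F L a₂ * (c + σ c)) = 0 by
        linear_combination h - h')).resolve_left (sub_ne_zero.mpr hne)
    have k2 : algebraMap F L a₁ + algebraMap F L a₂ * (σ c + σ (σ c)) = 0 :=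
      (mul_eq_zero.mp (show (σ c - σ (σ c)) * (algebraMap F L a₁ + algebraMap F L a₂ * (σ c + σ (σ c))) = 0 by
        linear_combination h' - h'')).resolve_left (sub_ne_zero.mpr hne')
    have k3 : c = σ (σ c) := sub_eq_zero.mp ((mul_eq_zero.mp
      (show algebraMap F L a₂ * (c - σ (σ c)) = 0 by linear_combination k1 - k2)).resolve_left hb2)
    have k4 : σ c = c := by
      conv_lhs => rw [k3]
      exact fr_three hd c
    exact hne k4.symm

/-- A norm-one element whose cube is not in the ground field. -/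
theorem exists_good : ∃ c : L, Algebra.norm F c = 1 ∧ (∀ b : F, algebraMap F L b ≠ c ^ 3) ∧
    ∀ b : F, algebraMap F L b ≠ c := by
  classical
  haveI := Fintype.ofFinite L
  obtain ⟨u, hu⟩ := IsCyclic.exists_ofOrder_eq_natCard (α := Lˣ)
  set q := Fintype.card F with hq
  have hq2 : 1 < q := Fintype.one_lt_card
  set c : L := (u : L) ^ (q - 1) with hc
  have hn : Algebra.norm F c = 1 := by
    rw [hc, map_pow]
    exact FiniteField.pow_card_sub_one_eq_one _ (Algebra.norm_ne_zero_iff.mpr u.ne_zero)
  have h3 : ∀ b : F, algebraMap F L b ≠ c ^ 3 := fun b hb => by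
    have hb0 : b ≠ 0 := fun e => by
      rw [e, map_zero] at hb
      exact pow_ne_zero 3 (pow_ne_zero _ u.ne_zero) hb.symm
    have h1 : ((u ^ ((q - 1) * 3 * (q - 1)) : Lˣ) : L) = 1 := by
      rw [Units.val_pow_eq_pow_val, pow_mul, pow_mul, ← hc, ← hb, ← map_pow,
        FiniteField.pow_card_sub_one_eq_one b hb0, map_one]
    have h2 := orderOf_dvd_of_pow_eq_one (Units.ext h1 : u ^ ((q - 1) * 3 * (q - 1)) = 1)
    rw [hu, Nat.card_units, Nat.card_eq_fintype_card, Module.card_eq_pow_finrank (K := F), hd, ← hq] at h2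
    have h4 := Nat.le_of_dvd (Nat.mul_pos (Nat.mul_pos (by omega) (by norm_num)) (by omega)) h2
    obtain ⟨k, hk⟩ : ∃ k, q = k + 2 := ⟨q - 2, by omega⟩
    rw [hk] at h4
    simp only [show k + 2 - 1 = k + 1 by omega] at h4
    have h5 : (k + 1) * 3 * (k + 1) + 1 < (k + 2) ^ 3 := by ring_nf; omega
    omega
  exact ⟨c, hn, h3, fun b hb => h3 (b ^ 3) (by rw [map_pow, hb])⟩

/-- The number of elements of norm one. -/
theorem card_norm_one [Fintype L] [DecidableEq F] :
    (Finset.univ.filter fun c : L => Algebra.norm F c = 1).card =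
      Fintype.card F * Fintype.card F + Fintype.card F + 1 := by
  classical
  set q := Fintype.card F with hq
  have hq2 : 1 < q := Fintype.one_lt_card
  let Nh := Units.map (Algebra.norm F (S := L))
  have h1 := Subgroup.card_eq_card_quotient_mul_card_subgroup Nh.ker
  rw [Nat.card_congr (QuotientGroup.quotientKerEquivOfSurjective Nh (FiniteField.unitsMap_norm_surjective F L)).toEquiv,
    Nat.card_units, Nat.card_units, Nat.card_eq_fintype_card, Nat.card_eq_fintype_card,
    Module.card_eq_pow_finrank (K := F) (V := L), hd, ← hq] at h1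
  have h2 : Nat.card Nh.ker = (Finset.univ.filter fun c : L => Algebra.norm F c = 1).card := by
    rw [← Fintype.card_subtype, ← Nat.card_eq_fintype_card]
    refine Nat.card_congr
      { toFun := fun k => ⟨((k : Lˣ) : L), by
          have := k.2
          rw [MonoidHom.mem_ker, Units.ext_iff] at this
          exact this⟩
        invFun := fun c => ⟨Units.mk0 c.1 (fun e => by have := c.2; rw [e, Algebra.norm_zero] at this; exact zero_ne_one this), by
          rw [MonoidHom.mem_ker]
          exact Units.ext c.2⟩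
        left_inv := fun k => Subtype.ext (Units.ext rfl)
        right_inv := fun c => rfl }
  rw [h2] at h1
  refine Nat.eq_of_mul_eq_mul_left (show 0 < q - 1 by omega) ?_
  rw [← h1]
  obtain ⟨k, hk⟩ : ∃ k, q = k + 1 := ⟨q - 1, by omega⟩
  rw [hk]
  simp only [Nat.add_sub_cancel]
  rw [show (k + 1) ^ 3 = k * ((k + 1) * (k + 1) + (k + 1) + 1) + 1 by ring, Nat.add_sub_cancel]

end

theorem Sing.ext_dot (S : Sing L X e e') {w w' : VV} (h : ∀ x, w ⬝ᵥ e x = w' ⬝ᵥ e x) : w = w' := by
  funext i
  obtain ⟨x, hx⟩ := e.surjective (Pi.single i 1)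
  have := h x
  rwa [hx, dotProduct_single, dotProduct_single, mul_one, mul_one] at this

/-- The action on functionals of a multiplication. -/
theorem Sing.mul_vecMul (S : Sing L X e e') {k : L} {g : GG} (hg : ∀ x, (g : MM) *ᵥ e x = e (k * x)) (y : L) :
    e' y ᵥ* (g : MM) = e' (k * y) :=
  S.ext_dot fun x => by rw [← dotProduct_mulVec, hg, S.pair, S.pair]; ring_nf

/-- The action on functionals of the Frobenius map. -/
theorem Sing.frob_vecMul (S : Sing L X e e') {g : GG} (hg : ∀ x, (g : MM) *ᵥ e x = e (fr F L x)) (y : L) :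
    e' (fr F L y) ᵥ* (g : MM) = e' y :=
  S.ext_dot fun x => by rw [← dotProduct_mulVec, hg, S.pair, S.pair, ← map_mul, tr_fr S.finrank]

/-- The dual coordinates. -/
theorem Sing.dual (S : Sing L X e e') : Sing L (X.map dualHom) e' e where
  finrank := S.finrank
  pair := fun x y => by rw [dotProduct_comm, S.pair, mul_comm]
  mul := fun k hk => by
    have hk0 : k ≠ 0 := fun e0 => by rw [e0, Algebra.norm_zero] at hk; exact zero_ne_one hk
    obtain ⟨g, hg, hgv⟩ := S.mul k hk
    refine ⟨dualHom g⁻¹, Subgroup.mem_map_of_mem _ (X.inv_mem hg), fun x => ?_⟩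
    rw [dualHom_val, inv_inv, Matrix.mulVec_transpose, S.mul_vecMul hgv]
  frob := by
    obtain ⟨g, hg, hgv⟩ := S.frob
    refine ⟨dualHom g, Subgroup.mem_map_of_mem _ hg, fun x => ?_⟩
    rw [dualHom_val, Matrix.mulVec_transpose, ← S.frob_vecMul hgv x, Matrix.vecMul_vecMul, ← Units.val_mul,
      mul_inv_cancel, Units.val_one, Matrix.vecMul_one]

end Cfsg.Lib.Classical.SLThree.Singer
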