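import Mathlib
import Cfsg.Agent.Classical.SLThree.Basic

/-! Groups of three by three matrices in which every centre of an elation has two axes and every axis two centres. -/

set_option autoImplicit false
set_option linter.unusedSimpArgs false
set_option linter.unusedSectionVars false
set_option linter.style.haveILetI false

namespace Cfsg.Lib.Classical.SLThree.Elation

open Matrix LinOne
open scoped MatrixGroups

universe u

variable {F : Type u} [Field F]

local notation "MM" => Matrix (Fin 3) (Fin 3) F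
local notation "GG" => GL (Fin 3) F
local notation "VV" => (Fin 3 → F)

/-- An incident pair giving an elation. -/
def Inc (K : Subgroup (GL (Fin 3) F)) (x φ : Fin 3 → F) : Prop := φ ⬝ᵥ x = 0 ∧ One K x φ

/-- A centre. -/
def IsC (K : Subgroup (GL (Fin 3) F)) (x : Fin 3 → F) : Prop := x ≠ 0 ∧ ∃ φ, φ ≠ 0 ∧ Inc K x φ

/-- Every centre has two axes and every axis two centres. -/
structure Two (K : Subgroup (GL (Fin 3) F)) : Prop where
  axes : ∀ x φ, x ≠ 0 → φ ≠ 0 → Inc K x φ → ∃ ψ, Inc K x ψ ∧ ∀ a : F, ψ ≠ a • φ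
  centres : ∀ x φ, x ≠ 0 → φ ≠ 0 → Inc K x φ → ∃ y, Inc K y φ ∧ ∀ a : F, y ≠ a • x

variable {K : Subgroup (GL (Fin 3) F)}

theorem Inc.scale {x φ : VV} (h : Inc K x φ) {a b : F} (hab : a * b = 1) : Inc K (a • x) (b • φ) :=
  ⟨by rw [smul_dotProduct, dotProduct_smul, h.1, smul_zero, smul_zero], h.2.scale hab⟩

theorem Inc.move {x φ : VV} {a : F} (h : Inc K (a • x) φ) (ha : a ≠ 0) : Inc K x (a • φ) := by
  have := h.scale (inv_mul_cancel₀ ha)
  rwa [inv_smul_smul₀ ha] at this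

theorem Inc.conj {x φ : VV} (h : Inc K x φ) {k : GG} (hk : k ∈ K) :
    Inc K ((k : MM) *ᵥ x) (φ ᵥ* ((k⁻¹ : GG) : MM)) := ⟨(dot_conj k x φ).trans h.1, h.2.conj hk⟩

theorem IsC.conj {x : VV} (h : IsC K x) {k : GG} (hk : k ∈ K) : IsC K ((k : MM) *ᵥ x) := by
  obtain ⟨hx, φ, hφ, h⟩ := h
  exact ⟨GL_ne_zero_mulVec k hx, _, GL_ne_zero_vecMul _ hφ, h.conj hk⟩

theorem IsC.smul {x : VV} (h : IsC K x) {a : F} (ha : a ≠ 0) : IsC K (a • x) := by
  obtain ⟨hx, φ, hφ, h⟩ := h
  exact ⟨smul_ne_zero ha hx, a⁻¹ • φ, smul_ne_zero (inv_ne_zero ha) hφ, h.scale (mul_inv_cancel₀ ha)⟩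

/-- The centres of elations with a given axis. -/
def Bgp (K : Subgroup (GL (Fin 3) F)) (φ : Fin 3 → F) : AddSubgroup (Fin 3 → F) where
  carrier := {x | Inc K x φ}
  zero_mem' := ⟨dotProduct_zero φ, ⟨1, K.one_mem, by simp⟩⟩
  add_mem' := fun {x y} hx hy => ⟨by rw [dotProduct_add, hx.1, hy.1, add_zero], hx.2.addL hy.2 hy.1⟩
  neg_mem' := fun {x} hx => ⟨by rw [dotProduct_neg, hx.1, neg_zero], hx.2.negL hx.1⟩

theorem mem_Bgp {x φ : VV} : x ∈ Bgp K φ ↔ Inc K x φ := Iff.rfl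

/-- The multiples of a centre with a given axis. -/
def Hgp (K : Subgroup (GL (Fin 3) F)) (φ x : Fin 3 → F) : AddSubgroup F :=
  (Bgp K φ).comap (LinearMap.toSpanSingleton F (Fin 3 → F) x).toAddMonoidHom

theorem mem_Hgp {x φ : VV} {a : F} : a ∈ Hgp K φ x ↔ Inc K (a • x) φ := Iff.rfl

/-- Two independent centres span the axis. -/
theorem kernel_line {φ ψ z x : VV} (hφ : φ ≠ 0) (hψ : ∀ a : F, ψ ≠ a • φ) (hx : x ≠ 0) (h1 : φ ⬝ᵥ x = 0)
    (h2 : ψ ⬝ᵥ x = 0) (h3 : φ ⬝ᵥ z = 0) (h4 : ψ ⬝ᵥ z = 0) : ∃ a : F, z = a • x := by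
  by_contra hne
  push Not at hne
  have hz : z ∉ Submodule.span F ({x} : Set VV) := fun h => by
    obtain ⟨a, ha⟩ := Submodule.mem_span_singleton.mp h
    exact hne a ha.symm
  have hψ' : ψ ∉ Submodule.span F ({φ} : Set VV) := fun h => by
    obtain ⟨a, ha⟩ := Submodule.mem_span_singleton.mp h
    exact hψ a ha.symm
  obtain ⟨u, hu, hu1⟩ := exists_dot hψ'
  obtain ⟨a, b, hab⟩ := mem_span_pair hφ h1 h3 (hu φ (Submodule.mem_span_singleton_self φ)) hx hz
  rw [← hab, dotProduct_add, dotProduct_smul, dotProduct_smul, h2, h4, smul_zero, smul_zero, add_zero] at hu1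
  exact zero_ne_one hu1

variable [Fintype F] [DecidableEq F]

/-- The centres on a line. -/
noncomputable def CL (K : Subgroup (GL (Fin 3) F)) (φ : Fin 3 → F) : Finset (Fin 3 → F) := by
  classical exact Finset.univ.filter fun x => IsC K x ∧ φ ⬝ᵥ x = 0

theorem mem_CL {x φ : VV} : x ∈ CL K φ ↔ IsC K x ∧ φ ⬝ᵥ x = 0 := by
  classical simp [CL]

/-- The centres. -/
noncomputable def CS (K : Subgroup (GL (Fin 3) F)) : Finset (Fin 3 → F) := by
  classical exact Finset.univ.filter fun x => IsC K x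

theorem mem_CS {x : VV} : x ∈ CS K ↔ IsC K x := by classical simp [CS]

variable {p : ℕ} [Fact p.Prime] [CharP F p]

section prime
include p

/-- The stabiliser of a line is transitive on the centres on it. -/
theorem gleason (h2 : Two K) {φ x x' : VV} (hφ : φ ≠ 0) (hx : x ∈ CL K φ) (hx' : x' ∈ CL K φ) :
    ∃ k ∈ K, ∃ a μ : F, a ≠ 0 ∧ μ ≠ 0 ∧ φ ᵥ* (k : MM) = μ • φ ∧ (k : MM) *ᵥ x = a • x' := by
  classical
  have hp : p.Prime := Fact.out
  set O := (CL K φ).filter fun z => ∃ k ∈ K, ∃ a μ : F, a ≠ 0 ∧ μ ≠ 0 ∧ φ ᵥ* (k : MM) = μ • φ ∧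
    (k : MM) *ᵥ x = a • z with hO
  have hxO : x ∈ O := by
    rw [hO, Finset.mem_filter]
    exact ⟨hx, 1, K.one_mem, 1, 1, one_ne_zero, one_ne_zero, by simp, by simp⟩
  have hOs : ∀ z ∈ O, ∀ a : F, a ≠ 0 → a • z ∈ O := fun z hz a ha => by
    rw [hO, Finset.mem_filter, mem_CL] at hz ⊢
    obtain ⟨⟨hz1, hz2⟩, k, hk, b, μ, hb, hμ, h1, h2⟩ := hz
    refine ⟨⟨hz1.smul ha, by rw [dotProduct_smul, hz2, smul_zero]⟩, k, hk, b * a⁻¹, μ, mul_ne_zero hb (inv_ne_zero ha),
      hμ, h1, ?_⟩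
    rw [h2, smul_smul, inv_mul_cancel_right₀ ha]
  -- counting fixed points of an elation
  have hcount : ∀ w ∈ CL K φ, O.card ≡ (O.filter fun z => ∃ a : F, z = a • w).card [MOD p] := by
    intro w hw
    rw [mem_CL] at hw
    obtain ⟨⟨hw0, η, hη, hinc⟩, hwφ⟩ := hw
    obtain ⟨ψ, hψ, hψne⟩ : ∃ ψ, Inc K w ψ ∧ ∀ a : F, ψ ≠ a • φ := by
      by_cases h : ∀ a : F, η ≠ a • φ
      · exact ⟨η, hinc, h⟩
      · push Not at h
        obtain ⟨a, rfl⟩ := h
        obtain ⟨ψ, hψ, hψne⟩ := h2.axes w _ hw0 hη hinc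
        refine ⟨ψ, hψ, fun b e => hψne (b * a⁻¹) ?_⟩
        have ha : a ≠ 0 := fun e0 => hη (by rw [e0, zero_smul])
        rw [e, smul_smul, inv_mul_cancel_right₀ ha]
    obtain ⟨g, hg, hgv⟩ := hψ.2
    have hgφ : φ ᵥ* (g : MM) = φ + (0 : F) • ψ := by rw [hgv, vecMul_one', hwφ]
    rw [zero_smul, add_zero] at hgφ
    have hmap : ∀ z ∈ O, (g : MM) *ᵥ z ∈ O := fun z hz => by
      rw [hO, Finset.mem_filter, mem_CL] at hz ⊢
      obtain ⟨⟨hz1, hz2⟩, k, hk, b, μ, hb, hμ, h1, h2⟩ := hz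
      refine ⟨⟨hz1.conj hg, by rw [dotProduct_mulVec, hgφ, hz2]⟩, g * k, K.mul_mem hg hk, b, μ, hb, hμ, ?_, ?_⟩
      · rw [Units.val_mul, ← Matrix.vecMul_vecMul, hgφ, h1]
      · rw [Units.val_mul, ← Matrix.mulVec_mulVec, h2, Matrix.mulVec_smul]
    let f : Function.End O := fun z => ⟨_, hmap z.1 z.2⟩
    have hfn : ∀ (n : ℕ) (z : O), ((f ^ n : Function.End O) z).1 = z.1 + (n : F) • ((ψ ⬝ᵥ z.1) • w) := fun n => by
      induction n with
      | zero => intro z; simp; rfl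
      | succ n ih =>
        intro z
        rw [pow_succ']
        show (g : MM) *ᵥ ((f ^ n : Function.End O) z).1 = _
        rw [ih, hgv, one_mulVec', dotProduct_add, dotProduct_smul, dotProduct_smul, hψ.1, smul_zero, smul_zero, add_zero,
          Nat.cast_succ, add_smul, one_smul, add_assoc]
    have hfp : f ^ p ^ 1 = 1 := by
      funext z
      refine Subtype.ext ?_
      show _ = z.1
      rw [pow_one, hfn, CharP.cast_eq_zero, zero_smul, add_zero]
    have hmod := Equiv.Perm.card_fixedPoints_modEq (p := p) hfp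
    rw [Fintype.card_coe] at hmod
    refine hmod.trans (Nat.ModEq.symm ?_)
    refine (congrArg (fun n => n % p) ?_)
    rw [← Fintype.card_coe]
    refine Fintype.card_congr
      { toFun := fun z => ⟨⟨z.1, (Finset.mem_filter.mp z.2).1⟩, ?_⟩
        invFun := fun z => ⟨z.1.1, Finset.mem_filter.mpr ⟨z.1.2, ?_⟩⟩
        left_inv := fun z => rfl
        right_inv := fun z => rfl }
    · obtain ⟨a, ha⟩ := (Finset.mem_filter.mp z.2).2
      refine Subtype.ext ?_
      show (g : MM) *ᵥ z.1 = z.1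
      rw [ha, Matrix.mulVec_smul, hgv, one_mulVec', hψ.1, zero_smul, add_zero]
    · have hz : (g : MM) *ᵥ z.1.1 = z.1.1 := congrArg Subtype.val z.2
      rw [hgv, one_mulVec', add_eq_left, smul_eq_zero] at hz
      exact kernel_line hφ hψne hw0 hwφ hψ.1 (mem_CL.mp (Finset.mem_filter.mp z.1.2).1).2 (hz.resolve_right hw0)
  by_contra hne
  have hx'O : x' ∉ O := fun h => hne (Finset.mem_filter.mp h).2
  have h1 := hcount x hx
  have h0 := hcount x' hx'
  have e1 : (O.filter fun z => ∃ a : F, z = a • x).card = Fintype.card F - 1 := by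
    rw [← Finset.card_univ, ← Finset.card_erase_of_mem (Finset.mem_univ (0 : F))]
    symm
    refine Finset.card_bij (fun a _ => a • x) (fun a ha => ?_) (fun a _ b _ e => smul_left_injective F (mem_CL.mp hx).1.1 e)
      (fun z hz => ?_)
    · rw [Finset.mem_erase] at ha
      exact Finset.mem_filter.mpr ⟨hOs x hxO a ha.1, a, rfl⟩
    · obtain ⟨hz1, a, rfl⟩ := Finset.mem_filter.mp hz
      refine ⟨a, Finset.mem_erase.mpr ⟨fun e => ?_, Finset.mem_univ _⟩, rfl⟩
      exact (mem_CL.mp (Finset.mem_filter.mp hz1).1).1.1 (by rw [e, zero_smul])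
  have e0 : (O.filter fun z => ∃ a : F, z = a • x') = ∅ := by
    refine Finset.filter_eq_empty_iff.mpr fun z hz => ?_
    rintro ⟨a, rfl⟩
    have ha : a ≠ 0 := fun e => (mem_CL.mp (Finset.mem_filter.mp hz).1).1.1 (by rw [e, zero_smul])
    exact hx'O (by simpa [inv_smul_smul₀ ha] using hOs _ hz a⁻¹ (inv_ne_zero ha))
  rw [e1] at h1
  rw [e0, Finset.card_empty] at h0
  have hd : p ∣ Fintype.card F - 1 := Nat.modEq_zero_iff_dvd.mp (h1.symm.trans h0)
  obtain ⟨n, -, hn⟩ := FiniteField.card F p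
  have h2 : p ∣ Fintype.card F := hn ▸ dvd_pow_self p n.pos.ne'
  have := Nat.dvd_sub h2 hd
  rw [Nat.sub_sub_self Fintype.card_pos] at this
  exact hp.one_lt.ne' (Nat.dvd_one.mp this)

/-- Multiples with a given axis are equally many at all centres of a line. -/
theorem card_Hgp_eq (h2 : Two K) {φ x x' : VV} (hφ : φ ≠ 0) (hx : x ∈ CL K φ) (hx' : x' ∈ CL K φ) :
    Nat.card (Hgp K φ x) = Nat.card (Hgp K φ x') := by
  suffices key : ∀ {x x' : VV}, x ∈ CL K φ → x' ∈ CL K φ → Nat.card (Hgp K φ x) ≤ Nat.card (Hgp K φ x') from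
    le_antisymm (key hx hx') (key hx' hx)
  intro x x' hx hx'
  obtain ⟨k, hk, a, μ, ha, hμ, hkφ, hkx⟩ := gleason (p := p) h2 hφ hx hx'
  have hki : φ ᵥ* ((k⁻¹ : GG) : MM) = μ⁻¹ • φ := by
    rw [eq_inv_smul_iff₀ hμ, ← Matrix.smul_vecMul, ← hkφ, Matrix.vecMul_vecMul, ← Units.val_mul,
      mul_inv_cancel, Units.val_one, Matrix.vecMul_one]
  refine Nat.card_le_card_of_injective (fun s : Hgp K φ x => (⟨μ⁻¹ * (s * a), ?_⟩ : Hgp K φ x'))
    (fun s t e => Subtype.ext (mul_right_cancel₀ ha (mul_left_cancel₀ (inv_ne_zero hμ) (congrArg Subtype.val e))))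
  have h := (mem_Hgp.mp s.2).conj hk
  rw [Matrix.mulVec_smul, hkx, smul_smul, hki] at h
  have h' := h.scale (inv_mul_cancel₀ hμ)
  rw [smul_smul, smul_smul, mul_inv_cancel₀ hμ, one_smul] at h'
  exact h'

/-- Counting the elations with a given axis by their centres. -/
theorem axis_count (h2 : Two K) {φ x : VV} (hφ : φ ≠ 0) (hx : x ∈ CL K φ) :
    (CL K φ).card * (Nat.card (Hgp K φ x) - 1) = (Fintype.card F - 1) * (Nat.card (Bgp K φ) - 1) := by
  classical
  let T := ((CL K φ) ×ˢ (Finset.univ.erase (0 : F))).filter fun z => Inc K (z.2 • z.1) φ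
  have h1 : T.card = (CL K φ).card * (Nat.card (Hgp K φ x) - 1) := by
    rw [Finset.card_eq_sum_card_fiberwise (f := Prod.fst) (t := CL K φ) (fun z hz =>
      (Finset.mem_product.mp (Finset.mem_filter.mp hz).1).1), Finset.sum_const_nat (m := Nat.card (Hgp K φ x) - 1)]
    intro w hw
    rw [card_Hgp_eq (p := p) h2 hφ hx hw, Nat.card_eq_fintype_card, Fintype.card_subtype,
      ← Finset.card_erase_of_mem (s := Finset.univ.filter fun a => a ∈ Hgp K φ w) (a := 0) (by simp [zero_mem])]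
    refine Finset.card_bij (fun z _ => z.2) (fun z hz => ?_) (fun z hz z' hz' e => ?_) (fun a ha => ?_)
    · simp only [T, Finset.mem_filter, Finset.mem_product, Finset.mem_erase] at hz ⊢
      obtain ⟨⟨⟨-, h0, -⟩, hi⟩, rfl⟩ := hz
      exact ⟨h0, Finset.mem_univ _, hi⟩
    · exact Prod.ext ((Finset.mem_filter.mp hz).2.trans (Finset.mem_filter.mp hz').2.symm) e
    · simp only [Finset.mem_erase, Finset.mem_filter] at ha
      refine ⟨(w, a), ?_, rfl⟩
      simp only [T, Finset.mem_filter, Finset.mem_product, Finset.mem_erase]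
      exact ⟨⟨⟨hw, ha.1, Finset.mem_univ _⟩, ha.2.2⟩, trivial⟩
  have h2' : T.card = ((Finset.univ.erase (0 : F)) ×ˢ ((Finset.univ.filter fun y => y ∈ Bgp K φ).erase 0)).card := by
    refine Finset.card_bij (fun z _ => (z.2, z.2 • z.1)) (fun z hz => ?_) (fun z hz z' hz' e => ?_) (fun z hz => ?_)
    · simp only [T, Finset.mem_filter, Finset.mem_product, Finset.mem_erase] at hz ⊢
      exact ⟨hz.1.2, smul_ne_zero hz.1.2.1 (mem_CL.mp hz.1.1).1.1, Finset.mem_univ _, hz.2⟩
    · have e1 : z.2 = z'.2 := congrArg Prod.fst e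
      have e2 : z.2 • z.1 = z'.2 • z'.1 := congrArg Prod.snd e
      rw [← e1] at e2
      have h0 : z.2 ≠ 0 := (Finset.mem_erase.mp (Finset.mem_product.mp (Finset.mem_filter.mp hz).1).2).1
      exact Prod.ext (smul_right_injective VV h0 e2) e1
    · simp only [Finset.mem_product, Finset.mem_erase, Finset.mem_filter] at hz
      obtain ⟨⟨ha, -⟩, hy0, -, hy⟩ := hz
      refine ⟨(z.1⁻¹ • z.2, z.1), ?_, Prod.ext rfl (smul_inv_smul₀ ha _)⟩
      simp only [T, Finset.mem_filter, Finset.mem_product, Finset.mem_erase, smul_inv_smul₀ ha]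
      refine ⟨⟨mem_CL.mpr ⟨IsC.smul ⟨hy0, φ, hφ, hy⟩ (inv_ne_zero ha), ?_⟩, ha, Finset.mem_univ _⟩, hy⟩
      rw [dotProduct_smul, (mem_Bgp.mp hy).1, smul_zero]
  rw [← h1, h2', Finset.card_product, Finset.card_erase_of_mem (Finset.mem_univ _), Finset.card_univ,
    Finset.card_erase_of_mem (by simp [zero_mem]), Nat.card_eq_fintype_card (α := Bgp K φ), Fintype.card_subtype]

end prime

/-- The elations with a given axis act freely off it. -/
theorem card_Bgp_dvd {φ : VV} :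
    Nat.card (Bgp K φ) ∣ (CS K).card - (CL K φ).card := by
  classical
  let D := {z : VV // IsC K z ∧ φ ⬝ᵥ z ≠ 0}
  letI : AddAction (Bgp K φ) D :=
    { vadd := fun b z => ⟨z.1 + (φ ⬝ᵥ z.1) • b.1, by
        obtain ⟨g, hg, hgv⟩ := (mem_Bgp.mp b.2).2
        have := z.2.1.conj hg
        rw [hgv, one_mulVec'] at this
        refine ⟨this, ?_⟩
        rw [dotProduct_add, dotProduct_smul, (mem_Bgp.mp b.2).1, smul_zero, add_zero]
        exact z.2.2⟩
      zero_vadd := fun z => Subtype.ext (by show z.1 + _ • (0 : VV) = z.1; rw [smul_zero, add_zero])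
      add_vadd := fun b c z => Subtype.ext (by
        show z.1 + (φ ⬝ᵥ z.1) • (b.1 + c.1) = _ + (φ ⬝ᵥ (z.1 + (φ ⬝ᵥ z.1) • c.1)) • b.1
        rw [dotProduct_add, dotProduct_smul, (mem_Bgp.mp c.2).1, smul_zero, add_zero, smul_add]
        show z.1 + _ = z.1 + _ + _
        abel) }
  have hfree : ∀ z : D, AddAction.stabilizer (Bgp K φ) z = ⊥ := fun z => by
    rw [eq_bot_iff]
    intro b hb
    have h : z.1 + (φ ⬝ᵥ z.1) • b.1 = z.1 := congrArg Subtype.val hb
    rw [add_eq_left, smul_eq_zero] at h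
    exact AddSubgroup.mem_bot.mpr (Subtype.ext (h.resolve_left z.2.2))
  have hD : Nat.card D = (CS K).card - (CL K φ).card := by
    rw [Nat.card_eq_fintype_card, Fintype.card_subtype, ← Finset.card_sdiff_of_subset (fun z hz => mem_CS.mpr (mem_CL.mp hz).1)]
    congr 1
    ext z
    simp only [Finset.mem_filter, Finset.mem_univ, true_and, Finset.mem_sdiff, mem_CS, mem_CL]
    tauto
  rw [← hD, Nat.card_congr (AddAction.selfEquivOrbitsQuotientProd hfree), Nat.card_prod]
  exact dvd_mul_left _ _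

theorem card_kernel {φ : VV} (hφ : φ ≠ 0) :
    (Finset.univ.filter fun z : VV => φ ⬝ᵥ z = 0).card = Fintype.card F * Fintype.card F := by
  classical
  let L : VV →ₗ[F] F := dotProductBilin F F φ
  obtain ⟨i, hi⟩ := Function.ne_iff.mp hφ
  have hs : Function.Surjective L := fun c => ⟨Pi.single i (c / φ i), by
    show φ ⬝ᵥ _ = c
    rw [dotProduct_single, mul_div_cancel₀ _ hi]⟩
  have h := AddSubgroup.card_eq_card_quotient_mul_card_addSubgroup L.toAddMonoidHom.ker
  rw [Nat.card_congr (QuotientAddGroup.quotientKerEquivOfSurjective L.toAddMonoidHom hs).toEquiv,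
    Nat.card_eq_fintype_card, Nat.card_eq_fintype_card, Fintype.card_fun, Fintype.card_fin] at h
  have e : (Finset.univ.filter fun z : VV => φ ⬝ᵥ z = 0).card = Nat.card L.toAddMonoidHom.ker := by
    rw [← Fintype.card_subtype, ← Nat.card_eq_fintype_card]
    exact Nat.card_congr (Equiv.subtypeEquivRight fun z => Iff.rfl)
  rw [e]
  refine Nat.eq_of_mul_eq_mul_left (Fintype.card_pos : 0 < Fintype.card F) ?_
  rw [← h]
  ring

section prime
include p

/-- The basic arithmetic data of an axis. -/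
theorem axis_data (h2 : Two K) {x φ : VV} (hx : x ≠ 0) (hφ : φ ≠ 0) (h : Inc K x φ) :
    x ∈ CL K φ ∧ 2 ≤ Nat.card (Hgp K φ x) ∧ Nat.card (Hgp K φ x) ∣ Fintype.card F ∧
      (∃ j, Nat.card (Hgp K φ x) = p ^ j) ∧ (∃ j, Nat.card (Bgp K φ) = p ^ j) ∧
      Nat.card (Hgp K φ x) < Nat.card (Bgp K φ) ∧ Nat.card (Bgp K φ) ≤ Fintype.card F * Fintype.card F := by
  classical
  have hp : p.Prime := Fact.out
  obtain ⟨n, -, hn⟩ := FiniteField.card F p
  have hH : Nat.card (Hgp K φ x) ∣ Fintype.card F := by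
    rw [← Nat.card_eq_fintype_card]; exact AddSubgroup.card_addSubgroup_dvd_card _
  have hB : Nat.card (Bgp K φ) ∣ Fintype.card F ^ 3 := by
    have := AddSubgroup.card_addSubgroup_dvd_card (Bgp K φ)
    rwa [Nat.card_eq_fintype_card (α := VV), Fintype.card_fun, Fintype.card_fin] at this
  have h1 : (1 : F) ∈ Hgp K φ x := mem_Hgp.mpr (by rw [one_smul]; exact h)
  refine ⟨mem_CL.mpr ⟨⟨hx, φ, hφ, h⟩, h.1⟩, ?_, hH, ?_, ?_, ?_, ?_⟩
  · haveI : Nontrivial (Hgp K φ x) := ⟨⟨⟨1, h1⟩, 0, fun e => one_ne_zero (congrArg Subtype.val e)⟩⟩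
    exact Finite.one_lt_card
  · obtain ⟨j, -, hj⟩ := (Nat.dvd_prime_pow hp).mp (hn ▸ hH)
    exact ⟨j, hj⟩
  · rw [hn, ← pow_mul] at hB
    obtain ⟨j, -, hj⟩ := (Nat.dvd_prime_pow hp).mp hB
    exact ⟨j, hj⟩
  · obtain ⟨y, hy, hyne⟩ := h2.centres x φ hx hφ h
    rw [Nat.card_eq_fintype_card, Nat.card_eq_fintype_card]
    refine Fintype.card_lt_of_injective_of_notMem (fun s : Hgp K φ x => (⟨(s : F) • x, s.2⟩ : Bgp K φ))
      (fun s t e => Subtype.ext (smul_left_injective F hx (congrArg Subtype.val e))) (b := ⟨y, hy⟩) ?_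
    rintro ⟨s, hs⟩
    exact hyne s (congrArg Subtype.val hs).symm
  · rw [← card_kernel hφ, Nat.card_eq_fintype_card, Fintype.card_subtype]
    refine Finset.card_le_card fun z hz => ?_
    rw [Finset.mem_filter] at hz ⊢
    exact ⟨Finset.mem_univ _, (mem_Bgp.mp hz.2).1⟩

/-- If every point is a centre, the group contains the special linear group. -/
theorem sl_of_all (h2 : Two K) (hirr : Irr K) (hall : ∀ z : VV, z ≠ 0 → IsC K z) {x φ : VV} (hx : x ≠ 0)
    (hφ : φ ≠ 0) (h : Inc K x φ) : Cfsg.Geo.specialLinear (Fin 3) F ≤ K := by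
  classical
  have hp : p.Prime := Fact.out
  obtain ⟨hxC, hH2, hHq, ⟨i, hi⟩, ⟨j, hj⟩, hlt, hle⟩ := axis_data (p := p) h2 hx hφ h
  have hcl : (CL K φ).card = Fintype.card F * Fintype.card F - 1 := by
    rw [← card_kernel hφ, ← Finset.card_erase_of_mem (s := Finset.univ.filter fun z : VV => φ ⬝ᵥ z = 0) (a := 0) (by simp)]
    congr 1
    ext z
    simp only [mem_CL, Finset.mem_erase, Finset.mem_filter, Finset.mem_univ, true_and]
    exact ⟨fun hz => ⟨hz.1.1, hz.2⟩, fun hz => ⟨hall z hz.1, hz.2⟩⟩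
  have he := axis_count (p := p) h2 hφ hxC
  rw [hcl] at he
  obtain ⟨n, -, hn⟩ := FiniteField.card F p
  set q := Fintype.card F with hq
  set H := Nat.card (Hgp K φ x)
  set B := Nat.card (Bgp K φ) with hBdef
  have hq1 : 1 < q := Fintype.one_lt_card
  have hBe : B + q = q * H + H := by
    have e : (q - 1) * ((q + 1) * (H - 1)) = (q - 1) * (B - 1) := by
      rw [← he, ← mul_assoc, show (q - 1) * (q + 1) = q * q - 1 by rw [mul_comm, ← Nat.sq_sub_sq, one_pow, pow_two]]
    have e' := Nat.eq_of_mul_eq_mul_left (by omega) e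
    obtain ⟨H', hH'⟩ : ∃ H', H = H' + 1 := ⟨H - 1, by omega⟩
    rw [hH'] at e' ⊢
    simp only [Nat.add_sub_cancel] at e'
    have : q * (H' + 1) = q * H' + q := by ring
    have : (q + 1) * H' = q * H' + H' := by ring
    omega
  have hHeq : H = q := by
    by_contra hne
    have hHlt : H < q := lt_of_le_of_ne (Nat.le_of_dvd (by omega) hHq) hne
    have hqB : q ∣ B := by
      have h2' : q * 2 ≤ q * H := Nat.mul_le_mul_left q hH2
      have hBq : q ≤ B := by omega
      rw [hn, hj] at hBq ⊢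
      exact Nat.pow_dvd_pow p ((Nat.pow_le_pow_iff_right hp.one_lt).mp hBq)
    have : q ∣ H := (Nat.dvd_add_right (dvd_mul_right q H)).mp (hBe ▸ Nat.dvd_add hqB dvd_rfl)
    exact absurd (Nat.le_of_dvd (by omega) this) (by omega)
  refine sl_of_axis hirr hφ fun z hz => ?_
  have hBq : B = q * q := by rw [hHeq] at hBe; omega
  have hsub : (Finset.univ.filter fun y : VV => y ∈ Bgp K φ) = Finset.univ.filter fun y : VV => φ ⬝ᵥ y = 0 := by
    refine Finset.eq_of_subset_of_card_le (fun y hy => ?_) ?_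
    · rw [Finset.mem_filter] at hy ⊢
      exact ⟨hy.1, (mem_Bgp.mp hy.2).1⟩
    · rw [card_kernel hφ, ← hBq, hBdef, Nat.card_eq_fintype_card, Fintype.card_subtype]
  have : z ∈ Finset.univ.filter fun y : VV => y ∈ Bgp K φ := hsub ▸ Finset.mem_filter.mpr ⟨Finset.mem_univ _, hz⟩
  exact (mem_Bgp.mp (Finset.mem_filter.mp this).2).2

/-- With one or two classes of centres, every axis has four elations. -/
theorem axis_four (h2 : Two K) {x φ : VV} (hx : x ≠ 0) (hφ : φ ≠ 0) (h : Inc K x φ) {e m : ℕ}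
    (he : e = 1 ∨ e = 2) (hm : 3 * m = Fintype.card F * Fintype.card F + Fintype.card F + 1)
    (hq : 5 ≤ Fintype.card F) (hCS : (CS K).card = e * m * (Fintype.card F - 1)) :
    e = 1 ∧ p = 2 ∧ Nat.card (Bgp K φ) = 4 := by
  classical
  have hp : p.Prime := Fact.out
  obtain ⟨hxC, hH2, hHq, ⟨i, hi⟩, ⟨j, hj⟩, hlt, hle⟩ := axis_data (p := p) h2 hx hφ h
  have hc := axis_count (p := p) h2 hφ hxC
  have hd := card_Bgp_dvd (K := K) (φ := φ)
  have hsub : (CL K φ).card ≤ (CS K).card := Finset.card_le_card fun z hz => mem_CS.mpr (mem_CL.mp hz).1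
  have hij : i ≤ j := by
    rw [hi, hj] at hlt
    exact ((Nat.pow_lt_pow_iff_right hp.one_lt).mp hlt).le
  obtain ⟨b, hb⟩ : Nat.card (Hgp K φ x) ∣ Nat.card (Bgp K φ) := by rw [hi, hj]; exact Nat.pow_dvd_pow p hij
  obtain ⟨a, ha⟩ := hHq
  obtain ⟨k, hk⟩ := hd
  obtain ⟨n, -, hn⟩ := FiniteField.card F p
  set q := Fintype.card F
  set H := Nat.card (Hgp K φ x)
  set B := Nat.card (Bgp K φ)
  set N := (CL K φ).card
  set M := (CS K).card
  have hcz : (N : ℤ) * ((H : ℤ) - 1) = ((q : ℤ) - 1) * ((B : ℤ) - 1) := by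
    have := congrArg (fun t : ℕ => (t : ℤ)) hc
    push_cast [Nat.cast_sub (show 1 ≤ H by omega), Nat.cast_sub (show 1 ≤ q by omega), Nat.cast_sub (show 1 ≤ B by omega)] at this
    exact this
  have hkz : (M : ℤ) - N = B * k := by
    have := congrArg (fun t : ℕ => (t : ℤ)) hk
    push_cast [Nat.cast_sub hsub] at this
    exact this
  have hMz : (M : ℤ) = e * m * ((q : ℤ) - 1) := by
    rw [hCS]; push_cast [Nat.cast_sub (show 1 ≤ q by omega)]; ring
  have hmz : 3 * (m : ℤ) = q * q + q + 1 := by exact_mod_cast hm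
  have hbz : (B : ℤ) = H * b := by exact_mod_cast hb
  have haz : (q : ℤ) = H * a := by exact_mod_cast ha
  have hdiv : (H : ℤ) ∣ (e : ℤ) - 3 := by
    refine ⟨3 * ((e : ℤ) * m * a - b * k - ((N : ℤ) - H * a * b + a + b)) - e * (H * a * a + a), ?_⟩
    linear_combination -(e : ℤ) * hmz - 3 * hkz + 3 * hMz + 3 * hcz - (3 * (k : ℤ) - 3 * (q : ℤ) + 3) * hbz +
      (3 * (e : ℤ) * m - e * ((q : ℤ) + H * a + 1) + 3 * ((H : ℤ) * b) - 3) * haz
  have hH : H = 2 ∧ e = 1 := by
    rcases he with rfl | rfl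
    · have h' : H ∣ 2 := by
        have := Int.natCast_dvd.mp hdiv
        simpa using this
      have := Nat.le_of_dvd (by norm_num) h'
      omega
    · have h' : H ∣ 1 := by
        have := Int.natCast_dvd.mp hdiv
        simpa using this
      have := Nat.le_of_dvd (by norm_num) h'
      omega
  obtain ⟨hH, he1⟩ := hH
  have hp2 : p = 2 := by
    have : p ∣ 2 := by
      rw [← hH, hi]
      refine dvd_pow_self p fun e0 => ?_
      rw [hi, e0, pow_zero] at hH
      omega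
    exact (Nat.prime_dvd_prime_iff_eq hp Nat.prime_two).mp this
  refine ⟨he1, hp2, ?_⟩
  subst hp2
  have hN : N = (q - 1) * (B - 1) := by rw [← hc, hH]; ring
  have hdm : B ∣ m + 1 := by
    have hcop : Nat.Coprime B (q - 1) := by
      rw [hj]
      refine Nat.Coprime.pow_left _ (Nat.prime_two.coprime_iff_not_dvd.mpr ?_)
      have : 2 ∣ q := hn ▸ dvd_pow_self 2 n.pos.ne'
      omega
    refine hcop.dvd_of_dvd_mul_left ?_
    have : (q - 1) * (m + 1) = M - N + (q - 1) * B := by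
      rw [hN, hCS, he1, one_mul, hN.symm]
      have hle' : (q - 1) * (B - 1) ≤ (q - 1) * m := by
        rw [← hN]; rw [hCS, he1, one_mul, mul_comm] at hsub; exact hsub
      rw [hN, mul_comm m, Nat.mul_add, mul_one]
      have : (q - 1) * B = (q - 1) * (B - 1) + (q - 1) := by
        rw [← Nat.mul_succ, Nat.succ_eq_add_one, Nat.sub_add_cancel (by omega)]
      omega
    rw [this]
    exact Nat.dvd_add ⟨k, hk⟩ (dvd_mul_left B _)
  have hB2 : 2 ≤ j := by
    by_contra hj2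
    have : B ≤ 2 := by rw [hj]; calc 2 ^ j ≤ 2 ^ 1 := Nat.pow_le_pow_right (by norm_num) (by omega)
      _ = 2 := by norm_num
    omega
  have hB3 : j ≤ 2 := by
    by_contra hj3
    have h8 : 8 ∣ B := hj ▸ Nat.pow_dvd_pow 2 (show 3 ≤ j by omega)
    have h8q : 8 ∣ q := by
      rw [hn]
      refine Nat.pow_dvd_pow 2 (show 3 ≤ (n : ℕ) from ?_)
      by_contra hn3
      have : q ≤ 4 := by
        rw [hn]
        calc 2 ^ (n : ℕ) ≤ 2 ^ 2 := Nat.pow_le_pow_right (by norm_num) (by omega)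
          _ = 4 := by norm_num
      omega
    have h1 : 8 ∣ 3 * (m + 1) := dvd_mul_of_dvd_right (h8.trans hdm) 3
    rw [show 3 * (m + 1) = q * (q + 1) + 4 by rw [Nat.mul_add, hm]; ring] at h1
    have := (Nat.dvd_add_right (dvd_mul_of_dvd_left h8q _)).mp h1
    norm_num at this
  rw [hj, show j = 2 by omega]
  norm_num

end prime

/-- The stabiliser of a centre with four axis vectors is small. -/
theorem stab_bound (h2 : Two K) (hdet : ∀ k ∈ K, (k : MM).det = 1) (hsc : ∀ l : F, l ^ 3 = 1 → ∃ c ∈ K, (c : MM) = l • 1)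
    {x φ : VV} (hx : x ≠ 0) (hφ : φ ≠ 0) (h : Inc K x φ) [DecidablePred fun ψ => Inc K x ψ]
    (h4 : (Finset.univ.filter fun ψ : VV => Inc K x ψ).card ≤ 4) [DecidablePred fun k : GG => k ∈ K ∧ ∃ l : F, (k : MM) *ᵥ x = l • x]
    [Fintype GG] :
    (Finset.univ.filter fun k : GG => k ∈ K ∧ ∃ l : F, (k : MM) *ᵥ x = l • x).card ≤ 192 := by
  classical
  obtain ⟨ψ, hψ, hne⟩ := h2.axes x φ hx hφ h
  set A := Finset.univ.filter fun ψ : VV => Inc K x ψ
  set S := Finset.univ.filter fun k : GG => k ∈ K ∧ ∃ l : F, (k : MM) *ᵥ x = l • x with hS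
  choose! lam hlam using fun k (hk : k ∈ S) => (Finset.mem_filter.mp hk).2.2
  have hl0 : ∀ k ∈ S, lam k ≠ 0 := fun k hk e => GL_ne_zero_mulVec k hx (by rw [hlam k hk, e, zero_smul])
  let θ : GG → VV × VV := fun k => ((lam k)⁻¹ • (φ ᵥ* (k : MM)), (lam k)⁻¹ • (ψ ᵥ* (k : MM)))
  have hinv : ∀ k ∈ S, ∀ η, Inc K x η → (lam k)⁻¹ • (η ᵥ* (k : MM)) ∈ A := fun k hk η hη => by
    refine Finset.mem_filter.mpr ⟨Finset.mem_univ _, ?_⟩
    have h := hη.conj (K.inv_mem (Finset.mem_filter.mp hk).2.1)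
    rw [inv_inv] at h
    have e : ((k⁻¹ : GG) : MM) *ᵥ x = (lam k)⁻¹ • x := by
      rw [eq_inv_smul_iff₀ (hl0 k hk), ← Matrix.mulVec_smul, ← hlam k hk, Matrix.mulVec_mulVec, ← Units.val_mul,
        inv_mul_cancel, Units.val_one, Matrix.one_mulVec]
    rw [e] at h
    exact h.move (inv_ne_zero (hl0 k hk))
  have hθ : ∀ k ∈ S, θ k ∈ A ×ˢ A := fun k hk => Finset.mem_product.mpr ⟨hinv k hk φ h, hinv k hk ψ hψ⟩
  have hroots : (Finset.univ.filter fun l : F => l ^ 3 = 1).card ≤ 3 := by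
    refine le_trans (Finset.card_le_card (t := (Polynomial.nthRoots 3 (1 : F)).toFinset) fun l hl => ?_)
      ((Multiset.toFinset_card_le _).trans (Polynomial.card_nthRoots 3 1))
    rw [Multiset.mem_toFinset, Polynomial.mem_nthRoots (by norm_num)]
    exact (Finset.mem_filter.mp hl).2
  have hfib : ∀ t ∈ A ×ˢ A, (S.filter fun k => θ k = t).card ≤ 12 := by
    intro t _
    rcases (S.filter fun k => θ k = t).eq_empty_or_nonempty with he | ⟨k₀, hk₀⟩
    · rw [he]; simp
    rw [Finset.mem_filter] at hk₀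
    let Y : Finset MM := ((Finset.univ.filter fun l : F => l ^ 3 = 1) ×ˢ A).image fun z => z.1 • (1 + vecMulVec x z.2)
    have hY : Y.card ≤ 12 := by
      refine Finset.card_image_le.trans ?_
      rw [Finset.card_product]
      exact (Nat.mul_le_mul hroots h4).trans (by norm_num)
    refine (Finset.card_le_card_of_injOn (t := Y) (fun k : GG => ((k * k₀⁻¹ : GG) : MM)) (fun k hk => ?_) ?_).trans hY
    · rw [Finset.mem_coe, Finset.mem_filter] at hk
      obtain ⟨hkS, hkt⟩ := hk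
      set w := k * k₀⁻¹ with hw
      have hwK : w ∈ K := K.mul_mem (Finset.mem_filter.mp hkS).2.1 (K.inv_mem (Finset.mem_filter.mp hk₀.1).2.1)
      set μ := lam k / lam k₀ with hμ
      have hμ0 : μ ≠ 0 := div_ne_zero (hl0 k hkS) (hl0 k₀ hk₀.1)
      have hwx : (w : MM) *ᵥ x = μ • x := by
        have e : ((k₀⁻¹ : GG) : MM) *ᵥ x = (lam k₀)⁻¹ • x := by
          rw [eq_inv_smul_iff₀ (hl0 k₀ hk₀.1), ← Matrix.mulVec_smul, ← hlam k₀ hk₀.1, Matrix.mulVec_mulVec, ← Units.val_mul,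
            inv_mul_cancel, Units.val_one, Matrix.one_mulVec]
        rw [hw, Units.val_mul, ← Matrix.mulVec_mulVec, e, Matrix.mulVec_smul, hlam k hkS, smul_smul, hμ, div_eq_inv_mul]
      have hwy : ∀ η : VV, (lam k)⁻¹ • (η ᵥ* (k : MM)) = (lam k₀)⁻¹ • (η ᵥ* (k₀ : MM)) → η ᵥ* (w : MM) = μ • η := by
        intro η e
        rw [inv_smul_eq_iff₀ (hl0 k hkS), smul_smul, ← div_eq_mul_inv, ← hμ] at e
        rw [hw, Units.val_mul, ← Matrix.vecMul_vecMul, e, Matrix.smul_vecMul, Matrix.vecMul_vecMul, ← Units.val_mul,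
          mul_inv_cancel, Units.val_one, Matrix.vecMul_one]
      have hθe := hkt.trans hk₀.2.symm
      have hφw := hwy φ (congrArg Prod.fst hθe)
      have hψw := hwy ψ (congrArg Prod.snd hθe)
      set M : MM := μ⁻¹ • (w : MM) - 1 with hM
      have hMx : M *ᵥ x = 0 := by
        rw [hM, Matrix.sub_mulVec, Matrix.smul_mulVec, hwx, inv_smul_smul₀ hμ0, Matrix.one_mulVec, sub_self]
      have hMη : ∀ η : VV, η ᵥ* (w : MM) = μ • η → ∀ z, η ⬝ᵥ (M *ᵥ z) = 0 := fun η e z => by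
        rw [dotProduct_mulVec, hM, Matrix.vecMul_sub, Matrix.vecMul_smul, e, inv_smul_smul₀ hμ0, Matrix.vecMul_one, sub_self,
          zero_dotProduct]
      choose η hη using fun l : Fin 3 =>
        kernel_line hφ hne hx h.1 hψ.1 (hMη φ hφw (Pi.single l 1)) (hMη ψ hψw (Pi.single l 1))
      have hMv : M = vecMulVec x η := by
        ext r l
        have := congrFun (hη l) r
        simp [Matrix.mulVec_single] at this
        rw [vecMulVec_apply, this, mul_comm]
      have hwv : (w : MM) = μ • (1 + vecMulVec x η) := by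
        rw [← hMv, hM, add_sub_cancel, smul_inv_smul₀ hμ0]
      have hηx : η ⬝ᵥ x = 0 := by
        rw [hMv, vecMulVec_mulVec, op_smul_eq_smul] at hMx
        exact (smul_eq_zero.mp hMx).resolve_right hx
      have hμ3 : μ ^ 3 = 1 := by
        have hd := hdet w hwK
        rwa [hwv, Matrix.det_smul, det_one', hηx, add_zero, mul_one, Fintype.card_fin] at hd
      obtain ⟨c, hc, hcv⟩ := hsc μ⁻¹ (by rw [inv_pow, hμ3, inv_one])
      rw [Finset.mem_coe]
      refine Finset.mem_image.mpr ⟨(μ, η), Finset.mem_product.mpr ⟨Finset.mem_filter.mpr ⟨Finset.mem_univ _, hμ3⟩,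
        Finset.mem_filter.mpr ⟨Finset.mem_univ _, hηx, c * w, K.mul_mem hc hwK, ?_⟩⟩, hwv.symm⟩
      rw [Units.val_mul, hcv, smul_mul_assoc, one_mul, hwv, inv_smul_smul₀ hμ0]
    · intro a _ b _ e
      exact mul_right_cancel (Units.ext e)
  have := Finset.card_le_mul_card_image_of_maps_to (f := θ) (t := A ×ˢ A) hθ 12 hfib
  rw [Finset.card_product] at this
  have h44 : A.card * A.card ≤ 4 * 4 := Nat.mul_le_mul h4 h4
  omega

/-- The order bound from one centre. -/
theorem order_bound [Fintype GG] {x : VV} (hx : IsC K x)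
    [DecidablePred fun k : GG => k ∈ K ∧ ∃ l : F, (k : MM) *ᵥ x = l • x]
    (hst : (Finset.univ.filter fun k : GG => k ∈ K ∧ ∃ l : F, (k : MM) *ᵥ x = l • x).card ≤ 192) :
    Nat.card K * (Fintype.card F - 1) ≤ 192 * (CS K).card := by
  classical
  have hk : Nat.card K = (Finset.univ.filter fun k : GG => k ∈ K).card := by
    rw [Nat.card_eq_fintype_card, Fintype.card_subtype]
  have hcard : Nat.card K * (Fintype.card F - 1) =
      ((Finset.univ.filter fun k : GG => k ∈ K) ×ˢ (Finset.univ.erase (0 : F))).card := by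
    rw [Finset.card_product, hk, Finset.card_erase_of_mem (Finset.mem_univ _), Finset.card_univ]
  rw [hcard]
  refine Finset.card_le_mul_card_image_of_maps_to (f := fun z : GG × F => z.2 • ((z.1 : MM) *ᵥ x)) (fun z hz => ?_) _
    fun y hy => ?_
  · simp only [Finset.mem_product, Finset.mem_filter, Finset.mem_erase] at hz
    exact mem_CS.mpr ((hx.conj hz.1.2).smul hz.2.1)
  · rcases Finset.eq_empty_or_nonempty (((Finset.univ.filter fun k : GG => k ∈ K) ×ˢ (Finset.univ.erase (0 : F))).filter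
      fun z => z.2 • ((z.1 : MM) *ᵥ x) = y) with he | ⟨z₀, hz₀⟩
    · rw [he]; simp
    simp only [Finset.mem_filter, Finset.mem_product, Finset.mem_erase] at hz₀
    refine le_trans (Finset.card_le_card_of_injOn (fun z : GG × F => z₀.1⁻¹ * z.1) (fun z hz => ?_) ?_) hst
    · simp only [Finset.mem_coe, Finset.mem_filter, Finset.mem_product, Finset.mem_erase] at hz ⊢
      refine ⟨Finset.mem_univ _, K.mul_mem (K.inv_mem hz₀.1.1.2) hz.1.1.2, z₀.2 / z.2, ?_⟩
      have e : (z.1 : MM) *ᵥ x = (z₀.2 / z.2) • ((z₀.1 : MM) *ᵥ x) := by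
        rw [div_eq_inv_mul, ← smul_smul, hz₀.2, ← hz.2, inv_smul_smul₀ hz.1.2.1]
      rw [Units.val_mul, ← Matrix.mulVec_mulVec, e, Matrix.mulVec_smul, Matrix.mulVec_mulVec, ← Units.val_mul,
        inv_mul_cancel, Units.val_one, Matrix.one_mulVec]
    · intro z hz z' hz' e
      simp only [Finset.mem_coe, Finset.mem_filter, Finset.mem_product, Finset.mem_erase] at hz hz'
      have e1 : z.1 = z'.1 := mul_left_cancel e
      refine Prod.ext e1 ?_
      have h := hz.2.trans hz'.2.symm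
      rw [← e1] at h
      exact smul_left_injective F (GL_ne_zero_mulVec z.1 hx.1) h

end Cfsg.Lib.Classical.SLThree.Elation
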