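import Mathlib
import Cfsg.Agent.Classical.SLThree.SingBase

/-! No invariant family of elations or homologies with a unique axis at each centre. -/

set_option autoImplicit false
set_option linter.unusedSimpArgs false
set_option linter.unusedSectionVars false
set_option linter.style.haveILetI false
set_option linter.flexible false

namespace Cfsg.Lib.Classical.SLThree.Singer

open Matrix LinOne
open scoped MatrixGroups

universe u v

variable {F : Type u} [Field F] [Fintype F] {L : Type v} [Field L] [Finite L] [Algebra F L]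

local notation "MM" => Matrix (Fin 3) (Fin 3) F
local notation "GG" => GL (Fin 3) F
local notation "φ₀" => algebraMap F L

/-- A monic cubic has at most three roots. -/
theorem cubic_roots [DecidableEq F] (a b c : F) :
    (Finset.univ.filter fun X : F => X ^ 3 + a * X ^ 2 + b * X + c = 0).card ≤ 3 := by
  classical
  open Polynomial in
  set P : F[X] := X ^ 3 + C a * X ^ 2 + C b * X + C c with hP
  have hdeg : P.natDegree = 3 := by rw [hP]; compute_degree!
  have hne : P ≠ 0 := fun e => by rw [e] at hdeg; simp at hdeg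
  calc (Finset.univ.filter fun X : F => X ^ 3 + a * X ^ 2 + b * X + c = 0).card ≤ P.roots.toFinset.card := by
        refine Finset.card_le_card fun x hx => ?_
        rw [Finset.mem_filter] at hx
        rw [Multiset.mem_toFinset, Polynomial.mem_roots hne]
        simpa [hP] using hx.2
    _ ≤ Multiset.card P.roots := Multiset.toFinset_card_le _
    _ ≤ 3 := hdeg ▸ Polynomial.card_roots' P

section coords
variable (hd : Module.finrank F L = 3) {β : L} {f R : F}
include hd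

/-- Coordinates with respect to the powers of an eigenvector. -/
theorem exists_coords (hnb : ∀ b : F, φ₀ b ≠ β) :
    ∀ c : L, ∃ x₀ x₁ x₂ : F, c = φ₀ x₀ + φ₀ x₁ * β + φ₀ x₂ * β ^ 2 := by
  classical
  haveI := Fintype.ofFinite L
  let g : F × F × F → L := fun x => φ₀ x.1 + φ₀ x.2.1 * β + φ₀ x.2.2 * β ^ 2
  have hg : Function.Injective g := fun x y h => by
    obtain ⟨h0, h1, h2⟩ := indep hd hnb (a₀ := x.1 - y.1) (a₁ := x.2.1 - y.2.1) (a₂ := x.2.2 - y.2.2)
      (by simp only [g] at h; simp only [map_sub]; linear_combination h)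
    exact Prod.ext (sub_eq_zero.mp h0) (Prod.ext (sub_eq_zero.mp h1) (sub_eq_zero.mp h2))
  have hb := (Fintype.bijective_iff_injective_and_card g).mpr ⟨hg, by
    rw [Fintype.card_prod, Fintype.card_prod, Module.card_eq_pow_finrank (K := F) (V := L), hd]; ring⟩
  intro c
  obtain ⟨x, hx⟩ := hb.2 c
  exact ⟨x.1, x.2.1, x.2.2, hx.symm⟩

theorem coord_facts (h3 : (3 : F) ≠ 0) (hf1 : f ≠ 1) (hf3 : f ^ 3 = 1) (hfβ : fr F L β = φ₀ f * β)
    (hR : β ^ 3 = φ₀ R) {c : L} {x₀ x₁ x₂ : F} (hc : c = φ₀ x₀ + φ₀ x₁ * β + φ₀ x₂ * β ^ 2)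
    (hn : Algebra.norm F c = 1) :
    Algebra.trace F L c = 3 * x₀ ∧ Algebra.trace F L c⁻¹ = 3 * (x₀ ^ 2 - R * x₁ * x₂) ∧
      Algebra.trace F L (c * β) = 3 * R * x₂ ∧ Algebra.trace F L (c⁻¹ * β) = 3 * R * (x₁ ^ 2 - x₀ * x₂) ∧
      x₀ ^ 3 + R * x₁ ^ 3 + R ^ 2 * x₂ ^ 3 - 3 * R * x₀ * x₁ * x₂ = 1 := by
  have hfs : f ^ 2 + f + 1 = 0 := (mul_eq_zero.mp (show (f - 1) * (f ^ 2 + f + 1) = 0 by
    linear_combination hf3)).resolve_left (sub_ne_zero.mpr hf1)
  have hFs : φ₀ f ^ 2 + φ₀ f + 1 = 0 := by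
    have := congrArg φ₀ hfs
    simpa using this
  set σ := fr F L with hσd
  have hi : c * (σ c * σ (σ c)) = 1 := by
    rw [← mul_assoc, ← norm_eq hd, hn, map_one]
  have hinv : c⁻¹ = σ c * σ (σ c) := inv_eq_of_mul_eq_one_right hi
  have hsc : σ c = φ₀ x₀ + φ₀ x₁ * (φ₀ f * β) + φ₀ x₂ * (φ₀ f * β) ^ 2 := by
    rw [hc]; simp only [map_add, map_mul, map_pow, AlgEquiv.commutes, hfβ]
  have hssc : σ (σ c) = φ₀ x₀ + φ₀ x₁ * (φ₀ f ^ 2 * β) + φ₀ x₂ * (φ₀ f ^ 2 * β) ^ 2 := by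
    rw [hsc]; simp only [map_add, map_mul, map_pow, AlgEquiv.commutes, hfβ]; ring
  have hF3 : φ₀ f ^ 3 = 1 := by rw [← map_pow, hf3, map_one]
  have hy : c⁻¹ = φ₀ (x₀ ^ 2 - R * x₁ * x₂) + φ₀ (R * x₂ ^ 2 - x₀ * x₁) * β + φ₀ (x₁ ^ 2 - x₀ * x₂) * β ^ 2 := by
    rw [hinv, hssc, hsc]
    simp only [map_sub, map_mul, map_pow, ← hR]
    linear_combination (φ₀ x₀ * φ₀ x₁ * β + φ₀ x₀ * φ₀ x₂ * β ^ 2 * (φ₀ f ^ 2 - φ₀ f + 1) +
      φ₀ x₁ * φ₀ x₂ * β ^ 3) * hFs + (φ₀ x₁ ^ 2 * β ^ 2 + φ₀ x₂ ^ 2 * β ^ 4 * (φ₀ f ^ 3 + 1) +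
      φ₀ x₁ * φ₀ x₂ * β ^ 3 * (φ₀ f + φ₀ f ^ 2)) * hF3
  have htr : ∀ a₀ a₁ a₂ : F, Algebra.trace F L (φ₀ a₀ + φ₀ a₁ * β + φ₀ a₂ * β ^ 2) = 3 * a₀ := fun a₀ a₁ a₂ =>
    (algebraMap F L).injective (by
      rw [tr_eq hd, ← hσd]
      simp only [map_add, map_mul, map_pow, AlgEquiv.commutes, hfβ, map_ofNat]
      linear_combination (φ₀ a₁ * β + φ₀ a₂ * β ^ 2 * (φ₀ f ^ 2 - φ₀ f + 1)) * hFs)
  refine ⟨by rw [hc, htr], by rw [hy, htr], ?_, ?_, ?_⟩
  · rw [show c * β = φ₀ (R * x₂) + φ₀ x₀ * β + φ₀ x₁ * β ^ 2 by rw [hc, map_mul, ← hR]; ring, htr]; ring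
  · rw [hy, show (φ₀ (x₀ ^ 2 - R * x₁ * x₂) + φ₀ (R * x₂ ^ 2 - x₀ * x₁) * β + φ₀ (x₁ ^ 2 - x₀ * x₂) * β ^ 2) * β =
      φ₀ (R * (x₁ ^ 2 - x₀ * x₂)) + φ₀ (x₀ ^ 2 - R * x₁ * x₂) * β + φ₀ (R * x₂ ^ 2 - x₀ * x₁) * β ^ 2 by
        rw [map_mul φ₀ R (x₁ ^ 2 - x₀ * x₂), ← hR]; ring, htr]
    ring
  · refine (algebraMap F L).injective ?_
    rw [map_one]
    have h : c * c⁻¹ = 1 := mul_inv_cancel₀ fun e => by rw [e, zero_mul] at hi; exact zero_ne_one hi
    have h' := congrArg (fun z => φ₀ (Algebra.trace F L z)) h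
    rw [hy, hc, show (φ₀ x₀ + φ₀ x₁ * β + φ₀ x₂ * β ^ 2) * (φ₀ (x₀ ^ 2 - R * x₁ * x₂) + φ₀ (R * x₂ ^ 2 - x₀ * x₁) * β +
        φ₀ (x₁ ^ 2 - x₀ * x₂) * β ^ 2) = φ₀ (x₀ ^ 3 + R * x₁ ^ 3 + R ^ 2 * x₂ ^ 3 - 3 * R * x₀ * x₁ * x₂) +
          φ₀ 0 * β + φ₀ 0 * β ^ 2 by simp only [map_add, map_sub, map_mul, map_pow, map_ofNat, map_zero, ← hR]; ring,
      htr, show (1 : L) = φ₀ 1 + φ₀ 0 * β + φ₀ 0 * β ^ 2 by simp, htr] at h'
    have h'' := (algebraMap F L).injective h'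
    rw [mul_one] at h''
    rw [mul_left_cancel₀ h3 (h''.trans (mul_one _).symm), map_one]

/-- Norm-one elements cannot all lie on the exceptional cubic. -/
theorem cubic_contra (h3 : (3 : F) ≠ 0) (hf1 : f ≠ 1) (hf3 : f ^ 3 = 1) (hfβ : fr F L β = φ₀ f * β)
    (hR : β ^ 3 = φ₀ R) (hnb : ∀ b : F, φ₀ b ≠ β) (hq : 10 ≤ Fintype.card F)
    (hΦ : ∀ c x₀ x₁ x₂, Algebra.norm F c = 1 → (∀ b : F, φ₀ b ≠ c) → c = φ₀ x₀ + φ₀ x₁ * β + φ₀ x₂ * β ^ 2 →
      1 + 3 * R * x₂ * (x₀ ^ 2 - R * x₁ * x₂) - 3 * R * (x₁ ^ 2 - x₀ * x₂) * x₀ -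
        9 * R ^ 2 * x₂ * (x₁ ^ 2 - x₀ * x₂) = 0) : False := by
  classical
  haveI := Fintype.ofFinite L
  set q := Fintype.card F with hqdef
  choose x₀ x₁ x₂ hx using exists_coords hd hnb
  let roots : Option F → Finset F := fun o => match o with
    | some t => Finset.univ.filter fun X : F =>
        X ^ 3 + 6 * R * X ^ 2 + (9 * R ^ 2 - 3 * R * t - 3 * R * t ^ 2) * X +
          (R * t ^ 3 + R ^ 2 - 3 * R ^ 2 * t - 9 * R ^ 2 * t ^ 2) = 0
    | none => Finset.univ.filter fun X : F => X ^ 3 + 0 * X ^ 2 + (-3 * R) * X + R = 0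
  let key : L → Option F × F := fun c =>
    if x₂ c = 0 then (none, x₀ c / x₁ c) else (some (x₁ c / x₂ c), x₀ c / x₂ c)
  set Keys : Finset (Option F × F) := (Finset.univ : Finset (Option F)).biUnion fun o => (roots o).image fun X => (o, X)
  have hKeys : Keys.card ≤ 3 * (q + 1) := by
    refine (Finset.card_biUnion_le).trans ((Finset.sum_le_card_nsmul _ _ 3 fun o _ => ?_).trans ?_)
    · refine Finset.card_image_le.trans ?_
      cases o <;> exact cubic_roots _ _ _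
    · rw [Finset.card_univ, Fintype.card_option, smul_eq_mul, mul_comm]
  set S := Finset.univ.filter fun c : L => Algebra.norm F c = 1 ∧ ∀ b : F, φ₀ b ≠ c with hS
  have hbase : (Finset.univ.filter fun b : F => b ^ 3 = 1).card ≤ 3 := by
    refine le_trans (le_of_eq ?_) (cubic_roots (F := F) 0 0 (-1))
    congr 1
    ext b
    simp [sub_eq_zero, ← sub_eq_add_neg]
  have hnb' : ∀ b : F, Algebra.norm F (φ₀ b) = b ^ 3 := fun b => by rw [Algebra.norm_algebraMap, hd]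
  have hScard : q * q + q + 1 ≤ S.card + 3 := by
    rw [← card_norm_one hd]
    refine (Finset.card_le_card (t := S ∪ (Finset.univ.filter fun b : F => b ^ 3 = 1).image φ₀) fun c hc => ?_).trans
      ((Finset.card_union_le _ _).trans (Nat.add_le_add_left (Finset.card_image_le.trans hbase) _))
    rw [Finset.mem_filter] at hc
    rw [Finset.mem_union]
    by_cases h : ∀ b : F, φ₀ b ≠ c
    · exact Or.inl (Finset.mem_filter.mpr ⟨Finset.mem_univ _, hc.2, h⟩)
    · push Not at h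
      obtain ⟨b, rfl⟩ := h
      exact Or.inr (Finset.mem_image.mpr ⟨b, Finset.mem_filter.mpr ⟨Finset.mem_univ _, by rw [← hnb']; exact hc.2⟩, rfl⟩)
  have hx12 : ∀ c ∈ S, ¬ (x₁ c = 0 ∧ x₂ c = 0) := fun c hc h => by
    rw [hS, Finset.mem_filter] at hc
    exact hc.2.2 (x₀ c) (by conv_rhs => rw [hx c, h.1, h.2]
                            simp)
  have himg : S.image key ⊆ Keys := by
    intro k hk
    obtain ⟨c, hc, rfl⟩ := Finset.mem_image.mp hk
    have hc12 := hx12 c hc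
    rw [hS, Finset.mem_filter] at hc
    have e := hΦ c _ _ _ hc.2.1 hc.2.2 (hx c)
    have hN := (coord_facts hd h3 hf1 hf3 hfβ hR (hx c) hc.2.1).2.2.2.2
    rw [Finset.mem_biUnion]
    by_cases h2 : x₂ c = 0
    · have h1 : x₁ c ≠ 0 := fun e => hc12 ⟨e, h2⟩
      refine ⟨none, Finset.mem_univ _, Finset.mem_image.mpr ⟨x₀ c / x₁ c, Finset.mem_filter.mpr ⟨Finset.mem_univ _, ?_⟩,
        by simp [key, h2]⟩⟩
      rw [h2] at e hN
      field_simp
      linear_combination e + hN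
    · refine ⟨some (x₁ c / x₂ c), Finset.mem_univ _,
        Finset.mem_image.mpr ⟨x₀ c / x₂ c, Finset.mem_filter.mpr ⟨Finset.mem_univ _, ?_⟩, by simp [key, h2]⟩⟩
      field_simp
      linear_combination e + hN
  have hfib : ∀ k ∈ Keys, (S.filter fun c => key c = k).card ≤ 3 := by
    intro k _
    rcases (S.filter fun c => key c = k).eq_empty_or_nonempty with h | ⟨c, hc⟩
    · rw [h]; simp
    refine (Finset.card_le_card (t := (Finset.univ.filter fun b : F => b ^ 3 = 1).image fun b => φ₀ b * c)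
      fun d hd' => ?_).trans (Finset.card_image_le.trans hbase)
    rw [Finset.mem_filter] at hc hd'
    have hk : key d = key c := hd'.2.trans hc.2.symm
    have hc12 := hx12 c hc.1
    have hd12 := hx12 d hd'.1
    obtain ⟨l, hl⟩ : ∃ l : F, φ₀ l * c = d := by
      simp only [key] at hk
      by_cases h2 : x₂ c = 0 <;> by_cases h2' : x₂ d = 0 <;> simp [h2, h2'] at hk
      · have h1 : x₁ c ≠ 0 := fun e => hc12 ⟨e, h2⟩
        have h1' : x₁ d ≠ 0 := fun e => hd12 ⟨e, h2'⟩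
        refine ⟨x₁ d / x₁ c, ?_⟩
        have e0 : x₁ d / x₁ c * x₀ c = x₀ d := by field_simp at hk ⊢; linear_combination -hk
        have e1 : x₁ d / x₁ c * x₁ c = x₁ d := div_mul_cancel₀ _ h1
        refine (congrArg (φ₀ (x₁ d / x₁ c) * ·) (hx c)).trans (Eq.trans ?_ (hx d).symm)
        show φ₀ (x₁ d / x₁ c) * _ = _
        rw [h2, h2', ← e0]
        nth_rewrite 3 [← e1]
        simp only [map_mul, map_zero]
        ring
      · obtain ⟨hk1, hk0⟩ := hk
        refine ⟨x₂ d / x₂ c, ?_⟩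
        have e0 : x₂ d / x₂ c * x₀ c = x₀ d := by field_simp at hk0 ⊢; linear_combination -hk0
        have e1 : x₂ d / x₂ c * x₁ c = x₁ d := by field_simp at hk1 ⊢; linear_combination -hk1
        have e2 : x₂ d / x₂ c * x₂ c = x₂ d := div_mul_cancel₀ _ h2
        refine (congrArg (φ₀ (x₂ d / x₂ c) * ·) (hx c)).trans (Eq.trans ?_ (hx d).symm)
        show φ₀ (x₂ d / x₂ c) * _ = _
        generalize x₂ d / x₂ c = l at e0 e1 e2 ⊢
        rw [← e0, ← e1, ← e2]
        simp only [map_mul]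
        ring
    refine Finset.mem_image.mpr ⟨l, Finset.mem_filter.mpr ⟨Finset.mem_univ _, ?_⟩, hl⟩
    rw [hS, Finset.mem_filter] at hc hd'
    have := congrArg (Algebra.norm F) hl
    rwa [map_mul, hnb', hc.1.2.1, hd'.1.2.1, mul_one] at this
  have hle := Finset.card_le_mul_card_image_of_maps_to (f := key) (t := Keys) (s := S)
    (fun c hc => himg (Finset.mem_image_of_mem _ hc)) 3 hfib
  have : 10 * q ≤ q * q := Nat.mul_le_mul_right q hq
  omega

end coords

/-- A family of rank-one elements with unique axes, invariant under the group, is empty. -/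
theorem Sing.no_partner {X : Subgroup GG} {e e' : L ≃ₗ[F] (Fin 3 → F)} (S : Sing L X e e')
    (P : L → L → Prop) (γ a u : F) (ha : a ≠ 0) (hu : u * (1 + γ) = 1)
    (hγ : γ = 0 ∨ (γ = -2 ∧ (2 : F) ≠ 0))
    (hne : ∀ {x y}, P x y → x ≠ 0 ∧ y ≠ 0)
    (htr : ∀ {x y}, P x y → Algebra.trace F L (x * y) = γ)
    (huniq : ∀ {x y y'}, P x y → P x y' → ∃ c : F, y' = φ₀ c * y)
    (heqv : ∀ g ∈ X, ∀ {x y x' y'}, P x y → (g : MM) *ᵥ e x = e x' → e' y' ᵥ* (g : MM) = e' y → P x' y')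
    (helem : ∀ {s t}, P s t → ∃ g ∈ X, (g : MM) = a • (1 + vecMulVec (e s) (e' t)))
    (hbig : γ = 0 → 10 ≤ Fintype.card F ∨ ∀ f : F, f ^ 3 = 1 → f = 1) :
    ∀ s t, ¬ P s t := by
  classical
  have hd := S.finrank
  set σ := fr F L with hσ
  -- the products of partners are eigenvectors of Frobenius
  have L1 : ∀ {x y}, P x y → ∃ f : F, f ^ 3 = 1 ∧ σ (x * y) = φ₀ f * (x * y) := by
    intro x y h
    obtain ⟨hx, hy⟩ := hne h
    obtain ⟨g, hg, hgv⟩ := S.frob
    have h1 := heqv g hg h (hgv x) (S.frob_vecMul hgv y)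
    set c := σ x / x with hc
    have hn : Algebra.norm F c = 1 := by
      have hx' : Algebra.norm F x ≠ 0 := Algebra.norm_ne_zero_iff.mpr hx
      have e1 : Algebra.norm F c * Algebra.norm F x = Algebra.norm F x := by
        rw [← map_mul, hc, div_mul_cancel₀ _ hx, hσ, norm_fr hd]
      exact mul_left_eq_self₀.mp e1 |>.resolve_right hx'
    obtain ⟨g', hg', hgv'⟩ := S.mul c hn
    have hc0 : c ≠ 0 := fun e0 => by rw [e0, Algebra.norm_zero] at hn; exact zero_ne_one hn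
    have hcx : c * x = σ x := by rw [hc, div_mul_cancel₀ _ hx]
    have h2 := heqv g' hg' h (x' := σ x) (y' := y / c) (by rw [hgv', hcx])
      (by rw [S.mul_vecMul hgv', mul_div_cancel₀ _ hc0])
    obtain ⟨f, hf⟩ := huniq h2 h1
    have hz : σ (x * y) = φ₀ f * (x * y) := by
      rw [map_mul, hσ] at *
      rw [hf, ← hcx]
      field_simp
    refine ⟨f, (algebraMap F L).injective ?_, hz⟩
    have hzz := fr_three hd (x * y)
    rw [← hσ, hz, map_mul, AlgEquiv.commutes, hz, map_mul, map_mul, AlgEquiv.commutes, hz] at hzz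
    rw [map_pow, map_one]
    refine mul_right_cancel₀ (mul_ne_zero hx hy) ?_
    linear_combination hzz
  intro s t hP
  obtain ⟨hs, ht⟩ := hne hP
  obtain ⟨g, hg, hgv⟩ := helem hP
  set β := s * t with hβ
  have hβ0 : β ≠ 0 := mul_ne_zero hs ht
  obtain ⟨f, hf3, hfβ⟩ := L1 hP
  rw [← hβ] at hfβ
  have hγβ : Algebra.trace F L β = γ := htr hP
  -- the image of a translate
  have key : ∀ c : L, Algebra.norm F c = 1 → ∃ ρ : F, ρ ^ 3 = 1 ∧
      (γ ≠ 0 → f = 1 → ρ = 1) ∧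
      σ (1 + φ₀ (Algebra.trace F L (c * β)) * c⁻¹ - φ₀ (u * Algebra.trace F L (c⁻¹ * β)) * c -
          φ₀ (u * Algebra.trace F L (c * β) * Algebra.trace F L (c⁻¹ * β))) =
        φ₀ ρ * (1 + φ₀ (Algebra.trace F L (c * β)) * c⁻¹ - φ₀ (u * Algebra.trace F L (c⁻¹ * β)) * c -
          φ₀ (u * Algebra.trace F L (c * β) * Algebra.trace F L (c⁻¹ * β))) := by
    intro c hn
    obtain ⟨g', hg', hgv'⟩ := S.mul c hn
    have hc0 : c ≠ 0 := fun e0 => by rw [e0, Algebra.norm_zero] at hn; exact zero_ne_one hn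
    have h2 := heqv g' hg' hP (x' := c * s) (y' := t / c) (hgv' s) (by rw [S.mul_vecMul hgv', mul_div_cancel₀ _ hc0])
    set A := Algebra.trace F L (c * β)
    set B := Algebra.trace F L (c⁻¹ * β)
    set x' := φ₀ a * (c * s + φ₀ A * s) with hx'
    set y' := φ₀ a⁻¹ * (t / c - φ₀ (u * B) * t) with hy'
    have hsm : ∀ (r : F) (z : L), φ₀ r * z = r • z := fun r z => (Algebra.smul_def r z).symm
    have h3 := heqv g hg h2 (x' := x') (y' := y') (by
        rw [hgv, Matrix.smul_mulVec, one_mulVec', S.pair, show c * s * t = c * β by rw [hβ]; ring, hx', hsm, hsm,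
          map_smul, map_add, map_smul]) (by
        rw [hgv, Matrix.vecMul_smul, vecMul_one', S.pair, hy', hsm, hsm, map_smul, map_sub, map_smul]
        have e1 : Algebra.trace F L (s * (a⁻¹ • (t / c - (u * B) • t))) = a⁻¹ * (B - u * B * γ) := by
          rw [mul_smul_comm, map_smul, mul_sub, map_sub, mul_smul_comm, map_smul, ← hβ, hγβ,
            show s * (t / c) = c⁻¹ * β by rw [hβ, div_eq_mul_inv]; ring]
          simp [B]
        rw [e1, smul_add, smul_smul, smul_smul, ← mul_assoc, mul_inv_cancel₀ ha, one_smul, one_mul,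
          show B - u * B * γ = u * B by linear_combination (-B) * hu, sub_add_cancel])
    obtain ⟨f', hf', hz⟩ := L1 h3
    have htr' := htr h3
    have hf0 : f ≠ 0 := fun e0 => by rw [e0] at hf3; simp at hf3
    refine ⟨f' / f, by rw [div_pow, hf', hf3, div_one], fun hγ0 hf1 => ?_, ?_⟩
    · have := congrArg (Algebra.trace F L) hz
      rw [hσ, tr_fr hd, hsm, map_smul, htr', smul_eq_mul] at this
      rw [hf1, div_one]
      exact (mul_left_eq_self₀.mp this.symm).resolve_right hγ0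
    · have e : x' * y' = β * (1 + φ₀ A * c⁻¹ - φ₀ (u * B) * c - φ₀ (u * A * B)) := by
        rw [hx', hy', map_inv₀, map_mul, map_mul φ₀ (u * A) B, map_mul, hβ]
        field_simp [show φ₀ a ≠ 0 by simpa using ha]
        ring
      rw [e, map_mul, hfβ] at hz
      have hF0 : φ₀ f * β ≠ 0 := mul_ne_zero (by simpa using hf0) hβ0
      refine mul_left_cancel₀ hF0 (hz.trans ?_)
      rw [map_div₀]
      have hFf : φ₀ f ≠ 0 := by simpa using hf0
      field_simp [hFf]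
  have hfix : ∀ c : L, Algebra.norm F c = 1 → (∀ b : F, φ₀ b ≠ c) → ∀ A B : F,
      σ (1 + φ₀ A * c⁻¹ - φ₀ (u * B) * c - φ₀ (u * A * B)) =
        1 + φ₀ A * c⁻¹ - φ₀ (u * B) * c - φ₀ (u * A * B) → A = 0 ∧ B = 0 := by
    intro c hn hnb A B h
    obtain ⟨k, hk⟩ := mem_base hd h
    have hc0 : c ≠ 0 := fun e0 => hnb 0 (by rw [e0, map_zero])
    have h' : φ₀ A + φ₀ (1 - u * A * B - k) * c + φ₀ (-(u * B)) * c ^ 2 = 0 := by
      rw [map_sub, map_sub, map_one, map_neg, hk]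
      field_simp
      ring
    obtain ⟨h0, -, h2⟩ := indep hd hnb h'
    refine ⟨h0, (mul_eq_zero.mp (neg_eq_zero.mp h2)).resolve_left fun e0 => ?_⟩
    rw [e0, zero_mul] at hu
    exact zero_ne_one hu
  by_cases hf1 : f = 1
  · -- the product lies in the ground field
    rw [hf1, map_one, one_mul] at hfβ
    obtain ⟨b, hb⟩ := mem_base hd hfβ
    have hb0 : b ≠ 0 := fun e0 => hβ0 (by rw [← hb, e0, map_zero])
    have h3b : γ = 3 * b := by
      rw [← hγβ, ← hb, Algebra.trace_algebraMap, hd, nsmul_eq_mul]; norm_num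
    obtain ⟨c, hn, hc3, hnb⟩ := exists_good hd
    obtain ⟨ρ, hρ3, hρ1, hρ⟩ := key c hn
    have hρe : ρ = 1 := by
      by_cases hγ0 : γ = 0
      · have h30 : (3 : F) = 0 := (mul_eq_zero.mp (h3b.symm.trans hγ0)).resolve_right hb0
        refine sub_eq_zero.mp (eq_zero_of_pow_eq_zero (n := 3) ?_)
        linear_combination hρ3 - (ρ ^ 2 - ρ) * h30
      · exact hρ1 hγ0 hf1
    rw [hρe, map_one, one_mul] at hρ
    obtain ⟨hA, hB⟩ := hfix c hn hnb _ _ hρ
    rw [← hb, mul_comm, ← Algebra.smul_def, map_smul, smul_eq_mul, mul_eq_zero] at hA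
    rw [← hb, mul_comm, ← Algebra.smul_def, map_smul, smul_eq_mul, mul_eq_zero] at hB
    have hc0 : c ≠ 0 := fun e0 => hnb 0 (by rw [e0, map_zero])
    exact hc3 _ (cube_of_traces hd hc0 (hA.resolve_left hb0) (hB.resolve_left hb0)).symm
  · have hγ0 : γ = 0 := by
      have := congrArg (Algebra.trace F L) hfβ
      rw [hσ, tr_fr hd, ← Algebra.smul_def, map_smul, hγβ, smul_eq_mul] at this
      exact (mul_eq_zero.mp (show (f - 1) * γ = 0 by linear_combination -this)).resolve_left (sub_ne_zero.mpr hf1)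
    have hu1 : u = 1 := by rw [hγ0, add_zero, mul_one] at hu; exact hu
    subst hu1
    rcases hbig hγ0 with hq | hq
    swap
    · exact hf1 (hq f hf3)
    have h3 : (3 : F) ≠ 0 := fun e0 => hf1 (sub_eq_zero.mp (eq_zero_of_pow_eq_zero (n := 3) (by
      linear_combination hf3 - (f ^ 2 - f) * e0)))
    have hnb : ∀ b : F, φ₀ b ≠ β := fun b hb => hf1 (by
      rw [← hb, AlgEquiv.commutes] at hfβ
      have hb0 : φ₀ b ≠ 0 := hb ▸ hβ0
      exact ((algebraMap F L).injective (mul_left_eq_self₀.mp hfβ.symm |>.resolve_right hb0 |>.trans (map_one _).symm)))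
    obtain ⟨R, hR⟩ := mem_base hd (a := β ^ 3) (by
      rw [map_pow, ← hσ, hfβ, mul_pow, ← map_pow, hf3, map_one, one_mul])
    have hR0 : R ≠ 0 := fun e0 => pow_ne_zero 3 hβ0 (by rw [← hR, e0, map_zero])
    refine cubic_contra hd h3 hf1 hf3 hfβ hR.symm hnb hq fun c x₀ x₁ x₂ hn hcb hc => ?_
    obtain ⟨ρ, hρ3, -, hρ⟩ := key c hn
    obtain ⟨e1, e2, e3, e4, -⟩ := coord_facts hd h3 hf1 hf3 hfβ hR.symm hc hn
    by_cases hρ1 : ρ = 1
    · exfalso
      rw [hρ1, map_one] at hρ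
      obtain ⟨hA, hB⟩ := hfix c hn hcb _ _ (by simpa only [one_mul] using hρ)
      have hx2 : x₂ = 0 := by
        rw [e3] at hA
        exact (mul_eq_zero.mp hA).resolve_left (mul_ne_zero h3 hR0)
      have hx1 : x₁ = 0 := by
        rw [e4, hx2, mul_zero, sub_zero] at hB
        exact eq_zero_of_pow_eq_zero ((mul_eq_zero.mp hB).resolve_left (mul_ne_zero h3 hR0))
      exact hcb x₀ (by rw [hc, hx1, hx2]; simp)
    · have h := congrArg (Algebra.trace F L) hρ
      rw [hσ, tr_fr hd, ← Algebra.smul_def ρ, map_smul, smul_eq_mul] at h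
      have h0 : Algebra.trace F L (1 + φ₀ (Algebra.trace F L (c * β)) * c⁻¹ -
          φ₀ (1 * Algebra.trace F L (c⁻¹ * β)) * c -
          φ₀ (1 * Algebra.trace F L (c * β) * Algebra.trace F L (c⁻¹ * β))) = 0 :=
        (mul_eq_zero.mp (show (ρ - 1) * _ = 0 by linear_combination -h)).resolve_left (sub_ne_zero.mpr hρ1)
      simp only [one_mul, map_sub, map_add, ← Algebra.smul_def, map_smul] at h0
      rw [Algebra.trace_algebraMap, ← map_one φ₀, Algebra.trace_algebraMap, hd, e1, e2, e3, e4] at h0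
      simp only [nsmul_eq_mul, smul_eq_mul, one_mul, Nat.cast_ofNat] at h0
      exact (mul_eq_zero.mp (show (3 : F) * (1 + 3 * R * x₂ * (x₀ ^ 2 - R * x₁ * x₂) -
        3 * R * (x₁ ^ 2 - x₀ * x₂) * x₀ - 9 * R ^ 2 * x₂ * (x₁ ^ 2 - x₀ * x₂)) = 0 by
          linear_combination h0)).resolve_left h3

end Cfsg.Lib.Classical.SLThree.Singer
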