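import Mathlib
import Cfsg.Agent.Classical.SLThree.SingUnique
import Cfsg.Agent.Classical.SLThree.SingElation

/-! Subgroups of even order containing the normaliser of a Singer cycle of `SL₃`. -/

set_option autoImplicit false
set_option linter.unusedSimpArgs false
set_option linter.unusedSectionVars false
set_option linter.style.haveILetI false

namespace Cfsg.Lib.Classical.SLThree.Singer

open Matrix LinOne
open scoped MatrixGroups
open Cfsg.Lib.Classical.SLThree.Elation

universe u v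

variable {F : Type u} [Field F] [Fintype F] {L : Type v} [Field L] [Finite L] [Algebra F L]

local notation "MM" => Matrix (Fin 3) (Fin 3) F
local notation "GG" => GL (Fin 3) F
local notation "VV" => (Fin 3 → F)
local notation "φ₀" => algebraMap F L

/-- A matrix of rank at most one is an outer product. -/
theorem outer_of_rank (N : MM) (h : Module.finrank F (LinearMap.range (Matrix.toLin' N)) ≤ 1) :
    ∃ w η : VV, N = vecMulVec w η := by
  by_cases h0 : ∀ v, N *ᵥ v = 0
  · exact ⟨0, 0, by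
      rw [zero_vecMulVec]
      exact Matrix.ext_of_mulVec_single fun l => by rw [h0, Matrix.zero_mulVec]⟩
  push Not at h0
  obtain ⟨v, hv⟩ := h0
  set w := N *ᵥ v with hw
  have hwm : w ∈ LinearMap.range (Matrix.toLin' N) := ⟨v, Matrix.toLin'_apply N v⟩
  have h1 : Module.finrank F (LinearMap.range (Matrix.toLin' N)) = 1 :=
    le_antisymm h (Nat.one_le_iff_ne_zero.mpr fun e => by
      have e' : LinearMap.range (Matrix.toLin' N) = ⊥ := Submodule.finrank_eq_zero.mp e
      rw [e', Submodule.mem_bot] at hwm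
      exact hv hwm)
  have hmul : ∀ x, ∃ c : F, c • w = N *ᵥ x := fun x => by
    obtain ⟨c, hc⟩ := (finrank_eq_one_iff_of_nonzero' (⟨w, hwm⟩ : LinearMap.range (Matrix.toLin' N))
      (fun e => hv (congrArg Subtype.val e))).mp h1 ⟨_, ⟨x, Matrix.toLin'_apply N x⟩⟩
    exact ⟨c, congrArg Subtype.val hc⟩
  choose η hη using fun l : Fin 3 => hmul (Pi.single l 1)
  refine ⟨w, η, ?_⟩
  ext i j
  have := congrFun (hη j) i
  simp [Matrix.mulVec_single] at this
  rw [vecMulVec_apply, ← this, mul_comm]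

theorem rank_split {N N' : MM} (h : N' * N = 0) :
    Module.finrank F (LinearMap.range (Matrix.toLin' N)) +
      Module.finrank F (LinearMap.range (Matrix.toLin' N')) ≤ 3 := by
  have hle : LinearMap.range (Matrix.toLin' N) ≤ LinearMap.ker (Matrix.toLin' N') := by
    rintro _ ⟨x, rfl⟩
    rw [LinearMap.mem_ker, Matrix.toLin'_apply, Matrix.toLin'_apply, Matrix.mulVec_mulVec, h, Matrix.zero_mulVec]
  have h1 := LinearMap.finrank_range_add_finrank_ker (Matrix.toLin' N')
  have h2 := Submodule.finrank_mono hle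
  rw [Module.finrank_fin_fun] at h1
  omega

/-- An involution of the special linear group. -/
theorem involution_form {u : GG} (hdet : (u : MM).det = 1) (hu : u * u = 1) (hu1 : u ≠ 1) :
    ∃ w η : VV, w ≠ 0 ∧ η ≠ 0 ∧
      (((2 : F) = 0 ∧ η ⬝ᵥ w = 0 ∧ (u : MM) = 1 + vecMulVec w η) ∨
        ((2 : F) ≠ 0 ∧ η ⬝ᵥ w = -2 ∧ (u : MM) = (-1 : F) • (1 + vecMulVec w η))) := by
  set U : MM := (u : MM) with hU
  have hUU : U * U = 1 := by rw [hU, ← Units.val_mul, hu, Units.val_one]
  have hsq : ∀ w η : VV, (1 + vecMulVec w η) * (1 + vecMulVec w η) = 1 → w ≠ 0 → η ≠ 0 → η ⬝ᵥ w = -2 := by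
    intro w η h hw hη
    rw [one_mul_one, vecMulVec_smul'] at h
    obtain ⟨i, hi⟩ := Function.ne_iff.mp hw
    obtain ⟨j, hj⟩ := Function.ne_iff.mp hη
    have e := congrFun (congrFun h i) j
    simp only [Matrix.add_apply, Matrix.smul_apply, vecMulVec_apply, Pi.smul_apply, smul_eq_mul] at e
    have e' : (2 + η ⬝ᵥ w) * (w i * η j) = 0 := by linear_combination e
    linear_combination (mul_eq_zero.mp e').resolve_right (mul_ne_zero hi hj)
  by_cases h2 : (2 : F) = 0
  · have h0 : (U - 1) * (U - 1) = 0 := by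
      have e2 : (2 : MM) = 0 := by rw [← map_ofNat (Matrix.scalar (Fin 3) : F →+* MM) 2, h2, map_zero]
      calc (U - 1) * (U - 1) = U * U - 2 * U + 1 := by noncomm_ring
        _ = 0 := by rw [hUU, e2, zero_mul, sub_zero, ← two_mul (1 : MM), e2, zero_mul]
    have hr := rank_split h0
    obtain ⟨w, η, hwη⟩ := outer_of_rank (U - 1) (by omega)
    have hU' : U = 1 + vecMulVec w η := by rw [← hwη, add_sub_cancel]
    have hne : w ≠ 0 ∧ η ≠ 0 := ⟨fun e => hu1 (Units.ext (by rw [← hU, hU', e, zero_vecMulVec, add_zero]; rfl)),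
      fun e => hu1 (Units.ext (by rw [← hU, hU', e, vecMulVec_zero, add_zero]; rfl))⟩
    have := hsq w η (hU' ▸ hUU) hne.1 hne.2
    rw [h2, neg_zero] at this
    exact ⟨w, η, hne.1, hne.2, Or.inl ⟨h2, this, hU'⟩⟩
  · have h0 : (U - 1) * (U + 1) = 0 := by
      calc (U - 1) * (U + 1) = U * U - 1 := by noncomm_ring
        _ = 0 := by rw [hUU, sub_self]
    have hr := rank_split h0
    rcases (show Module.finrank F (LinearMap.range (Matrix.toLin' (U + 1))) ≤ 1 ∨
        Module.finrank F (LinearMap.range (Matrix.toLin' (U - 1))) ≤ 1 by omega) with h | h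
    · obtain ⟨w, η, hwη⟩ := outer_of_rank (-(U + 1)) (by rwa [map_neg, LinearMap.range_neg])
      have hU' : U = (-1 : F) • (1 + vecMulVec w η) := by
        rw [← hwη, neg_one_smul]; abel
      have hne : w ≠ 0 ∧ η ≠ 0 := by
        constructor <;>
        · intro e
          rw [hU', e, Matrix.det_smul, Fintype.card_fin] at hdet
          simp at hdet
          exact h2 (by linear_combination -hdet)
      refine ⟨w, η, hne.1, hne.2, Or.inr ⟨h2, hsq w η ?_ hne.1 hne.2, hU'⟩⟩
      rw [hU', smul_mul_smul_comm] at hUU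
      simpa using hUU
    · exfalso
      obtain ⟨w, η, hwη⟩ := outer_of_rank (U - 1) h
      have hU' : U = 1 + vecMulVec w η := by rw [← hwη, add_sub_cancel]
      have hne : w ≠ 0 ∧ η ≠ 0 := ⟨fun e => hu1 (Units.ext (by rw [← hU, hU', e, zero_vecMulVec, add_zero]; rfl)),
        fun e => hu1 (Units.ext (by rw [← hU, hU', e, vecMulVec_zero, add_zero]; rfl))⟩
      have := hsq w η (hU' ▸ hUU) hne.1 hne.2
      rw [hU', det_one', this] at hdet
      exact h2 (by linear_combination -hdet)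
where
  vecMulVec_smul' {w η : VV} {a : F} : vecMulVec (a • w) η = a • vecMulVec w η := smul_vecMulVec a w η

theorem map_dual_dual (X : Subgroup GG) : (X.map dualHom).map dualHom = X := by
  rw [Subgroup.map_map, show (dualHom (F := F)).comp dualHom = MonoidHom.id GG from MonoidHom.ext dualHom_dual,
    Subgroup.map_id]

theorem inc_dual {X : Subgroup GG} {x φ : VV} (h : Inc X x φ) : Inc (X.map dualHom) φ x := by
  obtain ⟨h0, g, hg, hgv⟩ := h
  refine ⟨by rw [dotProduct_comm]; exact h0, dualHom g⁻¹, Subgroup.mem_map_of_mem _ (X.inv_mem hg), ?_⟩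
  rw [dualHom_val, inv_inv, hgv, Matrix.transpose_add, Matrix.transpose_one, transpose_vecMulVec]

theorem inc_dual_iff {X : Subgroup GG} {x φ : VV} : Inc (X.map dualHom) φ x ↔ Inc X x φ :=
  ⟨fun h => map_dual_dual X ▸ inc_dual h, inc_dual⟩

variable {X : Subgroup (GL (Fin 3) F)} {e e' : L ≃ₗ[F] (Fin 3 → F)}

/-- A group containing the normaliser is irreducible. -/
theorem Sing.irr (S : Sing L X e e') : Irr X := by
  intro W hW
  obtain ⟨c, hn, -, hnb⟩ := exists_good S.finrank
  obtain ⟨g, hg, hgv⟩ := S.mul c hn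
  refine or_iff_not_imp_left.mpr fun h => ?_
  obtain ⟨v, hv, hv0⟩ := (Submodule.ne_bot_iff W).mp h
  obtain ⟨x, rfl⟩ := e.surjective v
  have hx : x ≠ 0 := fun e0 => hv0 (by rw [e0, map_zero])
  have h1 : ∀ y, e y ∈ W → e (c * y) ∈ W := fun y hy => hgv y ▸ hW g hg _ hy
  refine Submodule.eq_top_iff'.mpr fun z => ?_
  obtain ⟨y, rfl⟩ := e.surjective z
  obtain ⟨a, b, d, hl⟩ := exists_coords S.finrank hnb (y / x)
  have hy : y = a • x + b • (c * x) + d • (c * (c * x)) := by
    rw [show y = y / x * x from (div_mul_cancel₀ y hx).symm, hl, Algebra.smul_def, Algebra.smul_def, Algebra.smul_def]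
    ring
  rw [hy, map_add, map_add, map_smul, map_smul, map_smul]
  exact W.add_mem (W.add_mem (W.smul_mem _ hv) (W.smul_mem _ (h1 _ hv))) (W.smul_mem _ (h1 _ (h1 _ hv)))

/-- The cube roots of unity are trivial or the field is large, unless it is of prime order or has four elements. -/
theorem big_or_trivial (hp : ¬ (Fintype.card F).Prime) (h4 : Fintype.card F ≠ 4) :
    10 ≤ Fintype.card F ∨ ∀ f : F, f ^ 3 = 1 → f = 1 := by
  refine or_iff_not_imp_left.mpr fun hlt f hf => ?_
  obtain ⟨p, hpc⟩ := CharP.exists F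
  haveI := hpc
  obtain ⟨n, hpp, hn⟩ := FiniteField.card F p
  haveI := Fact.mk hpp
  have hn2 : 2 ≤ (n : ℕ) := by
    by_contra h
    have : (n : ℕ) = 1 := by have := n.pos; omega
    exact hp (by rw [hn, this, pow_one]; exact hpp)
  have hp3 : p ≤ 3 := by
    by_contra h
    have h16 : p ^ 2 ≤ p ^ (n : ℕ) := Nat.pow_le_pow_right hpp.pos hn2
    have : 4 * 4 ≤ p * p := Nat.mul_le_mul (by omega) (by omega)
    rw [pow_two] at h16
    omega
  have hp2 := hpp.two_le
  interval_cases p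
  · have hn3 : (n : ℕ) = 3 := by
      by_contra h
      rcases (show (n : ℕ) = 2 ∨ 4 ≤ (n : ℕ) by omega) with h' | h'
      · rw [h'] at hn; exact h4 hn
      · have : 2 ^ 4 ≤ 2 ^ (n : ℕ) := Nat.pow_le_pow_right (by norm_num) h'
        norm_num at this
        omega
    have h7 : f ^ 7 = 1 := by
      have := FiniteField.pow_card_sub_one_eq_one f (fun e => by rw [e] at hf; simp at hf)
      rwa [hn, hn3] at this
    calc f = f ^ 7 := by rw [show 7 = 3 * 2 + 1 from rfl, pow_add, pow_mul, hf]; simp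
      _ = 1 := h7
  · have h30 : (3 : F) = 0 := by exact_mod_cast CharP.cast_eq_zero F 3
    refine sub_eq_zero.mp (eq_zero_of_pow_eq_zero (n := 3) ?_)
    linear_combination hf - (f ^ 2 - f) * h30

/-- Every centre has two axes. -/
theorem Sing.axes_two (S : Sing L X e e') (hbig : 10 ≤ Fintype.card F ∨ ∀ f : F, f ^ 3 = 1 → f = 1) :
    ∀ x φ, x ≠ 0 → φ ≠ 0 → Inc X x φ → ∃ ψ, Inc X x ψ ∧ ∀ a : F, ψ ≠ a • φ := by
  intro x₁ φ₁ hx₁ hφ₁ h
  by_contra hcon
  push Not at hcon
  obtain ⟨s, rfl⟩ := e.surjective x₁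
  obtain ⟨t, rfl⟩ := e'.surjective φ₁
  refine S.no_partner (fun x y => x ≠ 0 ∧ y ≠ 0 ∧ Inc X (e x) (e' y) ∧
      ∀ ψ, Inc X (e x) ψ → ∃ a : F, ψ = a • e' y) 0 1 1 one_ne_zero (by ring) (Or.inl rfl)
    (fun h => ⟨h.1, h.2.1⟩) (fun {x y} h => by rw [← S.pair]; exact h.2.2.1.1)
    (fun {x y y'} h h' => ?_) (fun g hg {x y x' y'} h hx' hy' => ?_) (fun {s t} h => ?_) (fun _ => hbig) s t
    ⟨fun e0 => hx₁ (by rw [e0, map_zero]), fun e0 => hφ₁ (by rw [e0, map_zero]), h, hcon⟩
  · obtain ⟨a, ha⟩ := h.2.2.2 _ h'.2.2.1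
    exact ⟨a, e'.injective (by rw [ha, ← map_smul, Algebra.smul_def])⟩
  · have hyi : e' y ᵥ* ((g⁻¹ : GG) : MM) = e' y' := by
      rw [← hy', Matrix.vecMul_vecMul, ← Units.val_mul, mul_inv_cancel, Units.val_one, Matrix.vecMul_one]
    refine ⟨fun e0 => GL_ne_zero_mulVec g (fun e1 => h.1 (e.injective (e1.trans (map_zero e).symm))) (by rw [hx', e0, map_zero]),
      fun e0 => h.2.1 (e'.injective (by rw [← hy', e0, map_zero, Matrix.zero_vecMul])), ?_, fun ψ hψ => ?_⟩
    · have := h.2.2.1.conj hg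
      rwa [hx', hyi] at this
    · have h1 := hψ.conj (X.inv_mem hg)
      rw [inv_inv, ← hx', Matrix.mulVec_mulVec, ← Units.val_mul, inv_mul_cancel, Units.val_one, Matrix.one_mulVec] at h1
      obtain ⟨a, ha⟩ := h.2.2.2 _ h1
      refine ⟨a, ?_⟩
      rw [← hyi, ← Matrix.smul_vecMul, ← ha, Matrix.vecMul_vecMul, ← Units.val_mul, mul_inv_cancel, Units.val_one,
        Matrix.vecMul_one]
  · obtain ⟨g, hg, hgv⟩ := h.2.2.1.2
    exact ⟨g, hg, by rw [hgv, one_smul]⟩

/-- Without elations there are no involutions. -/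
theorem Sing.no_involution (S : Sing L X e e') (hdet : ∀ g ∈ X, (g : MM).det = 1)
    (hne : ∀ x φ : VV, Inc X x φ → x = 0 ∨ φ = 0) {u : GG} (hu : u ∈ X) (huu : u * u = 1) (hu1 : u ≠ 1) : False := by
  obtain ⟨w, η, hw, hη, hcase⟩ := involution_form (hdet u hu) huu hu1
  rcases hcase with ⟨-, h0, huv⟩ | ⟨h2, h0, huv⟩
  · rcases hne w η ⟨h0, u, hu, huv⟩ with h | h
    exacts [hw h, hη h]
  obtain ⟨s, rfl⟩ := e.surjective w
  obtain ⟨t, rfl⟩ := e'.surjective η
  refine S.no_partner (fun x y => Algebra.trace F L (x * y) = -2 ∧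
      ∃ g ∈ X, (g : MM) = (-1 : F) • (1 + vecMulVec (e x) (e' y))) (-2) (-1) (-1) (by norm_num) (by ring) (Or.inr ⟨rfl, h2⟩)
    (fun {x y} h => ?_) (fun h => h.1) (fun {x y y'} h h' => ?_) (fun g hg {x y x' y'} h hx' hy' => ?_)
    (fun h => h.2) (fun e0 => absurd (neg_eq_zero.mp e0) h2) s t ⟨by rw [← S.pair]; exact h0, u, hu, huv⟩
  · constructor <;> intro e0 <;> have h1 := h.1 <;> simp [e0] at h1 <;> exact h2 h1
  · obtain ⟨g, hg, hgv⟩ := h.2
    obtain ⟨g', hg', hgv'⟩ := h'.2
    have hd : e' (y - y') ⬝ᵥ e x = 0 := by rw [S.pair, mul_sub, map_sub, h.1, h'.1, sub_self]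
    have hone : Inc X (e x) (e' (y - y')) := by
      refine ⟨hd, g * g', X.mul_mem hg hg', ?_⟩
      rw [Units.val_mul, hgv, hgv', smul_mul_smul_comm, one_mul_one, S.pair, h.1, neg_mul_neg, one_mul, one_smul,
        map_sub, sub_eq_add_neg (e' y), vecMulVec_add, vecMulVec_neg, smul_vecMulVec, neg_smul, two_smul]
      abel
    refine ⟨1, ?_⟩
    rw [map_one, one_mul]
    rcases hne _ _ hone with h3 | h3
    · exfalso
      have hx : x = 0 := e.injective (h3.trans (map_zero e).symm)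
      have h1 := h.1
      rw [hx, zero_mul, map_zero] at h1
      exact h2 (neg_eq_zero.mp h1.symm)
    · exact (sub_eq_zero.mp (e'.injective (h3.trans (map_zero e').symm))).symm
  · obtain ⟨k, hk, hkv⟩ := h.2
    refine ⟨?_, g * k * g⁻¹, X.mul_mem (X.mul_mem hg hk) (X.inv_mem hg), ?_⟩
    · rw [← S.pair, ← hx', dotProduct_mulVec, hy', S.pair]; exact h.1
    · have hyi : e' y ᵥ* ((g⁻¹ : GG) : MM) = e' y' := by
        rw [← hy', Matrix.vecMul_vecMul, ← Units.val_mul, mul_inv_cancel, Units.val_one, Matrix.vecMul_one]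
      rw [Units.val_mul, Units.val_mul, hkv, mul_smul_comm, smul_mul_assoc, mul_add, mul_one, add_mul, mul_vecMulVec,
        vecMulVec_mul, ← Units.val_mul, mul_inv_cancel, Units.val_one, hx', hyi]

/-- Elations generate the special linear group or the field is normalised. -/
theorem Sing.main (S : Sing L X e e') (hdet : ∀ g ∈ X, (g : MM).det = 1) (h4 : Fintype.card F ≠ 4)
    (heven : 2 ∣ Nat.card X) :
    Cfsg.Geo.specialLinear (Fin 3) F ≤ X ∨ ∀ g ∈ X, ∃ k k' : L, (∀ b : F, φ₀ b ≠ k) ∧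
      ∀ x y : L, (g : MM) *ᵥ e x = e y → (g : MM) *ᵥ e (k * x) = e (k' * y) := by
  classical
  haveI := Fintype.ofFinite L
  have hirr := S.irr
  -- an elation
  obtain ⟨x₁, φ₁, hinc, hx₁, hφ₁⟩ : ∃ x φ : VV, Inc X x φ ∧ x ≠ 0 ∧ φ ≠ 0 := by
    by_contra hcon
    push Not at hcon
    haveI : Fact (Nat.Prime 2) := ⟨Nat.prime_two⟩
    obtain ⟨u, hu⟩ := exists_prime_orderOf_dvd_card' (G := X) 2 heven
    have hu2 : u * u = 1 := by rw [← pow_two, ← hu, pow_orderOf_eq_one]
    refine S.no_involution hdet (fun x φ h => or_iff_not_imp_left.mpr fun hx => hcon x φ h hx) u.2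
      (congrArg Subtype.val hu2) fun e0 => ?_
    rw [show u = 1 from Subtype.ext e0, orderOf_one] at hu
    exact absurd hu (by norm_num)
  by_cases hpr : (Fintype.card F).Prime
  · exact Or.inl (sl_of_elation_prime hpr hirr hinc.2 hinc.1 hx₁ hφ₁)
  have hbig := big_or_trivial hpr h4
  obtain ⟨p, hpc⟩ := CharP.exists F
  haveI := hpc
  obtain ⟨n, hpp, hn⟩ := FiniteField.card F p
  haveI := Fact.mk hpp
  have hcentres : ∀ x φ, x ≠ 0 → φ ≠ 0 → Inc X x φ → ∃ y, Inc X y φ ∧ ∀ a : F, y ≠ a • x := fun x φ hx hφ h => by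
    obtain ⟨y, hy, hy'⟩ := S.dual.axes_two hbig φ x hφ hx (inc_dual h)
    exact ⟨y, inc_dual_iff.mp hy, hy'⟩
  have h2 : Two X := ⟨S.axes_two hbig, hcentres⟩
  have h2' : Two (X.map dualHom) := by
    refine ⟨fun x φ hx hφ h => ?_, fun x φ hx hφ h => ?_⟩
    · obtain ⟨y, hy, hy'⟩ := h2.centres φ x hφ hx (inc_dual_iff.mp h)
      exact ⟨y, inc_dual hy, hy'⟩
    · obtain ⟨y, hy, hy'⟩ := h2.axes φ x hφ hx (inc_dual_iff.mp h)
      exact ⟨y, inc_dual hy, hy'⟩
  by_cases hall : ∀ z : VV, z ≠ 0 → IsC X z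
  · exact Or.inl (sl_of_all (p := p) h2 hirr hall hx₁ hφ₁ hinc)
  right
  -- the classes of vectors under scalars and elements of norm one
  set q := Fintype.card F with hq
  let Nh : Lˣ →* Fˣ := Units.map (Algebra.norm F (S := L))
  have hNs : Function.Surjective Nh := FiniteField.unitsMap_norm_surjective F L
  set U : Subgroup Lˣ := (powMonoidHom 3 : Fˣ →* Fˣ).range.comap Nh with hU
  have hidx : U.index = Nat.gcd (q - 1) 3 := by
    rw [hU, Subgroup.index_comap_of_surjective _ hNs, IsCyclic.index_powMonoidHom_range, Nat.card_units,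
      Nat.card_eq_fintype_card]
  have hUst : ∀ (u : U) (z : L), IsC X (e z) → IsC X (e (((u : Lˣ) : L) * z)) := fun u z hz => by
    obtain ⟨a, ha⟩ := u.2
    set k : L := ((u : Lˣ) : L) / φ₀ (a : F) with hk
    have hak : φ₀ (a : F) ≠ 0 := by simp
    have hn' : Algebra.norm F k = 1 := by
      rw [hk, div_eq_mul_inv, ← map_inv₀, map_mul, Algebra.norm_algebraMap, S.finrank]
      have := congrArg Units.val ha
      simp only [powMonoidHom_apply, Units.val_pow_eq_pow_val, Nh, Units.coe_map, MonoidHom.coe_coe] at this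
      rw [← this, inv_pow, mul_inv_cancel₀ (pow_ne_zero 3 a.ne_zero)]
    obtain ⟨g, hg, hgv⟩ := S.mul k hn'
    have h := (hz.conj hg).smul a.ne_zero
    rw [hgv, ← map_smul, Algebra.smul_def] at h
    rwa [hk, ← mul_assoc, mul_div_cancel₀ _ hak] at h
  set T : Set Lˣ := {u | IsC X (e (u : L))} with hT
  have hpre : QuotientGroup.mk ⁻¹' (QuotientGroup.mk '' T : Set (Lˣ ⧸ U)) = T := by
    refine Set.Subset.antisymm (fun u hu => ?_) (Set.subset_preimage_image _ _)
    obtain ⟨v, hv, hvu⟩ := hu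
    rw [QuotientGroup.eq] at hvu
    have := hUst ⟨_, hvu⟩ _ hv
    rwa [← Units.val_mul, show v⁻¹ * u * v = u by rw [mul_comm, mul_inv_cancel_left]] at this
  set t := Nat.card (QuotientGroup.mk '' T : Set (Lˣ ⧸ U)) with ht
  have hCS : (CS X).card = Nat.card U * t := by
    rw [ht, ← Nat.card_prod, ← Nat.card_congr (QuotientGroup.preimageMkEquivSubgroupProdSet U _), hpre,
      ← Fintype.card_coe, ← Nat.card_eq_fintype_card]
    refine Nat.card_congr
      { toFun := fun z => ⟨Units.mk0 (e.symm z.1) (fun e0 => (mem_CS.mp z.2).1 (by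
          rw [← e.apply_symm_apply z.1, e0, map_zero])), by
          show IsC X (e (e.symm z.1))
          rw [e.apply_symm_apply]; exact mem_CS.mp z.2⟩
        invFun := fun u => ⟨e ((u.1 : Lˣ) : L), mem_CS.mpr u.2⟩
        left_inv := fun z => Subtype.ext (e.apply_symm_apply z.1)
        right_inv := fun u => Subtype.ext (Units.ext (e.symm_apply_apply _)) }
  have ht0 : 1 ≤ t := by
    obtain ⟨z, rfl⟩ := e.surjective x₁
    have hz : IsC X (e z) := ⟨hx₁, φ₁, hφ₁, hinc⟩
    haveI : Nonempty (QuotientGroup.mk '' T : Set (Lˣ ⧸ U)) :=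
      ⟨⟨_, Units.mk0 z (fun e0 => hx₁ (by rw [e0, map_zero])), hz, rfl⟩⟩
    exact Nat.card_pos
  have htlt : t < U.index := by
    by_contra hle
    push Not at hle hall
    obtain ⟨z₁, hz1, hz2⟩ := hall
    obtain ⟨z, rfl⟩ := e.surjective z₁
    have hfull : (QuotientGroup.mk '' T : Set (Lˣ ⧸ U)) = Set.univ := by
      refine Set.eq_of_subset_of_ncard_le (Set.subset_univ _) ?_
      rw [Set.ncard_univ, ← Subgroup.index_eq_card, ← Nat.card_coe_set_eq]
      exact hle
    refine hz2 ?_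
    have hmem : Units.mk0 z (fun e0 => hz1 (by rw [e0, map_zero])) ∈ T := by
      rw [← hpre, hfull]; trivial
    exact hmem
  have hidx3 : U.index = 3 := by
    rcases (Nat.dvd_prime Nat.prime_three).mp (Nat.gcd_dvd_right (q - 1) 3) with h | h
    · rw [hidx, h] at htlt; omega
    · rw [hidx, h]
  have hq3 : 3 ∣ q - 1 := hidx3 ▸ hidx ▸ Nat.gcd_dvd_left (q - 1) 3
  have hq1 : 1 < q := Fintype.one_lt_card
  obtain ⟨j, hj⟩ := hq3
  obtain ⟨m, hmdef⟩ : ∃ m, m = 3 * j * j + 3 * j + 1 := ⟨_, rfl⟩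
  have hqj : q = 3 * j + 1 := by omega
  have hm : 3 * m = q * q + q + 1 := by rw [hmdef, hqj]; ring
  have hUc : Nat.card U = m * (q - 1) := by
    have h1 := U.card_mul_index
    rw [hidx3, Nat.card_units, Nat.card_eq_fintype_card (α := L), Module.card_eq_pow_finrank (K := F) (V := L), S.finrank,
      ← hq, hqj, show (3 * j + 1) ^ 3 = (m * (3 * j)) * 3 + 1 by rw [hmdef]; ring, Nat.add_sub_cancel] at h1
    rw [hqj, Nat.add_sub_cancel]
    omega
  have hCS' : (CS X).card = t * m * (q - 1) := by rw [hCS, hUc]; ring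
  have h5 : 5 ≤ q := by
    have h42 : q ≠ 2 ∧ q ≠ 3 := ⟨fun e0 => hpr (by rw [e0]; exact Nat.prime_two), fun e0 => hpr (by rw [e0]; exact Nat.prime_three)⟩
    omega
  rw [hidx3] at htlt
  obtain ⟨ht1, hp2, -⟩ := axis_four (p := p) h2 hx₁ hφ₁ hinc (e := t) (m := m) (by omega) hm h5 hCS'
  subst hp2
  -- four axis vectors at a centre, by duality
  have hA : (Finset.univ.filter fun ψ : VV => Inc X x₁ ψ).card ≤ 4 := by
    have hd1 : Inc (X.map dualHom) φ₁ x₁ := inc_dual hinc
    obtain ⟨t', hCS2, ht'⟩ : ∃ t', (CS (X.map dualHom)).card = Nat.card U * t' ∧ 1 ≤ t' ∧ t' ≤ 3 := by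
      have hUst' : ∀ (u : U) (z : L), IsC (X.map dualHom) (e' z) → IsC (X.map dualHom) (e' (((u : Lˣ) : L) * z)) :=
        fun u z hz => by
        obtain ⟨a, ha⟩ := u.2
        set k : L := ((u : Lˣ) : L) / φ₀ (a : F) with hk
        have hak : φ₀ (a : F) ≠ 0 := by simp
        have hn' : Algebra.norm F k = 1 := by
          rw [hk, div_eq_mul_inv, ← map_inv₀, map_mul, Algebra.norm_algebraMap, S.finrank]
          have := congrArg Units.val ha
          simp only [powMonoidHom_apply, Units.val_pow_eq_pow_val, Nh, Units.coe_map, MonoidHom.coe_coe] at this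
          rw [← this, inv_pow, mul_inv_cancel₀ (pow_ne_zero 3 a.ne_zero)]
        obtain ⟨g, hg, hgv⟩ := S.dual.mul k hn'
        have h := (hz.conj hg).smul a.ne_zero
        rw [hgv, ← map_smul, Algebra.smul_def] at h
        rwa [hk, ← mul_assoc, mul_div_cancel₀ _ hak] at h
      set T' : Set Lˣ := {u | IsC (X.map dualHom) (e' (u : L))} with hT'
      have hpre' : QuotientGroup.mk ⁻¹' (QuotientGroup.mk '' T' : Set (Lˣ ⧸ U)) = T' := by
        refine Set.Subset.antisymm (fun u hu => ?_) (Set.subset_preimage_image _ _)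
        obtain ⟨v, hv, hvu⟩ := hu
        rw [QuotientGroup.eq] at hvu
        have := hUst' ⟨_, hvu⟩ _ hv
        rwa [← Units.val_mul, show v⁻¹ * u * v = u by rw [mul_comm, mul_inv_cancel_left]] at this
      refine ⟨Nat.card (QuotientGroup.mk '' T' : Set (Lˣ ⧸ U)), ?_, ?_, ?_⟩
      · rw [← Nat.card_prod, ← Nat.card_congr (QuotientGroup.preimageMkEquivSubgroupProdSet U _), hpre',
          ← Fintype.card_coe, ← Nat.card_eq_fintype_card]
        refine Nat.card_congr
          { toFun := fun z => ⟨Units.mk0 (e'.symm z.1) (fun e0 => (mem_CS.mp z.2).1 (by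
              rw [← e'.apply_symm_apply z.1, e0, map_zero])), by
              show IsC (X.map dualHom) (e' (e'.symm z.1))
              rw [e'.apply_symm_apply]; exact mem_CS.mp z.2⟩
            invFun := fun u => ⟨e' ((u.1 : Lˣ) : L), mem_CS.mpr u.2⟩
            left_inv := fun z => Subtype.ext (e'.apply_symm_apply z.1)
            right_inv := fun u => Subtype.ext (Units.ext (e'.symm_apply_apply _)) }
      · obtain ⟨z, rfl⟩ := e'.surjective φ₁
        have hz : IsC (X.map dualHom) (e' z) := ⟨hφ₁, x₁, hx₁, hd1⟩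
        haveI : Nonempty (QuotientGroup.mk '' T' : Set (Lˣ ⧸ U)) :=
          ⟨⟨_, Units.mk0 z (fun e0 => hφ₁ (by rw [e0, map_zero])), hz, rfl⟩⟩
        exact Nat.card_pos
      · rw [← hidx3, Subgroup.index_eq_card]
        exact Nat.card_le_card_of_injective _ Subtype.val_injective
    by_cases ht3 : t' = 3
    · -- the dual group would contain the special linear group
      exfalso
      have hirr' := S.dual.irr
      have hcard : (CS (X.map dualHom)).card = (Finset.univ.erase (0 : VV)).card := by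
        rw [hCS2, ht3, hUc, Finset.card_erase_of_mem (Finset.mem_univ _), Finset.card_univ, Fintype.card_fun,
          Fintype.card_fin, ← hq, hqj, Nat.add_sub_cancel,
          show (3 * j + 1) ^ 3 = m * (3 * j) * 3 + 1 by rw [hmdef]; ring, Nat.add_sub_cancel]
      have hall' : ∀ z : VV, z ≠ 0 → IsC (X.map dualHom) z := fun z hz => by
        have := Finset.eq_of_subset_of_card_le (fun z hz => Finset.mem_erase.mpr ⟨(mem_CS.mp hz).1, Finset.mem_univ _⟩)
          hcard.ge
        exact mem_CS.mp (this ▸ Finset.mem_erase.mpr ⟨hz, Finset.mem_univ _⟩)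
      have hsl := sl_of_all (p := 2) h2' hirr' hall' hφ₁ hx₁ hd1
      have hslX : Cfsg.Geo.specialLinear (Fin 3) F ≤ X := fun g hg => by
        have hg' : dualHom g ∈ Cfsg.Geo.specialLinear (Fin 3) F := by
          rw [Cfsg.Geo.specialLinear, MonoidHom.mem_ker, Units.ext_iff, Matrix.GeneralLinearGroup.val_det_apply,
            Units.val_one] at hg ⊢
          rw [dualHom_val, Matrix.det_transpose, Matrix.coe_units_inv, Matrix.det_nonsing_inv, hg, Ring.inverse_one]
        have := Subgroup.mem_map_of_mem dualHom (hsl hg')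
        rwa [map_dual_dual, dualHom_dual] at this
      push Not at hall
      obtain ⟨z, hz1, hz2⟩ := hall
      obtain ⟨η, hη0, hη, -⟩ := exists_pair z 0
      have hdz : η ⬝ᵥ z = 0 := by rw [dotProduct_comm]; exact hη
      refine hz2 ⟨hz1, η, hη0, hdz, mkGL z η (by rw [hdz, add_zero]; exact one_ne_zero), hslX ?_, mkGL_val _ _ _⟩
      rw [Cfsg.Geo.specialLinear, MonoidHom.mem_ker, Units.ext_iff, Matrix.GeneralLinearGroup.val_det_apply,
        mkGL_val, det_one', hdz, add_zero, Units.val_one]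
    obtain ⟨-, -, hB⟩ := axis_four (p := 2) h2' hφ₁ hx₁ hd1 (e := t') (m := m) (by omega) hm h5
      (by rw [hCS2, hUc]; ring)
    rw [Nat.card_eq_fintype_card, Fintype.card_subtype] at hB
    refine le_trans (le_of_eq ?_) hB.le
    refine congrArg Finset.card (Finset.ext fun ψ => ?_)
    simp [mem_Bgp, inc_dual_iff]
  have hsc : ∀ l : F, l ^ 3 = 1 → ∃ c ∈ X, (c : MM) = l • 1 := fun l hl => by
    obtain ⟨g, hg, hgv⟩ := S.mul (φ₀ l) (by rw [Algebra.norm_algebraMap, S.finrank, hl])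
    refine ⟨g, hg, Matrix.ext_of_mulVec_single fun i => ?_⟩
    obtain ⟨z, hz⟩ := e.surjective (Pi.single i 1)
    rw [← hz, hgv, ← Algebra.smul_def, map_smul, Matrix.smul_mulVec, Matrix.one_mulVec]
  have hst := stab_bound h2 hdet hsc hx₁ hφ₁ hinc hA
  have hord := order_bound (⟨hx₁, φ₁, hφ₁, hinc⟩ : IsC X x₁) hst
  rw [hCS', ht1, one_mul, ← mul_assoc] at hord
  have hX : Nat.card X ≤ 192 * m := Nat.le_of_mul_le_mul_right hord (by omega)
  have hq16 : 16 ≤ q := by
    have h8 : q ≠ 8 := by omega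
    have hn4 : 4 ≤ (n : ℕ) := by
      by_contra h
      have := n.pos
      interval_cases hh : (n : ℕ) <;> simp at hn <;> omega
    rw [hn]
    calc 16 = 2 ^ 4 := by norm_num
      _ ≤ 2 ^ (n : ℕ) := Nat.pow_le_pow_right (by norm_num) hn4
  have hm91 : 91 ≤ m := by
    have : 16 * 16 ≤ q * q := Nat.mul_le_mul hq16 hq16
    omega
  -- two conjugates of the norm-one group meet outside the scalars
  intro g hg
  by_contra hcon
  push Not at hcon
  set C := Finset.univ.filter fun c : L => Algebra.norm F c = 1 with hC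
  choose! mg hmg using fun (c : L) (hc : c ∈ C) => S.mul c (Finset.mem_filter.mp hc).2
  have hC0 : ∀ c ∈ C, c ≠ 0 := fun c hc e0 => by
    rw [hC, Finset.mem_filter, e0, Algebra.norm_zero] at hc
    exact zero_ne_one hc.2
  have hinj : ((C ×ˢ C).image fun z => mg z.1 * (g * mg z.2 * g⁻¹)).card ≤ Nat.card X := by
    rw [Nat.card_eq_fintype_card, Fintype.card_subtype]
    refine Finset.card_le_card fun y hy => ?_
    obtain ⟨z, hz, rfl⟩ := Finset.mem_image.mp hy
    rw [Finset.mem_product] at hz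
    exact Finset.mem_filter.mpr ⟨Finset.mem_univ _,
      X.mul_mem (hmg _ hz.1).1 (X.mul_mem (X.mul_mem hg (hmg _ hz.2).1) (X.inv_mem hg))⟩
  have hfib : ∀ y ∈ (C ×ˢ C).image (fun z => mg z.1 * (g * mg z.2 * g⁻¹)),
      ((C ×ˢ C).filter fun z => mg z.1 * (g * mg z.2 * g⁻¹) = y).card ≤ 3 := by
    intro y hy
    obtain ⟨⟨a₀, b₀⟩, hab₀, hy₀⟩ := Finset.mem_image.mp hy
    rw [Finset.mem_product] at hab₀
    have hroots : (Finset.univ.filter fun l : F => l ^ 3 + 0 * l ^ 2 + 0 * l + (-1) = 0).card ≤ 3 := cubic_roots 0 0 (-1)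
    refine (Finset.card_le_card (t := (Finset.univ.filter fun l : F => l ^ 3 + 0 * l ^ 2 + 0 * l + (-1) = 0).image
      fun l => ((φ₀ l)⁻¹ * a₀, φ₀ l * b₀)) fun z hz => ?_).trans (Finset.card_image_le.trans hroots)
    obtain ⟨a, b⟩ := z
    rw [Finset.mem_filter, Finset.mem_product] at hz
    obtain ⟨⟨ha, hb⟩, hz⟩ := hz
    have heq := hz.trans hy₀.symm
    have hE : ∀ x y' : L, (g : MM) *ᵥ e x = e y' → (g : MM) *ᵥ e (b / b₀ * x) = e (a₀ / a * y') := by
      intro x y' hxy
      have h := congrArg (fun u : GG => (u : MM) *ᵥ ((g : MM) *ᵥ e (x / b₀))) heq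
      simp only [Units.val_mul, ← Matrix.mulVec_mulVec] at h
      simp only [Matrix.mulVec_mulVec (e (x / b₀)) _ (g : MM), ← Units.val_mul, inv_mul_cancel, Units.val_one,
        Matrix.one_mulVec, (hmg _ hb).2, (hmg _ hab₀.2).2] at h
      rw [mul_div_cancel₀ _ (hC0 _ hab₀.2), hxy, (hmg _ hab₀.1).2] at h
      rw [show b / b₀ * x = b * (x / b₀) by ring]
      obtain ⟨w, hw⟩ := e.surjective ((g : MM) *ᵥ e (b * (x / b₀)))
      rw [← hw, (hmg _ ha).2] at h
      have h' := e.injective h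
      rw [← hw, div_mul_eq_mul_div, ← h', mul_div_cancel_left₀ _ (hC0 _ ha)]
    obtain ⟨l, hl⟩ : ∃ l : F, φ₀ l = b / b₀ := by
      by_contra hne
      push Not at hne
      obtain ⟨x, y', h1, h2⟩ := hcon _ (a₀ / a) hne
      exact h2 (hE x y' h1)
    have hx1 : e (1 : L) ≠ 0 := fun e0 => one_ne_zero (e.injective (e0.trans (map_zero e).symm))
    obtain ⟨y', hy'⟩ := e.surjective ((g : MM) *ᵥ e 1)
    have hy0 : y' ≠ 0 := fun e0 => GL_ne_zero_mulVec g hx1 (by rw [← hy', e0, map_zero])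
    have h := hE 1 y' hy'.symm
    rw [← hl, ← Algebra.smul_def, map_smul, Matrix.mulVec_smul, ← hy', ← map_smul, Algebra.smul_def] at h
    have h' : φ₀ l = a₀ / a := mul_right_cancel₀ hy0 (e.injective h)
    have hb0 := hC0 _ hab₀.2
    have ha0 := hC0 _ ha
    have hl3 : l ^ 3 = 1 := by
      have := congrArg (Algebra.norm F) (show φ₀ l * b₀ = b by rw [hl, div_mul_cancel₀ _ hb0])
      rw [map_mul, Algebra.norm_algebraMap, S.finrank, (Finset.mem_filter.mp hab₀.2).2, (Finset.mem_filter.mp hb).2,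
        mul_one] at this
      exact this
    refine Finset.mem_image.mpr ⟨l, Finset.mem_filter.mpr ⟨Finset.mem_univ _, by rw [hl3]; ring⟩, Prod.ext ?_ ?_⟩
    · show (φ₀ l)⁻¹ * a₀ = a
      rw [h', inv_div, div_mul_cancel₀]
      exact hC0 _ hab₀.1
    · show φ₀ l * b₀ = b
      rw [hl, div_mul_cancel₀ _ hb0]
  have h3 := Finset.card_le_mul_card_image (f := fun z => mg z.1 * (g * mg z.2 * g⁻¹)) (C ×ˢ C) 3 hfib
  rw [Finset.card_product, hC, card_norm_one S.finrank, ← hq, ← hm] at h3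
  have h9 : 3 * m * (3 * m) ≤ 3 * (192 * m) := h3.trans (Nat.mul_le_mul_left 3 (hinj.trans hX))
  have h10 : 3 * m * (3 * m) = m * (9 * m) := by ring
  have h11 : 3 * (192 * m) = m * 576 := by ring
  rw [h10, h11] at h9
  have := Nat.le_of_mul_le_mul_left h9 (by omega)
  omega

end Cfsg.Lib.Classical.SLThree.Singer
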