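import Mathlib
import Cfsg.Agent.Classical.SLThree.FieldAut
import Cfsg.Agent.Classical.SLThree.SingMain
import Cfsg.Agent.Classical.PrimeDim.Core
import Cfsg.Agent.Classical.PrimeDim.Members
import Cfsg.Agent.Classical.Misc.ExtraThree
import Cfsg.Agent.S0205

/-! The normaliser of a Singer cycle is maximal in `SL₃(q)` for `q ≠ 4`. -/

set_option autoImplicit false
set_option linter.unusedSimpArgs false
set_option linter.unusedSectionVars false
set_option linter.style.haveILetI false

namespace Cfsg.Lib.Classical.SLThree.Singer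

open Matrix Cfsg.Geo LinOne
open scoped MatrixGroups

universe u v

variable {F : Type u} [Field F] [Fintype F]

local notation "MM" => Matrix (Fin 3) (Fin 3) F
local notation "GG" => GL (Fin 3) F
local notation "VV" => (Fin 3 → F)

theorem sl_iff {g : GG} : g ∈ specialLinear (Fin 3) F ↔ (g : MM).det = 1 := by
  rw [specialLinear, MonoidHom.mem_ker, Units.ext_iff, Matrix.GeneralLinearGroup.val_det_apply, Units.val_one]

section
variable {L : Type v} [Field L] [Finite L] [Algebra F L] (hd : Module.finrank F L = 3)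
include hd

/-- The Frobenius map of a cubic extension has determinant one. -/
theorem det_fr : LinearMap.det (fr F L).toLinearMap = 1 := by
  classical
  obtain ⟨c, -, -, hc⟩ := exists_good (L := L) hd
  have hli : LinearIndependent F (fun i : Fin 3 => c ^ (i : ℕ)) := by
    rw [Fintype.linearIndependent_iff]
    intro g hg
    obtain ⟨h0, h1, h2⟩ := indep hd hc (a₀ := g 0) (a₁ := g 1) (a₂ := g 2)
      (by simpa [Fin.sum_univ_three, Algebra.smul_def] using hg)
    intro i
    fin_cases i <;> assumption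
  set b : Module.Basis (Fin 3) F L := basisOfLinearIndependentOfCardEqFinrank hli (by rw [Fintype.card_fin, hd]) with hb
  have hbv : ∀ i : Fin 3, b i = c ^ (i : ℕ) := fun i => by rw [hb, coe_basisOfLinearIndependentOfCardEqFinrank]
  set σ := fr F L
  set S := LinearMap.toMatrix b b σ.toLinearMap with hS
  rw [← LinearMap.det_toMatrix b, ← hS]
  set R : Matrix (Fin 3) (Fin 3) L := Matrix.vandermonde ![c, σ c, σ (σ c)] with hR
  set R' : Matrix (Fin 3) (Fin 3) L := Matrix.vandermonde ![σ c, σ (σ c), c] with hR'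
  have h3 := fr_three hd c
  have hcol : ∀ j : Fin 3, σ (c ^ (j : ℕ)) = ∑ k : Fin 3, algebraMap F L (S k j) * c ^ (k : ℕ) := fun j => by
    have h := b.sum_repr (σ.toLinearMap (b j))
    simp only [hbv, Algebra.smul_def] at h
    rw [hS]
    simp only [LinearMap.toMatrix_apply, hbv]
    exact h.symm
  have hmul : R' = R * S.map (algebraMap F L) := by
    ext i j
    rw [Matrix.mul_apply]
    simp only [hR, hR', Matrix.vandermonde_apply, Matrix.map_apply]
    have h1 := hcol j
    have h2 := congrArg σ h1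
    simp only [map_sum, map_mul, map_pow, AlgEquiv.commutes] at h1 h2
    have h3' := congrArg σ h2
    simp only [map_sum, map_mul, map_pow, AlgEquiv.commutes] at h3'
    rw [h3] at h3'
    fin_cases i
    · simpa [mul_comm] using h1
    · simpa [mul_comm] using h2
    · simpa [mul_comm] using h3'
  have hdet : R'.det = R.det := by
    rw [Matrix.det_fin_three, Matrix.det_fin_three]
    simp [hR, hR', Matrix.vandermonde_apply]
    ring
  have hne : R.det ≠ 0 := by
    have hσ : ∀ x, σ x = x → x = c → False := fun x hx e => by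
      obtain ⟨a, ha⟩ := mem_base hd hx
      exact hc a (ha.trans e)
    have e1 : c ≠ σ c := fun e => hσ c e.symm rfl
    have e2 : σ c ≠ σ (σ c) := fun e => e1 (σ.injective e)
    have e3 : c ≠ σ (σ c) := fun e => e1 (by conv_rhs => rw [e, h3])
    rw [hR, Matrix.det_vandermonde_ne_zero_iff]
    intro i j hij
    fin_cases i <;> fin_cases j <;> simp at hij ⊢
    all_goals first | exact e1 hij | exact e1 hij.symm | exact e2 hij | exact e2 hij.symm | exact e3 hij | exact e3 hij.symm
  have := congrArg Matrix.det hmul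
  rw [Matrix.det_mul, hdet, ← RingHom.mapMatrix_apply, ← RingHom.map_det] at this
  exact (algebraMap F L).injective (by rw [map_one]; exact (mul_right_eq_self₀.mp this.symm).resolve_right hne)

end

set_option maxHeartbeats 1600000 in
/-- The normaliser of the image of a cubic extension. -/
theorem singer_aux {L : Type v} [Field L] [Finite L] [Algebra F L] (hd : Module.finrank F L = 3)
    (ι : L →ₐ[F] Matrix (Fin 3) (Fin 3) F) (h4 : Fintype.card F ≠ 4) (K : Subalgebra F (Matrix (Fin 3) (Fin 3) F))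
    (hK : IsFieldSubalgebra 3 K) (hι : ∀ m, m ∈ K ↔ ∃ l, ι l = m) :
    IsMaximalIn (specialLinear (Fin 3) F) (subalgebraNormalizer K ⊓ specialLinear (Fin 3) F) := by
  classical
  haveI := Fintype.ofFinite L
  haveI : FiniteDimensional F L := Module.finite_of_finrank_eq_succ hd
  refine ⟨lt_of_le_of_ne inf_le_right fun h => Cfsg.Lib.Classical.PrimeDim.not_le_field (Fintype.card_fin 3) le_rfl hK
    (h ▸ inf_le_left), fun M hM hMle => ?_⟩
  -- coordinates
  set v0 : VV := Pi.single 0 1 with hv0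
  have hv0' : v0 ≠ 0 := by simp [hv0]
  let f : L →ₗ[F] VV :=
    { toFun := fun l => ι l *ᵥ v0
      map_add' := fun x y => by rw [map_add, Matrix.add_mulVec]
      map_smul' := fun a x => by rw [map_smul, Matrix.smul_mulVec, RingHom.id_apply] }
  have hinv : ∀ l : L, l ≠ 0 → ∀ w : VV, ι l *ᵥ w = 0 → w = 0 := fun l hl w hw => by
    have := congrArg (fun z => ι l⁻¹ *ᵥ z) hw
    simpa [Matrix.mulVec_mulVec, ← map_mul, inv_mul_cancel₀ hl] using this
  have hf : Function.Injective f := by
    rw [← LinearMap.ker_eq_bot, LinearMap.ker_eq_bot']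
    intro l hl
    by_contra h0
    exact hv0' (hinv l h0 _ hl)
  set e : L ≃ₗ[F] VV := f.linearEquivOfInjective hf (by rw [hd, Module.finrank_fin_fun]) with he
  have hev : ∀ l, e l = ι l *ᵥ v0 := fun l => rfl
  have hek : ∀ k x, ι k *ᵥ e x = e (k * x) := fun k x => by rw [hev, hev, map_mul, Matrix.mulVec_mulVec]
  have hext : ∀ A B : MM, (∀ x, A *ᵥ e x = B *ᵥ e x) → A = B := fun A B h =>
    Matrix.ext_of_mulVec_single fun i => by
      obtain ⟨x, hx⟩ := e.surjective (Pi.single i 1)
      rw [← hx]; exact h x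
  let f' : L →ₗ[F] VV :=
    { toFun := fun y i => Algebra.trace F L (e.symm (Pi.single i 1) * y)
      map_add' := fun x y => by funext i; simp [mul_add]
      map_smul' := fun a x => by funext i; simp }
  have hpair : ∀ (x y : L), f' y ⬝ᵥ e x = Algebra.trace F L (x * y) := fun x y => by
    conv_rhs => rw [← e.symm_apply_apply x,
      show e x = e x 0 • Pi.single 0 1 + e x 1 • Pi.single 1 1 + e x 2 • Pi.single 2 1 by
        funext j; fin_cases j <;> simp]
    simp only [dotProduct, Fin.sum_univ_three, f', LinearMap.coe_mk, AddHom.coe_mk, map_add, map_smul, add_mul, smul_mul_assoc, smul_eq_mul]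
    ring
  have hf' : Function.Injective f' := by
    rw [← LinearMap.ker_eq_bot, LinearMap.ker_eq_bot']
    intro y hy
    refine (traceForm_nondegenerate F L).1 y fun x => ?_
    rw [Algebra.traceForm_apply, mul_comm, ← hpair, hy, zero_dotProduct]
  set e' : L ≃ₗ[F] VV := f'.linearEquivOfInjective hf' (by rw [hd, Module.finrank_fin_fun]) with he'
  have hdetι : ∀ k, (ι k).det = Algebra.norm F k := fun k => by
    rw [Algebra.norm_apply, ← LinearMap.det_conj (Algebra.lmul F L k) e, ← LinearMap.det_toLin']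
    congr 1
    refine LinearMap.ext fun w => ?_
    obtain ⟨x, rfl⟩ := e.surjective w
    simp [hek]
  -- elements of the normaliser
  have hmulN : ∀ k, Algebra.norm F k = 1 → ∃ g ∈ M, ∀ x, (g : MM) *ᵥ e x = e (k * x) ∧ (g : MM) = ι k := fun k hk => by
    let g : GG := Matrix.GeneralLinearGroup.mkOfDetNeZero (ι k) (by rw [hdetι, hk]; exact one_ne_zero)
    have hgv : (g : MM) = ι k := rfl
    refine ⟨g, hM ⟨fun m => ?_, sl_iff.mpr (by rw [hgv, hdetι, hk])⟩, fun x => ⟨hgv ▸ hek k x, hgv⟩⟩
    have hfix : ∀ n ∈ K, (g : MM) * n * ((g⁻¹ : GG) : MM) = n := fun n hn => by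
      rw [hgv, hK.comm _ ((hι _).mpr ⟨k, rfl⟩) n hn, ← hgv, mul_assoc, ← Units.val_mul, mul_inv_cancel, Units.val_one, mul_one]
    refine ⟨fun hm => (hfix m hm).symm ▸ hm, fun hm => ?_⟩
    have h := hfix _ hm
    have h' : (g : MM) * m * ((g⁻¹ : GG) : MM) = m := by
      have := congrArg (fun z => ((g⁻¹ : GG) : MM) * z * (g : MM)) h
      simp only [mul_assoc, Units.inv_mul_cancel_left, Units.inv_mul, mul_one] at this ⊢
      exact this
    rwa [h'] at hm
  let σ := fr F L
  set Mσ : MM := LinearMap.toMatrix' (e.toLinearMap ∘ₗ σ.toLinearMap ∘ₗ e.symm.toLinearMap) with hMσ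
  have hMσv : ∀ x, Mσ *ᵥ e x = e (σ x) := fun x => by
    rw [hMσ, LinearMap.toMatrix'_mulVec]; simp
  have hMσd : Mσ.det = 1 := by
    rw [hMσ, LinearMap.det_toMatrix', LinearMap.det_conj, det_fr hd]
  let gσ : GG := Matrix.GeneralLinearGroup.mkOfDetNeZero Mσ (by rw [hMσd]; exact one_ne_zero)
  have hgσ : (gσ : MM) = Mσ := rfl
  have hσconj : ∀ k, (gσ : MM) * ι k * ((gσ⁻¹ : GG) : MM) = ι (σ k) := fun k => by
    rw [Units.mul_inv_eq_iff_eq_mul, hgσ]
    refine hext _ _ fun x => ?_
    rw [← Matrix.mulVec_mulVec, ← Matrix.mulVec_mulVec, hek, hMσv, hMσv, hek, map_mul]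
  have hgσM : gσ ∈ M := hM ⟨fun m => by
    refine ⟨fun hm => ?_, fun hm => ?_⟩
    · obtain ⟨k, rfl⟩ := (hι m).mp hm
      exact (hι _).mpr ⟨σ k, (hσconj k).symm⟩
    · obtain ⟨k, hk⟩ := (hι _).mp hm
      obtain ⟨l, rfl⟩ := σ.surjective k
      rw [← hσconj l] at hk
      exact (hι m).mpr ⟨l, gσ.isUnit.mul_left_cancel ((gσ⁻¹).isUnit.mul_right_cancel hk)⟩, sl_iff.mpr (hgσ ▸ hMσd)⟩
  have S : Sing L M e e' :=
    { finrank := hd
      pair := hpair
      mul := fun k hk => by
        obtain ⟨g, hg, h⟩ := hmulN k hk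
        exact ⟨g, hg, fun x => (h x).1⟩
      frob := ⟨gσ, hgσM, fun x => hgσ ▸ hMσv x⟩ }
  suffices M ≤ subalgebraNormalizer K ∨ specialLinear (Fin 3) F ≤ M by
    rcases this with h | h
    · exact Or.inl (le_antisymm (le_inf h hMle) hM)
    · exact Or.inr (le_antisymm hMle h)
  have hdet : ∀ g ∈ M, (g : MM).det = 1 := fun g hg => sl_iff.mp (hMle hg)
  by_cases heven : 2 ∣ Nat.card M
  · rcases S.main hdet h4 heven with h | h
    · exact Or.inr h
    left
    have hin : ∀ g ∈ M, ∀ m ∈ K, (g : MM) * m * ((g⁻¹ : GG) : MM) ∈ K := by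
      intro g hg m hm
      obtain ⟨l, rfl⟩ := (hι m).mp hm
      obtain ⟨k, k', hk, hkk⟩ := h g hg
      obtain ⟨a, b, d, hl⟩ := exists_coords hd hk l
      set l' : L := algebraMap F L a + algebraMap F L b * k' + algebraMap F L d * k' ^ 2 with hl'
      have hcomm : (g : MM) * ι l = ι l' * (g : MM) := hext _ _ fun x => by
        obtain ⟨y, hy⟩ := e.surjective ((g : MM) *ᵥ e x)
        have h1 := hkk x y hy.symm
        have h2 := hkk (k * x) (k' * y) h1
        rw [← Matrix.mulVec_mulVec, ← Matrix.mulVec_mulVec, hek, ← hy, hek,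
          show l * x = a • x + b • (k * x) + d • (k * (k * x)) by simp only [hl, Algebra.smul_def]; ring,
          show l' * y = a • y + b • (k' * y) + d • (k' * (k' * y)) by simp only [hl', Algebra.smul_def]; ring]
        simp only [map_add, map_smul, Matrix.mulVec_add, Matrix.mulVec_smul]
        rw [← hy, h1, h2]
      have h2 : (g : MM) * ι l * ((g⁻¹ : GG) : MM) = ι l' := by
        rw [hcomm, mul_assoc, ← Units.val_mul, mul_inv_cancel, Units.val_one, mul_one]
      exact (hι _).mpr ⟨_, h2.symm⟩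
    intro g hg m
    refine ⟨hin g hg m, fun hm => ?_⟩
    have h1 := hin g⁻¹ (M.inv_mem hg) _ hm
    simpa [mul_assoc] using h1
  -- odd order
  left
  have hirr' : ActsIrreducibly (matrixSet M) := by
    rw [Cfsg.Lib.Classical.PrimeDim.irreducible_iff]
    exact fun W hW => S.irr W hW
  obtain ⟨c, hc1, hc3, hcF⟩ := exists_good (L := L) hd
  obtain ⟨gc, hgc, hgcv⟩ := hmulN c hc1
  have hgce : (gc : MM) = ι c := (hgcv 0).2
  rcases Cfsg.Lib.Classical.PrimeDim.core_cases (n := 3) (Fintype.card_fin 3) Nat.prime_three (by decide) hMle hirr'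
    with ⟨N, -, -, D, hD⟩ | ⟨N, -, hNn, hK'⟩ | ⟨R, hR, hRn, hH⟩ | ⟨P, hP⟩
  · exfalso
    obtain ⟨τ, hτ⟩ := hD.le_stab hgc
    have hpow : ∀ (n : ℕ) i, ∀ w ∈ D i, ι (c ^ n) *ᵥ w ∈ D ((τ ^ n) i) := by
      intro n
      induction n with
      | zero => intro i w hw; simpa using hw
      | succ n ih =>
        intro i w hw
        rw [pow_succ' c, map_mul, ← Matrix.mulVec_mulVec, pow_succ' τ, Equiv.Perm.mul_apply, ← hgce, ← hτ]
        exact ⟨_, ih i w hw, Matrix.toLin'_apply _ _⟩
    obtain ⟨⟨w, hw⟩, hw0, hw'⟩ := finrank_eq_one_iff'.mp (hD.decomp.finrank_eq 0)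
    have h6 : τ ^ 6 = 1 := by
      have := pow_card_eq_one (x := τ)
      rwa [Fintype.card_perm, Fintype.card_fin] at this
    have hmem := hpow 6 0 w hw
    rw [h6, Equiv.Perm.one_apply] at hmem
    obtain ⟨l, hl⟩ := hw' ⟨_, hmem⟩
    have hl' : l • w = ι (c ^ 6) *ᵥ w := congrArg Subtype.val hl
    obtain ⟨x, rfl⟩ := e.surjective w
    rw [hek, ← map_smul, Algebra.smul_def] at hl'
    have hx0 : x ≠ 0 := fun e0 => hw0 (Subtype.ext (by show e x = 0; rw [e0, map_zero]))
    have h6' : c ^ 6 = algebraMap F L l := (mul_right_cancel₀ hx0 (e.injective hl')).symm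
    have hsq : (σ (c ^ 3) - c ^ 3) * (σ (c ^ 3) + c ^ 3) = 0 := by
      have : σ (c ^ 3) ^ 2 = (c ^ 3) ^ 2 := by
        rw [← map_pow, ← pow_mul, h6', AlgEquiv.commutes]
      linear_combination this
    have hfix : σ (c ^ 3) = c ^ 3 := by
      rcases mul_eq_zero.mp hsq with h | h
      · exact sub_eq_zero.mp h
      · have h1 : σ (c ^ 3) = -c ^ 3 := eq_neg_of_add_eq_zero_left h
        have h2 : σ (σ (σ (c ^ 3))) = -c ^ 3 := by rw [h1, map_neg, h1, neg_neg, h1]
        rw [fr_three hd] at h2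
        rw [h1, ← h2]
    obtain ⟨a, ha⟩ := mem_base hd hfix
    exact hc3 a ha
  · have hle' := Cfsg.Lib.Classical.PrimeDim.le_subalgebraNormalizer_comm hNn
    set K' := Cfsg.Lib.Classical.PrimeDim.comm (matrixSet N)
    have hinvc : ((gc⁻¹ : GG) : MM) = ι c⁻¹ := Units.inv_eq_of_mul_eq_one_right (by
      have hc0 : c ≠ 0 := fun e0 => hcF 0 (by rw [e0, map_zero])
      rw [hgce, ← map_mul, mul_inv_cancel₀ hc0, map_one])
    have hk0 : ((gσ * gc * gσ⁻¹ * gc⁻¹ : GG) : MM) = ι (σ c * c⁻¹) := by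
      simp only [Units.val_mul]
      rw [hgce, hσconj, hinvc, map_mul]
    have hk0' : ι (σ c * c⁻¹) ∈ K' := by
      refine Cfsg.Lib.Classical.PrimeDim.fieldSub_centralizer (K := K') (by simpa using hK') fun k hk => ?_
      rw [← hk0]
      exact commutator_centralizes hK' (hle' hgσM) (hle' hgc) hk
    have hk0F : ∀ b : F, algebraMap F L b ≠ σ c * c⁻¹ := fun b hb => by
      have hc0 : c ≠ 0 := fun e0 => hcF 0 (by rw [e0, map_zero])
      have hσc : σ c = algebraMap F L b * c := by rw [hb, inv_mul_cancel_right₀ hc0]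
      have hb3 : b ^ 3 = 1 := by
        have h := norm_fr hd c
        rw [show fr F L c = algebraMap F L b * c from hσc, map_mul, Algebra.norm_algebraMap, hd, hc1, mul_one] at h
        exact h
      have hfix : σ (c ^ 3) = c ^ 3 := by rw [map_pow, hσc, mul_pow, ← map_pow, hb3, map_one, one_mul]
      obtain ⟨a, ha⟩ := mem_base hd hfix
      exact hc3 a ha
    have hle : K ≤ K' := fun m hm => by
      obtain ⟨l, rfl⟩ := (hι m).mp hm
      obtain ⟨a, b, d, rfl⟩ := exists_coords hd hk0F l
      simp only [map_add, map_mul, map_pow, AlgHom.commutes]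
      refine add_mem (add_mem (K'.algebraMap_mem a) (mul_mem (K'.algebraMap_mem b) ?_)) (mul_mem (K'.algebraMap_mem d) (pow_mem ?_ 2))
      all_goals exact (map_mul ι _ _) ▸ hk0'
    rw [Subalgebra.eq_of_le_of_finrank_eq hle (by rw [hK.finrank_eq, hK'.finrank_eq])]
    exact hle'
  · exfalso
    obtain ⟨-, -, ζ, -, -, hζ, -⟩ := hH.gens
    have hω : ζ ^ 2 + ζ + 1 = 0 := by
      have h := hζ.geom_sum_eq_zero (by norm_num)
      simp [Finset.sum_range_succ] at h
      linear_combination h
    have h3 : (3 : F) ≠ 0 := fun h30 => hζ.ne_one (by norm_num) (sub_eq_zero.mp (eq_zero_of_pow_eq_zero (n := 2)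
      (show (ζ - 1) ^ 2 = 0 by linear_combination hω - ζ * h30)))
    have h27 : Nat.card R = 27 := by rw [hH.card]; norm_num
    have hna : ¬ IsMulCommutative R := fun hcm => by
      haveI := hcm
      have hc27 := hH.card_center
      rw [show Subgroup.center R = ⊤ from eq_top_iff.mpr fun x _ => Subgroup.mem_center_iff.mpr fun y =>
        hcm.is_comm.comm y x, Subgroup.card_top, h27] at hc27
      norm_num at hc27
    obtain ⟨ω, Pm, z, a, b, Fr⟩ := Cfsg.Lib.Classical.ExtraThree.exists_frame h3 hω R h27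
      (by rw [hH.symplecticType.exponent_eq]; norm_num) hna
    set q := Fintype.card F with hq
    have hq2 : 2 ≤ q := Fintype.one_lt_card
    obtain ⟨r, hr, hr5, hrN⟩ : ∃ r : ℕ, r.Prime ∧ 5 ≤ r ∧ r ∣ q * q + q + 1 := by
      set N := q * q + q + 1 with hN
      have hN7 : 7 ≤ N := by nlinarith
      by_contra hcon
      push Not at hcon
      have hodd : ¬ 2 ∣ N := by
        rw [hN, Nat.dvd_iff_mod_eq_zero, Nat.add_mod, Nat.add_mod (q * q), Nat.mul_mod]
        rcases Nat.mod_two_eq_zero_or_one q with h | h <;> simp [h]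
      have h9 : ¬ 9 ∣ N := by
        rw [hN, Nat.dvd_iff_mod_eq_zero, Nat.add_mod, Nat.add_mod (q * q), Nat.mul_mod]
        have := Nat.mod_lt q (show 0 < 9 by norm_num)
        interval_cases h : q % 9 <;> simp
      have hp3 : ∀ r : ℕ, r.Prime → r ∣ N → r = 3 := fun r hr hd' => by
        have := hr.two_le
        by_contra h3'
        rcases (show r = 2 ∨ r = 4 ∨ 5 ≤ r by omega) with h | h | h
        · exact hodd (h ▸ hd')
        · exact absurd (h ▸ hr) (by norm_num)
        · exact hcon r hr h hd'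
      obtain ⟨s, hs⟩ : ∃ s, N = 3 ^ s := ⟨_, Nat.eq_prime_pow_of_unique_prime_dvd (by omega) (fun {d} hd1 hd2 => hp3 d hd1 hd2)⟩
      rcases (show s ≤ 1 ∨ 2 ≤ s by omega) with h | h
      · have : 3 ^ s ≤ 3 ^ 1 := Nat.pow_le_pow_right (by norm_num) h
        omega
      · exact h9 (hs ▸ (show 3 ^ 2 ∣ 3 ^ s from pow_dvd_pow 3 h))
    haveI := Fact.mk hr
    have hcardL : Nat.card Lˣ = (q - 1) * (q * q + q + 1) := by
      rw [Nat.card_units, Nat.card_eq_fintype_card, Module.card_eq_pow_finrank (K := F) (V := L), hd, ← hq]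
      obtain ⟨k, hk⟩ : ∃ k, q = k + 1 := ⟨q - 1, by omega⟩
      rw [hk, Nat.add_sub_cancel, show (k + 1) ^ 3 = k * ((k + 1) * (k + 1) + (k + 1) + 1) + 1 by ring, Nat.add_sub_cancel]
    obtain ⟨u, hu⟩ := exists_prime_orderOf_dvd_card' (G := Lˣ) r (hcardL ▸ Dvd.dvd.mul_left hrN _)
    have hur : (u : L) ^ r = 1 := by
      rw [← Units.val_pow_eq_pow_val, ← hu, pow_orderOf_eq_one, Units.val_one]
    have hun : Algebra.norm F (u : L) = 1 := by
      obtain ⟨t, ht⟩ := hrN
      refine (algebraMap F L).injective ?_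
      rw [map_one, norm_eq hd, fr_apply, fr_apply, ← hq, ← pow_mul, ← pow_succ', ← pow_add,
        show q + 1 + q * q = r * t by omega, pow_mul, hur, one_pow]
    obtain ⟨gu, hgu, hguv⟩ := hmulN _ hun
    have hgur : gu ^ r = 1 := Units.ext (by
      rw [Units.val_pow_eq_pow_val, (hguv 0).2, ← map_pow, hur, map_one, Units.val_one])
    have hguN : gu ∈ subgroupNormalizer R := by
      refine Subgroup.mem_normalizer_fintype fun y hy => ?_
      exact hRn gu hgu y hy
    obtain ⟨l, hl⟩ := Fr.scalar_of_order h3 h27 hr5 hguN hgur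
    rw [(hguv 0).2, ← Algebra.algebraMap_eq_smul_one, ← AlgHom.commutes ι] at hl
    have hul : (u : L) = algebraMap F L l := ι.toRingHom.injective hl
    have hl3 : l ^ 3 = 1 := by rw [hul, Algebra.norm_algebraMap, hd] at hun; exact hun
    have hlr : l ^ r = 1 := (algebraMap F L).injective (by rw [map_pow, map_one, ← hul, hur])
    have hl1 : l = 1 := by
      have hcop : Nat.Coprime 3 r := (Nat.coprime_primes Nat.prime_three hr).mpr (by omega)
      have h := pow_gcd_eq_one.mpr ⟨hl3, hlr⟩
      rwa [hcop, pow_one] at h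
    rw [hl1, map_one, Units.val_eq_one] at hul
    rw [hul, orderOf_one] at hu
    omega
  · exfalso
    haveI := hP.simple
    have hoddM : Odd (Nat.card M) := Nat.not_even_iff_odd.mp fun h => heven (even_iff_two_dvd.mp h)
    have hoddP : Odd (Nat.card P) := hoddM.of_dvd_nat (Subgroup.card_dvd_of_le hP.le)
    haveI : Group.IsSolvable P := Cfsg.Agent.S0205.result hoddP
    have hs : Group.IsSolvable (P ⧸ (scalars (Fin 3) F).subgroupOf P) :=
      solvable_of_surjective (QuotientGroup.mk'_surjective ((scalars (Fin 3) F).subgroupOf P))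
    exact hP.nonabelian ⟨⟨IsSimpleGroup.comm_iff_isSolvable.mpr hs⟩⟩

/-- **The Singer case.** -/
theorem singer_maximal (h4 : Fintype.card F ≠ 4) (K : Subalgebra F (Matrix (Fin 3) (Fin 3) F))
    (hK : IsFieldSubalgebra 3 K) :
    IsMaximalIn (specialLinear (Fin 3) F) (subalgebraNormalizer K ⊓ specialLinear (Fin 3) F) := by
  classical
  letI : CommRing K := { (inferInstance : Ring K) with mul_comm := fun a b => Subtype.ext (hK.comm a a.2 b b.2) }
  have hF : IsField K :=
    { exists_pair_ne := ⟨0, 1, zero_ne_one⟩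
      mul_comm := mul_comm
      mul_inv_cancel := fun {a} ha => by
        obtain ⟨y, hy, h⟩ := hK.inv a a.2 (fun h => ha (Subtype.ext h))
        exact ⟨⟨y, hy⟩, Subtype.ext h⟩ }
  letI : Field K := hF.toField
  haveI : Finite K := inferInstance
  exact singer_aux (L := K) hK.finrank_eq K.val h4 K hK
    fun m => ⟨fun hm => ⟨⟨m, hm⟩, rfl⟩, fun ⟨l, hl⟩ => hl ▸ l.2⟩

end Cfsg.Lib.Classical.SLThree.Singer
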