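import Mathlib
import Cfsg.Agent.Classical.Subfield.LinearSmall

/-! The subfield subgroup of `SL₃` is maximal.

In characteristic two and odd degree the elements preserving a plane through a rational point and its non-rational
image form a group in which the stabiliser of the point is a self-centralising elementary abelian Sylow subgroup;
a four-group cannot act without fixed points on the normal complement. -/

set_option autoImplicit false
set_option linter.unusedVariables false
set_option linter.unusedSimpArgs false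
set_option linter.style.haveILetI false

namespace Cfsg.Lib.Classical.SLThree

open Cfsg.Lib.Classical

universe u

/-- A four-group acting without fixed points leaves only the trivial group. -/
theorem eq_bot_of_four {G : Type*} [Group G] [Finite G] (N : Subgroup G) [N.Normal] (a b : G) (ha : a * a = 1)
    (hb : b * b = 1) (hab : a * b = b * a)
    (hfa : ∀ k ∈ N, a * k = k * a → k = 1) (hfb : ∀ k ∈ N, b * k = k * b → k = 1)
    (hfc : ∀ k ∈ N, a * b * k = k * (a * b) → k = 1) : N = ⊥ := by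
  have inv : ∀ e : G, e * e = 1 → (∀ k ∈ N, e * k = k * e → k = 1) → ∀ k ∈ N, e * k * e = k⁻¹ := by
    intro e he hf k hk
    have hei : e⁻¹ = e := inv_eq_of_mul_eq_one_right he
    have hmem : ∀ j ∈ N, j⁻¹ * (e * j * e) ∈ N := fun j hj => N.mul_mem (N.inv_mem hj) (by
      have := Subgroup.Normal.conj_mem (inferInstance : N.Normal) j hj e
      rwa [hei] at this)
    let f : N → N := fun j => ⟨_, hmem j.1 j.2⟩
    have hinj : Function.Injective f := by
      rintro ⟨i, hi⟩ ⟨j, hj⟩ hij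
      have h1 : i⁻¹ * (e * i * e) = j⁻¹ * (e * j * e) := congrArg Subtype.val hij
      have h2 : e * (j * i⁻¹) * e = j * i⁻¹ := by
        have h3 : e * i * e = i * j⁻¹ * (e * j * e) := by rw [mul_assoc i, ← h1, mul_inv_cancel_left]
        calc e * (j * i⁻¹) * e = (e * j * e) * (e * i * e)⁻¹ := by
              simp only [mul_inv_rev, hei, mul_assoc]
              rw [← mul_assoc e e, he, one_mul]
          _ = j * i⁻¹ := by rw [h3]; group
      have h4 := hf _ (N.mul_mem hj (N.inv_mem hi))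
        (by rw [← mul_one (e * (j * i⁻¹)), ← he, ← mul_assoc, h2])
      exact Subtype.ext (mul_inv_eq_one.mp h4).symm
    obtain ⟨⟨j, hj⟩, hjk⟩ := (Finite.injective_iff_surjective.mp hinj) ⟨k, hk⟩
    have hjk' : j⁻¹ * (e * j * e) = k := congrArg Subtype.val hjk
    rw [← hjk']
    simp only [mul_inv_rev, hei, inv_inv, mul_assoc]
    rw [he, mul_one]
  rw [Subgroup.eq_bot_iff_forall]
  intro k hk
  refine hfc k hk ?_
  have h1 := inv b hb hfb k hk
  have h2 := inv a ha hfa _ (N.inv_mem hk)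
  rw [inv_inv, ← h1] at h2
  have hc : a * b * k * (b * a) = k := by simpa only [mul_assoc] using h2
  calc a * b * k = a * b * k * (b * a) * (a * b) := by
        rw [mul_assoc (a * b * k), show b * a * (a * b) = 1 by rw [mul_assoc, ← mul_assoc a a, ha, one_mul, hb], mul_one]
    _ = k * (a * b) := by rw [hc]

variable {F : Type u} [Field F] {F₀ : Subfield F} {H : Subgroup (slGroup F (Fin 3 → F))}

/-- In characteristic two and odd degree every element is scaled rational. -/
theorem ratScaled_of_odd_degree [Finite F] (h2 : (2 : F) = 0) {r : ℕ} (hr : r.Prime) (hr2 : r ≠ 2)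
    (hcard : Nat.card F = Nat.card F₀ ^ r)
    (hM : ∀ g : slGroup F (Fin 3 → F), RatScaled F₀ g.1.toLinearMap → g ∈ H)
    (hnon : ∀ (c : F) η e (h : η e = 0), e ≠ 0 → η ≠ 0 → ratT (F₀ := F₀) c η e h ∈ H → c ∈ F₀)
    {g : slGroup F (Fin 3 → F)} (hg : g ∈ H) : RatScaled F₀ g.1.toLinearMap := by
  classical
  by_contra hgM
  haveI : Finite (Module.End F (Fin 3 → F)) := Module.finite_of_finite F
  haveI : Finite ((Fin 3 → F) ≃ₗ[F] (Fin 3 → F)) :=
    Finite.of_injective (fun e => (e.toLinearMap : Module.End F (Fin 3 → F))) LinearEquiv.toLinearMap_injective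
  haveI : Finite F₀ := Finite.of_injective _ Subtype.val_injective
  haveI : Fact (Nat.Prime 2) := ⟨Nat.prime_two⟩
  have hd : 3 ≤ Fintype.card (Fin 3) := by simp
  set v₀ : Fin 3 → F₀ := Pi.single 0 1 with hv₀def
  set v : Fin 3 → F := ratVec F₀ v₀ with hvdef
  have hv0 : v₀ ≠ 0 := fun e => by simpa [hv₀def] using congrFun e 0
  have hv : ∀ i, v i = if i = 0 then 1 else 0 := fun i => by
    simp only [hvdef, ratVec, hv₀def, Pi.single_apply]
    split_ifs <;> simp
  set w := g.1 v with hwdef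
  have hext : ∀ (s₁ s₂ : F₀) (x : Fin 3 → F),
      ratExt (F₀ := F₀) (s₁ • LinearMap.proj 1 + s₂ • LinearMap.proj 2) x = (s₁ : F) * x 1 + (s₂ : F) * x 2 := by
    intro s₁ s₂ x
    have : ratExt (F₀ := F₀) (s₁ • LinearMap.proj 1 + s₂ • LinearMap.proj 2) =
        (s₁ : F) • (LinearMap.proj 1 : (Fin 3 → F) →ₗ[F] F) + (s₂ : F) • LinearMap.proj 2 :=
      ext_on_ratVec (F₀ := F₀) fun u => by simp [ratExt_apply, ratVec]
    rw [this]
    simp
  have hker : ∀ s₁ s₂ : F₀, (s₁ • LinearMap.proj 1 + s₂ • LinearMap.proj 2 : Module.Dual F₀ (Fin 3 → F₀)) v₀ = 0 :=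
    fun s₁ s₂ => by simp [hv₀def]
  -- the image is on no rational line through the point
  have hline : ∀ s₁ s₂ : F₀, (s₁ : F) * w 1 + (s₂ : F) * w 2 = 0 → s₁ = 0 ∧ s₂ = 0 := by
    intro s₁ s₂ h
    by_contra hne
    refine hgM (ratScaled_of_common hd hM hnon hg (ratT_mem hM F₀.one_mem _ _ (hker s₁ s₂)) hv0 (μ := 1) ?_ ?_ ?_)
    · rw [ratT_apply, hext, ← hvdef, hv, hv]
      simp
    · rw [ratT_apply, hext, h, mul_zero, zero_smul, add_zero, one_smul]
    · by_cases h1 : s₁ = 0
      · refine ⟨Pi.single 2 1, fun e => ?_⟩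
        have := congrFun e 0
        rw [ratT_apply, hext] at this
        have h20 : s₂ ≠ 0 := fun h0 => hne ⟨h1, h0⟩
        simp [← hvdef, hv, h1] at this
        exact h20 this
      · refine ⟨Pi.single 1 1, fun e => ?_⟩
        have := congrFun e 0
        rw [ratT_apply, hext] at this
        simp [← hvdef, hv] at this
        exact h1 this
  have hw1 : w 1 ≠ 0 := fun h => one_ne_zero (hline 1 0 (by simp [h])).1
  have hw2 : w 2 ≠ 0 := fun h => one_ne_zero (hline 0 1 (by simp [h])).2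
  set W : Submodule F (Fin 3 → F) := Submodule.span F {v, w} with hW
  have hvW : v ∈ W := Submodule.subset_span (by simp)
  have hwW : w ∈ W := Submodule.subset_span (by simp)
  have hcoord : ∀ y ∈ W, ∃ k : F, y 1 = k * w 1 ∧ y 2 = k * w 2 := fun y hy => by
    obtain ⟨s, t, rfl⟩ := Submodule.mem_span_pair.mp hy
    exact ⟨t, by simp [hv], by simp [hv]⟩
  let L : Subgroup (slGroup F (Fin 3 → F)) :=
    { carrier := {z | z ∈ H ∧ ∀ x, z.1 x - x ∈ W}
      mul_mem' := fun {p q} hp hq => ⟨H.mul_mem hp.1 hq.1, fun x => by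
        have := W.add_mem (hp.2 (q.1 x)) (hq.2 x)
        rwa [sub_add_sub_cancel, ← slGroup.mul_apply'] at this⟩
      one_mem' := ⟨H.one_mem, fun x => by simp⟩
      inv_mem' := fun {p} hp => ⟨H.inv_mem hp.1, fun x => by
        have := W.neg_mem (hp.2 ((p⁻¹ : slGroup F (Fin 3 → F)).1 x))
        rwa [slGroup.apply_inv_self, neg_sub] at this⟩ }
  let P : Subgroup L :=
    { carrier := {z | ∃ μ : F, z.1.1 v = μ • v}
      mul_mem' := fun {p q} ⟨a, ha⟩ ⟨b, hb⟩ => ⟨b * a, by
        rw [Subgroup.coe_mul, slGroup.mul_apply', hb, map_smul, ha, smul_smul]⟩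
      one_mem' := ⟨1, by simp⟩
      inv_mem' := fun {p} ⟨a, ha⟩ => ⟨a⁻¹, by
        have ha0 : a ≠ 0 := fun h => ratVec_ne_zero hv0 (p.1.1.map_eq_zero_iff.mp (by rw [ha, h, zero_smul]))
        apply p.1.1.injective
        rw [Subgroup.coe_inv, slGroup.apply_inv_self, map_smul, ha, smul_smul, inv_mul_cancel₀ ha0, one_smul]⟩ }
  -- elements fixing the point are transvections with this centre
  have hP : ∀ z ∈ P, ∃ θ : Module.Dual F (Fin 3 → F), θ v = 0 ∧ ∀ x, z.1.1 x = x + θ x • v := by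
    rintro ⟨z, hzH, hzW⟩ ⟨μ, hμ⟩
    change z.1 v = μ • v at hμ
    obtain ⟨a, ha, hza⟩ := ratScaled_of_fix_point' hd hM hnon hzH hv0 hμ
    obtain ⟨R, hR⟩ : ∃ R : Fin 3 → Fin 3 → F₀, ∀ i j, (z.1 (Pi.single j 1)) i = a * (R i j : F) := by
      choose ρ hρ using hza
      refine ⟨fun i j => ρ (Pi.single j 1) i, fun i j => ?_⟩
      have h := congrFun (hρ (Pi.single j 1)) i
      have e : ratVec F₀ (Pi.single j 1 : Fin 3 → F₀) = Pi.single j 1 := by
        funext l; simp only [ratVec, Pi.single_apply]; split_ifs <;> simp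
      rw [LinearEquiv.coe_coe, e] at h
      exact h
    have hexp : ∀ x i, z.1 x i = x 0 * z.1 (Pi.single 0 1) i + x 1 * z.1 (Pi.single 1 1) i +
        x 2 * z.1 (Pi.single 2 1) i := by
      intro x i
      conv_lhs => rw [← Finset.univ_sum_single x, Fin.sum_univ_three]
      have e : ∀ j : Fin 3, (Pi.single j (x j) : Fin 3 → F) = x j • Pi.single j 1 := fun j => by
        rw [← Pi.single_smul, smul_eq_mul, mul_one]
      rw [e 0, e 1, e 2]
      simp
    have hz0 : ∀ i, i ≠ 0 → z.1 (Pi.single 0 1) i = 0 := fun i hi => by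
      have : (Pi.single 0 1 : Fin 3 → F) = v := funext fun j => by rw [hv, Pi.single_apply]
      rw [this, hμ]
      simp [hv, hi]
    obtain ⟨k, hk1, hk2⟩ := hcoord _ (hzW w)
    simp only [Pi.sub_apply] at hk1 hk2
    rw [hexp, hz0 1 (by decide), hR, hR] at hk1
    rw [hexp, hz0 2 (by decide), hR, hR] at hk2
    set α := 1 + k with hα
    set ρ := w 2 / w 1 with hρdef
    have hρ : ρ * w 1 = w 2 := div_mul_cancel₀ _ hw1
    have hρ0 : ρ ∉ F₀ := fun hm => by
      have := hline ⟨ρ, hm⟩ (-1) (by push_cast; rw [← hρ]; ring)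
      exact one_ne_zero (neg_eq_zero.mp this.2)
    have e1 : a * ((R 1 1 : F) + (R 1 2 : F) * ρ) = α := mul_right_cancel₀ hw1 (by
      linear_combination hk1 + a * (R 1 2 : F) * hρ)
    have e2 : a * ((R 2 1 : F) + (R 2 2 : F) * ρ) = α * ρ := mul_right_cancel₀ hw1 (by
      linear_combination hk2 + (a * (R 2 2 : F) - α) * hρ)
    have e3 : (R 1 2 : F) * ρ ^ 2 + ((R 1 1 : F) - R 2 2) * ρ - R 2 1 = 0 :=
      (mul_eq_zero.mp (show a * ((R 1 2 : F) * ρ ^ 2 + ((R 1 1 : F) - R 2 2) * ρ - R 2 1) = 0 by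
        linear_combination ρ * e1 - e2)).resolve_left ha
    have h12 : R 1 2 = 0 := by
      by_contra hne
      have hne' : (R 1 2 : F) ≠ 0 := fun h => hne (Subtype.ext h)
      set s : F₀ := R 2 1 / R 1 2
      set t : F₀ := (R 2 2 - R 1 1) / R 1 2
      have hsq : ρ * ρ = (s : F) + (t : F) * ρ := by
        simp only [s, t]
        push_cast
        field_simp
        linear_combination e3
      let S : Set F := {x | ∃ p q : F₀, x = (p : F) + (q : F) * ρ}
      have hall := eq_univ_of_mul_closed (L := S) hr hcard (fun x hx => ⟨⟨x, hx⟩, 0, by simp⟩)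
        (fun x ⟨p, q, hx⟩ y ⟨p', q', hy⟩ => ⟨p + p', q + q', by rw [hx, hy]; push_cast; ring⟩)
        (fun x ⟨p, q, hx⟩ y ⟨p', q', hy⟩ => ⟨p * p' + q * q' * s, p * q' + q * p' + q * q' * t, by
          rw [hx, hy]; push_cast; linear_combination ((q : F) * q') * hsq⟩)
        (t := ρ) ⟨0, 1, by simp⟩ hρ0
      have hle : Nat.card F ≤ Nat.card F₀ ^ 2 := by
        rw [sq, ← Nat.card_prod]
        refine Nat.card_le_card_of_surjective (fun p : F₀ × F₀ => (p.1 : F) + (p.2 : F) * ρ) fun x => ?_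
        obtain ⟨p, q, hx⟩ := hall x
        exact ⟨(p, q), hx.symm⟩
      rw [hcard] at hle
      have := (Nat.pow_le_pow_iff_right (Finite.one_lt_card (α := F₀))).mp hle
      have := hr.two_le
      omega
    rw [h12] at e3 e1
    push_cast at e3 e1
    have h11 : R 1 1 = R 2 2 := by
      by_contra hne
      refine hρ0 ?_
      have : ρ = ((R 2 1 / (R 1 1 - R 2 2) : F₀) : F) := by
        push_cast
        have : (R 1 1 : F) - R 2 2 ≠ 0 := fun h => hne (Subtype.ext (sub_eq_zero.mp h))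
        field_simp
        linear_combination e3
      rw [this]
      exact SetLike.coe_mem _
    have h21 : R 2 1 = 0 := by
      rw [h11] at e3
      exact Subtype.ext (by push_cast; linear_combination -e3)
    have hrow : ∀ x, z.1 x 1 = α * x 1 ∧ z.1 x 2 = α * x 2 := fun x => by
      constructor <;> rw [hexp, hz0 _ (by decide), hR, hR, ← e1] <;> simp [h12, h21, h11] <;> ring
    have hα1 : α = 1 := by
      obtain ⟨k', hk1', hk2'⟩ := hcoord _ (hzW (Pi.single 1 1))
      simp only [Pi.sub_apply] at hk1' hk2'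
      rw [(hrow _).1] at hk1'
      rw [(hrow _).2] at hk2'
      simp at hk1' hk2'
      rw [hk2'.resolve_right hw2, zero_mul, sub_eq_zero] at hk1'
      exact hk1'
    let θ : Module.Dual F (Fin 3 → F) :=
      (LinearMap.proj 0 : (Fin 3 → F) →ₗ[F] F) ∘ₗ (z.1.toLinearMap - LinearMap.id)
    have hθ : ∀ x, z.1 x = x + θ x • v := fun x => funext fun i => by
      simp only [θ, Pi.add_apply, Pi.smul_apply, hv, LinearMap.comp_apply, LinearMap.sub_apply, LinearMap.id_apply,
        LinearMap.proj_apply, Pi.sub_apply, LinearEquiv.coe_coe, smul_eq_mul]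
      fin_cases i
      · simp
      · simp [(hrow x).1, hα1]
      · simp [(hrow x).2, hα1]
    refine ⟨θ, ?_, hθ⟩
    have hdet := congrArg Units.val (MonoidHom.mem_ker.mp z.2)
    rw [LinearEquiv.coe_det, show z.1.toLinearMap = LinearMap.transvection θ v from LinearMap.ext fun x => by
      rw [LinearMap.transvection.apply]; exact hθ x, LinearMap.transvection.det, Units.val_one] at hdet
    exact add_eq_left.mp hdet
  have hnorm : ∀ n e : L, e ∈ P → e ≠ 1 → n * e * n⁻¹ ∈ P → n ∈ P := by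
    intro n e he he1 hc
    obtain ⟨θ, -, hθ⟩ := hP e he
    obtain ⟨θ', -, hθ'⟩ := hP _ hc
    obtain ⟨x, hx⟩ : ∃ x, θ x ≠ 0 := by
      by_contra hc'
      push Not at hc'
      exact he1 (Subtype.ext (slGroup.ext' fun x => by rw [hθ, hc' x, zero_smul, add_zero]; rfl))
    have h1 := hθ' (n.1.1 x)
    change (n.1 * e.1 * (n.1)⁻¹).1 (n.1.1 x) = _ at h1
    rw [slGroup.mul_apply', slGroup.mul_apply', slGroup.inv_apply_self, hθ, map_add, map_smul, add_right_inj] at h1
    exact ⟨(θ x)⁻¹ * θ' (n.1.1 x), by rw [mul_smul, ← h1, inv_smul_smul₀ hx]⟩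
  have hcomm : ∀ p ∈ P, ∀ q ∈ P, p * q = q * p := by
    intro p hp q hq
    obtain ⟨θ, hθv, hθ⟩ := hP p hp
    obtain ⟨θ', hθv', hθ'⟩ := hP q hq
    refine Subtype.ext (slGroup.ext' fun x => ?_)
    change p.1.1 (q.1.1 x) = q.1.1 (p.1.1 x)
    simp only [hθ, hθ', map_add, map_smul, hθv, hθv', smul_zero, zero_smul, add_zero]
    module
  have hsq : ∀ p ∈ P, p * p = 1 := by
    intro p hp
    obtain ⟨θ, hθv, hθ⟩ := hP p hp
    refine Subtype.ext (slGroup.ext' fun x => ?_)
    rw [Subgroup.coe_mul, slGroup.mul_apply', hθ, hθ, map_add, map_smul, hθv, smul_zero, add_zero, add_assoc,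
      ← two_smul F, smul_smul, h2, zero_mul, zero_smul, add_zero]
    rfl
  have hmemE : ∀ s₁ s₂ : F₀, ∃ e : L, e ∈ P ∧ ∀ x, e.1.1 x = x + ((s₁ : F) * x 1 + (s₂ : F) * x 2) • v :=
    fun s₁ s₂ => by
      refine ⟨⟨ratT 1 _ v₀ (hker s₁ s₂), ratT_mem hM F₀.one_mem _ _ _, fun x => ?_⟩, ⟨1, ?_⟩, fun x => ?_⟩
      · rw [ratT_apply, add_sub_cancel_left]
        exact W.smul_mem _ hvW
      · show (ratT 1 _ v₀ (hker s₁ s₂)).1 v = _
        rw [ratT_apply, hext, hv, hv]
        simp
      · show (ratT 1 _ v₀ (hker s₁ s₂)).1 x = _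
        rw [ratT_apply, hext, one_mul]
  obtain ⟨a, haP, hax⟩ := hmemE 1 0
  obtain ⟨b, hbP, hbx⟩ := hmemE 0 1
  have hne : ∀ (e : L) (i : Fin 3), e.1.1 (Pi.single i 1) ≠ Pi.single i 1 → e ≠ 1 := fun e i h he => h (by rw [he]; rfl)
  have hv00 : v 0 = 1 := by rw [hv, if_pos rfl]
  have ha1 : a ≠ 1 := hne a 1 fun h => by
    have := congrFun h 0
    rw [hax] at this
    simp [hv00] at this
  have hb1 : b ≠ 1 := hne b 2 fun h => by
    have := congrFun h 0
    rw [hbx] at this
    simp [hv00] at this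
  have hab1 : a * b ≠ 1 := hne _ 1 fun h => by
    have := congrFun h 0
    rw [Subgroup.coe_mul, slGroup.mul_apply', hbx, hax] at this
    simp [hv00, hv] at this
  -- the stabiliser is a Sylow subgroup
  have hP2 : IsPGroup 2 P := fun p => ⟨1, Subtype.ext (by
    simp only [SubmonoidClass.coe_pow, pow_one, sq, OneMemClass.coe_one]
    exact hsq p p.2)⟩
  obtain ⟨Q, hPQ⟩ := hP2.exists_le_sylow
  have hQP : (Q : Subgroup L) = P := by
    refine le_antisymm ?_ hPQ
    by_contra hlt
    haveI : Group.IsNilpotent (Q : Subgroup L) := Q.2.isNilpotent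
    have hsub : P.subgroupOf Q < ⊤ := lt_top_iff_ne_top.mpr fun h => hlt (Subgroup.subgroupOf_eq_top.mp h)
    obtain ⟨n, hn, hnP⟩ := SetLike.exists_of_lt (Group.normalizerCondition_of_isNilpotent _ hsub)
    have := (Subgroup.mem_normalizer_iff.mp hn ⟨a, hPQ haP⟩).mp haP
    exact hnP (hnorm n.1 a haP ha1 this)
  have hnc : Subgroup.normalizer ((Q : Subgroup L) : Set L) ≤ Subgroup.centralizer ((Q : Subgroup L) : Set L) := by
    intro n hn
    rw [hQP] at hn ⊢
    have hnP : n ∈ P := hnorm n a haP ha1 ((Subgroup.mem_normalizer_iff.mp hn a).mp haP)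
    rw [Subgroup.mem_centralizer_iff]
    exact fun p hp => hcomm p hp n hnP
  have hcompl := MonoidHom.ker_transferSylow_isComplement' Q hnc
  set N := (MonoidHom.transferSylow Q hnc).ker
  have hfree : ∀ e ∈ P, e ≠ 1 → ∀ k ∈ N, e * k = k * e → k = 1 := by
    intro e he he1 k hk hek
    have hkP : k ∈ P := hnorm k e he he1 (by rw [← hek, mul_inv_cancel_right]; exact he)
    exact Subgroup.disjoint_def.mp hcompl.disjoint hk (hQP ▸ hkP)
  have hbot : N = ⊥ := eq_bot_of_four N a b (hsq a haP) (hsq b hbP) (hcomm a haP b hbP) (hfree a haP ha1)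
    (hfree b hbP hb1) (hfree _ (P.mul_mem haP hbP) hab1)
  have htop : P = ⊤ := by
    rw [← hQP]
    have := hcompl.sup_eq_top
    rwa [hbot, bot_sup_eq] at this
  -- the conjugate transvection moves the point
  obtain ⟨t, htP, htx⟩ := hmemE 1 0
  set t' := g * t.1 * g⁻¹ with ht'
  have ht'x : ∀ x, t'.1 x = x + ((g⁻¹ : slGroup F (Fin 3 → F)).1 x 1) • w := fun x => by
    rw [ht', slGroup.mul_apply', slGroup.mul_apply', htx, map_add, map_smul, slGroup.apply_inv_self]
    simp [hwdef]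
  have ht'H : t' ∈ H := H.mul_mem (H.mul_mem hg t.2.1) (H.inv_mem hg)
  have htL : t' ∈ L := ⟨ht'H, fun x => by rw [ht'x, add_sub_cancel_left]; exact W.smul_mem _ hwW⟩
  have htmem : (⟨t', htL⟩ : L) ∈ P := by rw [htop]; exact Subgroup.mem_top _
  obtain ⟨μ, hμ⟩ := htmem
  change t'.1 v = μ • v at hμ
  rw [ht'x] at hμ
  have h0 : (g⁻¹ : slGroup F (Fin 3 → F)).1 v 1 = 0 := by
    have := congrFun hμ 1
    simpa [hv, hw1] using this
  refine hgM (ratScaled_of_common hd hM hnon hg ht'H hv0 (μ := 1) ?_ ?_ ?_)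
  · rw [ht'x, h0, zero_smul, add_zero, one_smul]
  · rw [ht'x, slGroup.inv_apply_self, ← hvdef, hv]
    simp [hwdef]
  · refine ⟨g.1 (Pi.single 1 1), fun e => hw1 ?_⟩
    rw [ht'x, slGroup.inv_apply_self, one_smul, add_eq_left] at e
    simpa using congrFun e 1

theorem isCoatom_subfield [Finite F] {r : ℕ} (hr : r.Prime) (hcard : Nat.card F = Nat.card F₀ ^ r)
    {M : Subgroup (slGroup F (Fin 3 → F))}
    (hM : ∀ g : slGroup F (Fin 3 → F), g ∈ M ↔ RatScaled F₀ g.1.toLinearMap) : IsCoatom M := by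
  classical
  have hd : 3 ≤ Fintype.card (Fin 3) := by simp
  have hd₀ : 3 ≤ Module.finrank F₀ (Fin 3 → F₀) := by rw [Module.finrank_fintype_fun_eq_card]; exact hd
  refine ⟨fun htop => ?_, fun H hlt => ?_⟩
  · obtain ⟨t, ht⟩ := exists_notMem_subfield hr hcard
    have h0 : (LinearMap.proj 0 : Module.Dual F₀ (Fin 3 → F₀)) (Pi.single 1 1) = 0 := by simp
    have hs := (hM _).mp (htop ▸ Subgroup.mem_top (ratT t (LinearMap.proj 0) _ h0))
    have hex := hs.exact_of_fix (u₀ := (Pi.single 2 1 : Fin 3 → F₀)) (r₀ := Pi.single 2 1)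
      (fun h => by simpa using congrFun h 2)
      (by rw [LinearEquiv.coe_coe, ratT_apply, ratExt_apply]; simp)
    obtain ⟨r', hr'⟩ := hex (Pi.single 0 1)
    rw [LinearEquiv.coe_coe, ratT_apply, ratExt_apply] at hr'
    have h := congrFun hr' 1
    simp [ratVec] at h
    exact ht (h ▸ SetLike.coe_mem _)
  have hH : ∀ g : slGroup F (Fin 3 → F), RatScaled F₀ g.1.toLinearMap → g ∈ H :=
    fun g hg => hlt.le ((hM g).mpr hg)
  by_cases hnon : ∀ (c : F) η e (h : η e = 0), e ≠ 0 → η ≠ 0 → ratT (F₀ := F₀) c η e h ∈ H → c ∈ F₀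
  swap
  · push Not at hnon
    obtain ⟨c, η, e, h, he, hη, hmem, hc⟩ := hnon
    exact top_of_nonrational hr hcard hd hH hc he hη h hmem
  exfalso
  obtain ⟨g, hg, hgM⟩ := SetLike.exists_of_lt hlt
  apply hgM
  rw [hM]
  by_cases h2 : (2 : F) = 0
  swap
  · exact ratScaled_of_plane h2 hd hH hnon hg
  by_cases hr2 : r = 2
  · obtain ⟨φ, hφ0, -, -⟩ := exists_dual_two_zero hd₀ (0 : Fin 3 → F₀) 0 0
    obtain ⟨a, ha, ha'⟩ := exists_ratVec_kernel (F₀ := F₀) (ι := Fin 3) hcard (by simp [hr2])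
      (ratExt φ ∘ₗ ((g⁻¹ : slGroup F (Fin 3 → F)).1).toLinearMap)
    exact ratScaled_of_hyperplane hd hH hnon hg ha hφ0 ha'
  exact ratScaled_of_odd_degree h2 hr hr2 hcard hH hnon hg

theorem subfield_maximal [Fintype F] (r : ℕ) (hr : r.Prime) (hcard : Fintype.card F = Nat.card F₀ ^ r)
    (P : Matrix.GeneralLinearGroup (Fin 3) F) :
    Cfsg.Geo.IsMaximalIn (Cfsg.Geo.specialLinear (Fin 3) F)
      (Cfsg.Geo.subfieldSubgroup F₀ P ⊓ Cfsg.Geo.specialLinear (Fin 3) F) := by
  let φ : slGroup F (Fin 3 → F) →* Matrix.GeneralLinearGroup (Fin 3) F :=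
    (MulAut.conj P).toMonoidHom.comp (slToGL (Fin 3) F)
  haveI hnormal : (Cfsg.Geo.specialLinear (Fin 3) F).Normal := MonoidHom.normal_ker _
  have hrange : φ.range = Cfsg.Geo.specialLinear (Fin 3) F := by
    rw [MonoidHom.range_comp, range_slToGL]
    exact Subgroup.Normal.map_conj_eq _ P
  refine isMaximalIn_of_isCoatom_comap φ hrange ?_
  refine isCoatom_subfield hr (by rw [Nat.card_eq_fintype_card]; exact hcard) fun g => ?_
  rw [Subgroup.mem_comap, ← linToGL_mem_sup_scalars_iff]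
  exact Subgroup.mem_map_iff_mem (MulAut.conj P).injective

end Cfsg.Lib.Classical.SLThree
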