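import Mathlib
import Cfsg.Agent.Classical.Misc.PSLDickson

/-! The shapes of finite subgroups of `PSL₂` of order prime to the characteristic. -/

set_option autoImplicit false
set_option linter.unusedSimpArgs false
set_option linter.unusedSectionVars false
set_option linter.style.haveILetI false

namespace Cfsg.Lib.Classical.SLThree

open Matrix MulAction
open scoped MatrixGroups
open Cfsg.Lib.Classical.PSLFour Cfsg.Lib.Classical.PSLGeom Cfsg.Lib.Classical.SharpGeom

universe u

/-- Cyclic, dihedral, tetrahedral, octahedral or icosahedral. -/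
inductive Shape (H : Type*) [Group H] : Prop
  /-- Cyclic. -/
  | cyclic (h : IsCyclic H)
  /-- Dihedral. -/
  | dihedral (n : ℕ) (hn : n ≠ 0) (e : Nonempty (H ≃* DihedralGroup n))
  /-- Tetrahedral. -/
  | tet (e : Nonempty (H ≃* alternatingGroup (Fin 4)))
  /-- Octahedral. -/
  | oct (e : Nonempty (H ≃* Equiv.Perm (Fin 4)))
  /-- Icosahedral. -/
  | ico (e : Nonempty (H ≃* alternatingGroup (Fin 5)))

theorem shape {k : Type u} [Field k] [IsAlgClosed k] {p : ℕ} [Fact p.Prime] [CharP k p]
    (G : Subgroup (Matrix.ProjectiveSpecialLinearGroup (Fin 2) k)) [Finite G] (hp : ¬ p ∣ Nat.card G) : Shape G := by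
  classical
  by_cases h2 : Nat.card G < 2
  · have h1 : Nat.card G = 1 := by
      have : 0 < Nat.card G := Nat.card_pos
      omega
    haveI : Subsingleton G := (Nat.card_eq_one_iff_unique.mp h1).1
    exact Shape.cyclic inferInstance
  have hpp : p.Prime := Fact.out
  have hno : ∀ g : G, g ^ p = 1 → g = 1 := fun g hg => by
    by_contra hne
    exact hp (orderOf_eq_prime hg hne ▸ orderOf_dvd_natCard g)
  have M := geom p G
  rcases M.classify (by omega) with ⟨x, y, hxy, h⟩ | ⟨x, -, ⟨u, hu1, hup⟩⟩ | ⟨x, y, hxy, n, hn, hψ⟩ | ⟨hψ⟩ | ⟨hψ⟩ |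
    ⟨hψ, -⟩ | ⟨x, y, hxy, U, hU, hP, -⟩
  · refine Shape.cyclic ?_
    have h1 := M.two_point_cyclic x y hxy
    rw [show stabilizer G x ⊓ stabilizer G y = ⊤ from top_le_iff.mp fun g _ => ⟨(h g).1, (h g).2⟩] at h1
    exact isCyclic_of_surjective _ (Subgroup.topEquiv (G := G)).surjective
  · exact absurd (hno u hup) hu1
  · exact Shape.dihedral n (by rw [← hn]; exact Nat.card_pos.ne') hψ
  · exact Shape.tet hψ
  · exact Shape.oct hψ
  · exact Shape.ico hψ
  · exfalso
    have hbot : U = ⊥ := (Subgroup.eq_bot_iff_forall U).mpr fun g hg => hno g ((hU g).mp hg).2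
    rw [hbot, Subgroup.card_bot] at hP
    omega

variable {H : Type*} [Group H]

theorem perm_four_orders : ∀ x : Equiv.Perm (Fin 4), x * x = 1 ∨ x * x * x = 1 ∨ x * x * x * x = 1 := by decide +kernel

theorem alt_five_orders : ∀ x : alternatingGroup (Fin 5), x * x = 1 ∨ x * x * x = 1 ∨ x * x * x * x * x = 1 := by
  decide +kernel

theorem orderOf_cases {G : Type*} [Group G] {x : G} {m : ℕ} (hm : m = 2 ∨ m = 3 ∨ m = 4 ∨ m = 5) (h : x ^ m = 1) :
    orderOf x = 1 ∨ orderOf x = m ∨ (m = 4 ∧ orderOf x = 2) := by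
  have hd := orderOf_dvd_of_pow_eq_one h
  rcases hm with rfl | rfl | rfl | rfl
  · exact ((Nat.dvd_prime (by norm_num)).mp hd).imp_right Or.inl
  · exact ((Nat.dvd_prime (by norm_num)).mp hd).imp_right Or.inl
  · have := Nat.le_of_dvd (by norm_num) hd
    interval_cases ho : orderOf x
    all_goals omega
  · exact ((Nat.dvd_prime (by norm_num)).mp hd).imp_right Or.inl

theorem orders_four {x : H} (e : Nonempty (H ≃* alternatingGroup (Fin 4)) ∨ Nonempty (H ≃* Equiv.Perm (Fin 4))) :
    orderOf x = 1 ∨ orderOf x = 2 ∨ orderOf x = 3 ∨ orderOf x = 4 := by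
  obtain ⟨f, hf⟩ : ∃ f : H →* Equiv.Perm (Fin 4), Function.Injective f := by
    rcases e with ⟨⟨e⟩⟩ | ⟨⟨e⟩⟩
    · exact ⟨(alternatingGroup (Fin 4)).subtype.comp e.toMonoidHom, Subtype.val_injective.comp e.injective⟩
    · exact ⟨e.toMonoidHom, e.injective⟩
  rw [← orderOf_injective f hf x]
  generalize f x = y
  rcases perm_four_orders y with h | h | h
  · have := orderOf_cases (x := y) (m := 2) (by omega) (by rw [pow_two, h]); omega
  · have := orderOf_cases (x := y) (m := 3) (by omega) (by rw [pow_succ, pow_two, h]); omega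
  · have := orderOf_cases (x := y) (m := 4) (by omega) (by rw [pow_succ, pow_succ, pow_two, h]); omega

theorem orders_five {x : H} (e : Nonempty (H ≃* alternatingGroup (Fin 5))) :
    orderOf x = 1 ∨ orderOf x = 2 ∨ orderOf x = 3 ∨ orderOf x = 5 := by
  obtain ⟨e⟩ := e
  rw [← e.orderOf_eq]
  generalize e x = y
  rcases alt_five_orders y with h | h | h
  · have := orderOf_cases (x := y) (m := 2) (by omega) (by rw [pow_two, h]); omega
  · have := orderOf_cases (x := y) (m := 3) (by omega) (by rw [pow_succ, pow_two, h]); omega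
  · have := orderOf_cases (x := y) (m := 5) (by omega) (by rw [pow_succ, pow_succ, pow_succ, pow_two, h]); omega

theorem small_orders (e : Nonempty (H ≃* alternatingGroup (Fin 4)) ∨ Nonempty (H ≃* Equiv.Perm (Fin 4)) ∨
    Nonempty (H ≃* alternatingGroup (Fin 5))) (x : H) :
    orderOf x = 1 ∨ orderOf x = 2 ∨ orderOf x = 3 ∨ orderOf x = 4 ∨ orderOf x = 5 := by
  rcases e with e | e | e
  · have := orders_four (x := x) (Or.inl e); omega
  · have := orders_four (x := x) (Or.inr e); omega
  · have := orders_five (x := x) e; omega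

theorem not_cyclic [Finite H] (h : IsCyclic H) {x y : H} (hx : x * x = 1) (hy : y * y = 1) (hx1 : x ≠ 1)
    (hy1 : y ≠ 1) (hxy : x ≠ y) : False := by
  haveI := h
  classical
  haveI := Fintype.ofFinite H
  have h2 := IsCyclic.card_pow_eq_one_le (α := H) (n := 2) (by norm_num)
  have h3 : ({1, x, y} : Finset H) ⊆ ({a : H | a ^ 2 = 1} : Finset H) := by
    intro z hz
    simp only [Finset.mem_insert, Finset.mem_singleton] at hz
    rcases hz with rfl | rfl | rfl <;> simp [pow_two, hx, hy]
  have := (Finset.card_le_card h3).trans h2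
  rw [Finset.card_insert_of_notMem (by simp [Ne.symm hx1, Ne.symm hy1]), Finset.card_pair hxy] at this
  omega

theorem Shape.orders (S : Shape H) :
    (∀ x y : H, 3 ≤ orderOf x → 3 ≤ orderOf y → x * y = y * x) ∨
    (∀ x : H, orderOf x = 1 ∨ orderOf x = 2 ∨ orderOf x = 3 ∨ orderOf x = 4) ∨
    ((∀ x : H, orderOf x = 1 ∨ orderOf x = 2 ∨ orderOf x = 3 ∨ orderOf x = 5) ∧ commutator H = ⊤) := by
  cases S with
  | cyclic h => exact Or.inl fun x y _ _ => IsCyclic.isMulCommutative.is_comm.comm x y
  | dihedral n hn e =>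
    obtain ⟨e⟩ := e
    refine Or.inl fun x y hx hy => e.injective ?_
    rw [← e.orderOf_eq] at hx hy
    rw [map_mul, map_mul]
    generalize e x = x' at hx ⊢
    generalize e y = y' at hy ⊢
    rcases x' with i | i
    · rcases y' with j | j
      · rw [DihedralGroup.r_mul_r, DihedralGroup.r_mul_r, add_comm]
      · rw [DihedralGroup.orderOf_sr] at hy; omega
    · rw [DihedralGroup.orderOf_sr] at hx; omega
  | tet e => exact Or.inr (Or.inl fun x => orders_four (Or.inl e))
  | oct e => exact Or.inr (Or.inl fun x => orders_four (Or.inr e))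
  | ico e =>
    refine Or.inr (Or.inr ⟨fun x => orders_five e, ?_⟩)
    obtain ⟨e⟩ := e
    refine Subgroup.map_injective (f := e.toMonoidHom) e.injective ?_
    rw [commutator_def, Subgroup.map_commutator, Subgroup.map_top_of_surjective _ e.surjective, ← commutator_def,
      commutator_alternatingGroup_eq_top (by simp)]

/-- The values of a homomorphism into a commutative group. -/
theorem Shape.hom_values (S : Shape H) {M : Type*} [CommGroup M] (f : H →* M) :
    IsCyclic H ∨ (∀ x, f x ^ 2 = 1) ∨ (∀ x, f x ^ 3 = 1) := by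
  have hA : ∀ {n : ℕ}, ∀ g : alternatingGroup (Fin n) →* M, ∀ x, g x ^ 3 = 1 := fun {n} g x => by
    have h : ((powMonoidHom 3).comp g).ker.map (alternatingGroup (Fin n)).subtype = alternatingGroup (Fin n) := by
      refine le_antisymm (Subgroup.map_subtype_le _) ?_
      nth_rewrite 1 [← Equiv.Perm.closure_three_cycles_eq_alternating]
      refine (Subgroup.closure_le _).mpr fun σ hσ => ?_
      refine ⟨⟨σ, hσ.mem_alternatingGroup⟩, ?_, rfl⟩
      show g _ ^ 3 = 1
      rw [← map_pow, show (⟨σ, hσ.mem_alternatingGroup⟩ : alternatingGroup (Fin n)) ^ 3 = 1 from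
        Subtype.ext (by rw [Subgroup.coe_pow, Subgroup.coe_one, ← hσ.orderOf, pow_orderOf_eq_one]), map_one]
    have hx : (x : Equiv.Perm (Fin n)) ∈ ((powMonoidHom 3).comp g).ker.map (alternatingGroup (Fin n)).subtype := by
      rw [h]; exact x.2
    obtain ⟨y, hy, hyx⟩ := hx
    have e : y = x := Subtype.ext hyx
    exact e ▸ hy
  cases S with
  | cyclic h => exact Or.inl h
  | dihedral n hn e =>
    obtain ⟨e⟩ := e
    refine Or.inr (Or.inl fun x => ?_)
    let g := f.comp e.symm.toMonoidHom
    have hsr : ∀ i, g (DihedralGroup.sr i) ^ 2 = 1 := fun i => by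
      rw [pow_two, ← map_mul, DihedralGroup.sr_mul_self, map_one]
    have hgx : ∀ z, g z ^ 2 = 1 := by
      rintro (i | i)
      · rw [show (DihedralGroup.r i) = DihedralGroup.sr 0 * DihedralGroup.sr i by
          rw [DihedralGroup.sr_mul_sr, sub_zero], map_mul, mul_pow, hsr, hsr, one_mul]
      · exact hsr i
    have := hgx (e x)
    simpa [g] using this
  | tet e =>
    obtain ⟨e⟩ := e
    refine Or.inr (Or.inr fun x => ?_)
    simpa using hA (f.comp e.symm.toMonoidHom) (e x)
  | oct e =>
    obtain ⟨e⟩ := e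
    refine Or.inr (Or.inl fun x => ?_)
    let g := f.comp e.symm.toMonoidHom
    have hgx : ∀ z, g z ^ 2 = 1 := fun z => by
      induction z using Equiv.Perm.swap_induction_on with
      | one => rw [map_one, one_pow]
      | swap_mul σ a b _ ih => rw [map_mul, mul_pow, ih, mul_one, pow_two, ← map_mul, Equiv.swap_mul_self, map_one]
    simpa [g] using hgx (e x)
  | ico e =>
    obtain ⟨e⟩ := e
    refine Or.inr (Or.inr fun x => ?_)
    simpa using hA (f.comp e.symm.toMonoidHom) (e x)

/-- One of three commuting involutions in a dihedral group is central. -/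
theorem dihedral_central {n : ℕ} {x y : DihedralGroup n} (hx : x * x = 1) (hy : y * y = 1) (hc : x * y = y * x) :
    (∀ z, z * x = x * z) ∨ (∀ z, z * y = y * z) ∨ (∀ z, z * (x * y) = x * y * z) := by
  have hr : ∀ i : ZMod n, DihedralGroup.r i * DihedralGroup.r i = 1 →
      ∀ z, z * DihedralGroup.r i = DihedralGroup.r i * z := by
    intro i hi z
    rw [DihedralGroup.r_mul_r, DihedralGroup.one_def, DihedralGroup.r.injEq] at hi
    rcases z with j | j
    · rw [DihedralGroup.r_mul_r, DihedralGroup.r_mul_r, add_comm]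
    · rw [DihedralGroup.sr_mul_r, DihedralGroup.r_mul_sr, sub_eq_add_neg, ← eq_neg_of_add_eq_zero_left hi]
  rcases x with i | i
  · exact Or.inl (hr i hx)
  rcases y with j | j
  · exact Or.inr (Or.inl (hr j hy))
  refine Or.inr (Or.inr ?_)
  rw [DihedralGroup.sr_mul_sr] at hc ⊢
  refine hr _ ?_
  rw [DihedralGroup.sr_mul_sr] at hc
  nth_rewrite 2 [hc]
  rw [DihedralGroup.r_mul_r, sub_add_sub_cancel, sub_self, DihedralGroup.one_def]

/-- Shapes containing three commuting involutions, with no elements of order three. -/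
theorem Shape.of_klein [Finite H] (S : Shape H) {x y : H} (hx : x * x = 1) (hy : y * y = 1) (hc : x * y = y * x) (hx1 : x ≠ 1)
    (hy1 : y ≠ 1) (hxy : x ≠ y) :
    (∃ n, n ≠ 0 ∧ Nonempty (H ≃* DihedralGroup n)) ∨
    (∃ z : H, orderOf z = 3) := by
  cases S with
  | cyclic h => exact (not_cyclic h hx hy hx1 hy1 hxy).elim
  | dihedral n hn e => exact Or.inl ⟨n, hn, e⟩
  | tet e =>
    obtain ⟨e⟩ := e
    refine Or.inr ⟨e.symm ⟨Equiv.swap 0 1 * Equiv.swap 1 2, Equiv.Perm.mem_alternatingGroup.mpr (by decide)⟩, ?_⟩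
    rw [e.symm.orderOf_eq, ← Subgroup.orderOf_coe]
    exact orderOf_eq_prime (p := 3) (by decide) (by decide)
  | oct e =>
    obtain ⟨e⟩ := e
    refine Or.inr ⟨e.symm c[0, 1, 2], ?_⟩
    rw [e.symm.orderOf_eq]
    exact orderOf_eq_prime (p := 3) (by decide) (by decide)
  | ico e =>
    obtain ⟨e⟩ := e
    refine Or.inr ⟨e.symm ⟨Equiv.swap 0 1 * Equiv.swap 1 2, Equiv.Perm.mem_alternatingGroup.mpr (by decide)⟩, ?_⟩
    rw [e.symm.orderOf_eq, ← Subgroup.orderOf_coe]
    exact orderOf_eq_prime (p := 3) (by decide) (by decide)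

/-- Three commuting involutions: one is central, or the orders are small. -/
theorem Shape.klein_central [Finite H] (S : Shape H) {x y : H} (hx : x * x = 1) (hy : y * y = 1)
    (hc : x * y = y * x) (hx1 : x ≠ 1) (hy1 : y ≠ 1) (hxy : x ≠ y) :
    ((∀ z, z * x = x * z) ∨ (∀ z, z * y = y * z) ∨ (∀ z, z * (x * y) = x * y * z)) ∨
    ∀ z : H, orderOf z = 1 ∨ orderOf z = 2 ∨ orderOf z = 3 ∨ orderOf z = 4 ∨ orderOf z = 5 := by
  cases S with
  | cyclic h => exact absurd h (fun h => not_cyclic h hx hy hx1 hy1 hxy)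
  | dihedral n hn e =>
    obtain ⟨e⟩ := e
    left
    rcases dihedral_central (x := e x) (y := e y) (by rw [← map_mul, hx, map_one]) (by rw [← map_mul, hy, map_one])
      (by rw [← map_mul, ← map_mul, hc]) with h | h | h
    · exact Or.inl fun z => e.injective (by rw [map_mul, map_mul, h])
    · exact Or.inr (Or.inl fun z => e.injective (by rw [map_mul, map_mul, h]))
    · exact Or.inr (Or.inr fun z => e.injective (by simp only [map_mul]; exact h (e z)))
  | tet e => exact Or.inr fun z => (small_orders (Or.inl e) z)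
  | oct e => exact Or.inr fun z => (small_orders (Or.inr (Or.inl e)) z)
  | ico e => exact Or.inr fun z => (small_orders (Or.inr (Or.inr e)) z)

end Cfsg.Lib.Classical.SLThree
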