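import Mathlib
import Cfsg.Agent.Classical.SLThree.Basic
import Cfsg.Agent.Classical.SLThree.SymShape

/-! Groups without elations fixing a line and a plane not through it: their images in `PSL₂`. -/

set_option autoImplicit false
set_option linter.unusedSimpArgs false
set_option linter.unusedSectionVars false
set_option linter.style.haveILetI false

namespace Cfsg.Lib.Classical.SLThree

open Matrix LinOne
open scoped MatrixGroups
open Cfsg.Lib.Classical.PSLFour

universe u

variable {F : Type u} [Field F]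

local notation "MM" => Matrix (Fin 3) (Fin 3) F
local notation "GG" => GL (Fin 3) F

/-- The homology of order two at the last point. -/
def lastInv : GL (Fin 3) F :=
  ⟨Matrix.diagonal ![-1, -1, 1], Matrix.diagonal ![-1, -1, 1],
    by rw [diagonal_mul_diagonal, ← diagonal_one]; congr 1; funext i; fin_cases i <;> simp,
    by rw [diagonal_mul_diagonal, ← diagonal_one]; congr 1; funext i; fin_cases i <;> simp⟩

/-- The matrices fixing the last point and the opposite line. -/
def Blk : Subgroup (GL (Fin 3) F) := Subgroup.centralizer {lastInv}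

theorem mem_blk (h2 : (2 : F) ≠ 0) {g : GG} :
    g ∈ Blk ↔ (g : MM) 0 2 = 0 ∧ (g : MM) 1 2 = 0 ∧ (g : MM) 2 0 = 0 ∧ (g : MM) 2 1 = 0 := by
  rw [Blk, Subgroup.mem_centralizer_singleton_iff, ← Units.val_inj, Units.val_mul, Units.val_mul]
  show (g : MM) * Matrix.diagonal ![-1, -1, 1] = Matrix.diagonal ![-1, -1, 1] * (g : MM) ↔ _
  rw [← Matrix.ext_iff]
  simp only [Matrix.diagonal_mul, Matrix.mul_diagonal]
  constructor
  · intro h
    have key : ∀ x : F, x = -x → x = 0 := fun x hx => (mul_eq_zero.mp (show 2 * x = 0 by linear_combination hx)).resolve_left h2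
    refine ⟨key _ ?_, key _ ?_, key _ ?_, key _ ?_⟩
    · have := h 0 2; simp at this; linear_combination this
    · have := h 1 2; simp at this; linear_combination this
    · have := h 2 0; simp at this; linear_combination -this
    · have := h 2 1; simp at this; linear_combination -this
  · rintro ⟨h02, h12, h20, h21⟩ i j
    fin_cases i <;> fin_cases j <;> simp [h02, h12, h20, h21]

/-- The trace on the line. -/
def tr2 (g : GG) : F := (g : MM) 0 0 + (g : MM) 1 1

/-- The determinant on the line. -/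
def d2 (g : GG) : F := (g : MM) 0 0 * (g : MM) 1 1 - (g : MM) 0 1 * (g : MM) 1 0

/-- The value at the point. -/
def dl (g : GG) : F := (g : MM) 2 2

/-- Scalar on the line. -/
def Scal (g : GG) : Prop := (g : MM) 0 1 = 0 ∧ (g : MM) 1 0 = 0 ∧ (g : MM) 0 0 = (g : MM) 1 1

section
variable (h2 : (2 : F) ≠ 0)
include h2

theorem blk_mul {g h : GG} (hg : g ∈ Blk) (hh : h ∈ Blk) (i j : Fin 3) :
    ((g * h : GG) : MM) i j = if i = 2 ∨ j = 2 then (g : MM) i 2 * (h : MM) 2 j else
      (g : MM) i 0 * (h : MM) 0 j + (g : MM) i 1 * (h : MM) 1 j := by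
  obtain ⟨a, b, c, d⟩ := (mem_blk h2).mp hg
  obtain ⟨a', b', c', d'⟩ := (mem_blk h2).mp hh
  rw [Units.val_mul, Matrix.mul_apply, Fin.sum_univ_three]
  fin_cases i <;> fin_cases j <;> simp [a, b, c, d, a', b', c', d']

theorem blk_det {g : GG} (hg : g ∈ Blk) : (g : MM).det = d2 g * dl g := by
  obtain ⟨a, b, c, d⟩ := (mem_blk h2).mp hg
  rw [Matrix.det_fin_three, d2, dl, a, b, c, d]
  ring

theorem d2_ne {g : GG} (hg : g ∈ Blk) : d2 g ≠ 0 := fun e =>
  (Matrix.isUnits_det_units g).ne_zero (by rw [blk_det h2 hg, e, zero_mul])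

theorem dl_ne {g : GG} (hg : g ∈ Blk) : dl g ≠ 0 := fun e =>
  (Matrix.isUnits_det_units g).ne_zero (by rw [blk_det h2 hg, e, mul_zero])

theorem d2_mul {g h : GG} (hg : g ∈ Blk) (hh : h ∈ Blk) : d2 (g * h) = d2 g * d2 h := by
  simp only [d2, blk_mul h2 hg hh]
  simp
  ring

theorem dl_mul {g h : GG} (hg : g ∈ Blk) (hh : h ∈ Blk) : dl (g * h) = dl g * dl h := by
  simp [dl, blk_mul h2 hg hh]

/-- The scaled block over the algebraic closure. -/
noncomputable def sl2 (g : (Blk : Subgroup GG)) : SL(2, AlgebraicClosure F) :=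
  let i := algebraMap F (AlgebraicClosure F)
  let ν := (IsAlgClosed.exists_eq_mul_self (i (d2 (g : GG)))).choose
  ⟨!![i (((g : GG) : MM) 0 0) / ν, i (((g : GG) : MM) 0 1) / ν; i (((g : GG) : MM) 1 0) / ν,
      i (((g : GG) : MM) 1 1) / ν], by
    have hν := (IsAlgClosed.exists_eq_mul_self (i (d2 (g : GG)))).choose_spec
    have hν0 : i (d2 (g : GG)) ≠ 0 := by simpa [i] using d2_ne h2 g.2
    rw [Matrix.det_fin_two_of]
    rw [div_mul_div_comm, div_mul_div_comm, ← hν, ← sub_div, ← map_mul, ← map_mul, ← map_sub]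
    exact div_self hν0⟩

theorem sl2_spec (g : (Blk : Subgroup GG)) : ∃ ν : AlgebraicClosure F, ν ≠ 0 ∧
    ν * ν = algebraMap F _ (d2 (g : GG)) ∧ ∀ i j : Fin 2,
      (sl2 h2 g).1 i j * ν = algebraMap F _ (((g : GG) : MM) i.castSucc j.castSucc) := by
  set i := algebraMap F (AlgebraicClosure F)
  have hν := (IsAlgClosed.exists_eq_mul_self (i (d2 (g : GG)))).choose_spec
  set ν := (IsAlgClosed.exists_eq_mul_self (i (d2 (g : GG)))).choose with hdef
  have hν0 : ν ≠ 0 := fun e => by
    rw [e, mul_zero] at hν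
    exact d2_ne h2 g.2 (i.injective (hν.trans (map_zero i).symm))
  refine ⟨ν, hν0, hν.symm, fun a b => ?_⟩
  fin_cases a <;> fin_cases b <;> simp [sl2, ← hdef, i] <;> rw [div_mul_cancel₀ _ hν0]

theorem pi_sl2_eq {g : (Blk : Subgroup GG)} {S : SL(2, AlgebraicClosure F)} {l : AlgebraicClosure F}
    (hS : ∀ i j : Fin 2, S.1 i j * l = algebraMap F _ (((g : GG) : MM) i.castSucc j.castSucc)) :
    π (sl2 h2 g) = π S := by
  obtain ⟨ν, hν0, hν, hent⟩ := sl2_spec h2 g
  have hdS := S.2
  rw [Matrix.det_fin_two] at hdS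
  have hl : l * l = ν * ν := by
    rw [hν, d2]
    simp only [map_sub, map_mul]
    have a := hS 0 0
    have b := hS 0 1
    have c := hS 1 0
    have d := hS 1 1
    simp only [Fin.castSucc_zero, Fin.castSucc_one] at a b c d
    linear_combination (-(l * l)) * hdS + (S.1 1 1 * l) * a + algebraMap F _ (((g : GG) : MM) 0 0) * d -
      (S.1 1 0 * l) * b - algebraMap F _ (((g : GG) : MM) 0 1) * c
  rw [π_eq_iff]
  rcases mul_self_eq_mul_self_iff.mp hl with rfl | rfl
  · left
    refine Subtype.ext (Matrix.ext fun a b => ?_)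
    exact mul_right_cancel₀ hν0 ((hS a b).trans (hent a b).symm)
  · right
    refine Subtype.ext (Matrix.ext fun a b => ?_)
    rw [SpecialLinearGroup.coe_neg, Matrix.neg_apply]
    refine mul_right_cancel₀ hν0 ?_
    linear_combination -(hS a b) + hent a b

/-- The map to `PSL₂` of the algebraic closure. -/
noncomputable def pr : (Blk : Subgroup GG) →* Matrix.ProjectiveSpecialLinearGroup (Fin 2) (AlgebraicClosure F) :=
  MonoidHom.mk' (fun g => π (sl2 h2 g)) fun g h => by
    show π (sl2 h2 (g * h)) = π (sl2 h2 g) * π (sl2 h2 h)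
    rw [← map_mul]
    obtain ⟨ν, -, -, hg⟩ := sl2_spec h2 g
    obtain ⟨μ, -, -, hh⟩ := sl2_spec h2 h
    refine pi_sl2_eq h2 (l := ν * μ) fun a b => ?_
    show ((sl2 h2 g).1 * (sl2 h2 h).1) a b * (ν * μ) = _
    rw [Subgroup.coe_mul, blk_mul h2 g.2 h.2, if_neg (by fin_cases a <;> fin_cases b <;> decide),
      Matrix.mul_apply, Fin.sum_univ_two, map_add, map_mul, map_mul]
    have a0 := hg a 0
    have a1 := hg a 1
    have b0 := hh 0 b
    have b1 := hh 1 b
    simp only [Fin.castSucc_zero, Fin.castSucc_one] at a0 a1 b0 b1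
    rw [← a0, ← a1, ← b0, ← b1]
    ring

theorem pr_eq_one {g : (Blk : Subgroup GG)} : pr h2 g = 1 ↔ Scal (g : GG) := by
  obtain ⟨ν, hν0, hν, hent⟩ := sl2_spec h2 g
  have a := hent 0 0
  have b := hent 0 1
  have c := hent 1 0
  have d := hent 1 1
  simp only [Fin.castSucc_zero, Fin.castSucc_one] at a b c d
  set i := algebraMap F (AlgebraicClosure F)
  show π (sl2 h2 g) = 1 ↔ _
  rw [π_one_iff]
  constructor
  · intro h
    obtain ⟨s, hs⟩ : ∃ s : AlgebraicClosure F, (sl2 h2 g).1 = s • 1 := by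
      rcases h with h | h
      · exact ⟨1, by rw [h, one_smul]; rfl⟩
      · exact ⟨-1, by rw [h, neg_one_smul]; rfl⟩
    rw [hs] at a b c d
    simp at a b c d
    exact ⟨i.injective (by simpa using b.symm), i.injective (by simpa using c.symm), i.injective (a.symm.trans d)⟩
  · rintro ⟨h01, h10, h⟩
    have hν' : ν * ν = i (((g : GG) : MM) 0 0) * i (((g : GG) : MM) 0 0) := by
      rw [hν, d2, h01, ← h]; simp
    rcases mul_self_eq_mul_self_iff.mp hν' with e | e
    · left
      refine Subtype.ext (Matrix.ext fun r s => mul_right_cancel₀ hν0 ?_)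
      rw [hent r s]
      fin_cases r <;> fin_cases s <;> simp [h01, h10, ← h, e]
    · right
      refine Subtype.ext (Matrix.ext fun r s => mul_right_cancel₀ hν0 ?_)
      rw [hent r s]
      fin_cases r <;> fin_cases s <;> simp [h01, h10, ← h, e]

/-- Equal images: proportional blocks with factor `±1` when the determinants agree. -/
theorem pr_eq {g h : (Blk : Subgroup GG)} (e : pr h2 g = pr h2 h) (hd : d2 (g : GG) = d2 (h : GG)) :
    ∃ ε : F, ε * ε = 1 ∧ ∀ i j : Fin 2,
      ((g : GG) : MM) i.castSucc j.castSucc = ε * ((h : GG) : MM) i.castSucc j.castSucc := by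
  obtain ⟨ν, hν0, hν, hg⟩ := sl2_spec h2 g
  obtain ⟨μ, hμ0, hμ, hh⟩ := sl2_spec h2 h
  set i := algebraMap F (AlgebraicClosure F)
  have hμν : μ * μ = ν * ν := by rw [hν, hμ, hd]
  obtain ⟨s, hs, hs'⟩ : ∃ s : F, s * s = 1 ∧ ∀ a b, (sl2 h2 g).1 a b = i s * (sl2 h2 h).1 a b := by
    rcases π_eq_iff.mp e with h' | h'
    · exact ⟨1, one_mul 1, fun a b => by rw [h', map_one, one_mul]⟩
    · exact ⟨-1, by ring, fun a b => by rw [h', map_neg, map_one, SpecialLinearGroup.coe_neg, Matrix.neg_apply]; ring⟩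
  obtain ⟨t, ht, ht'⟩ : ∃ t : F, t * t = 1 ∧ ν = i t * μ := by
    rcases mul_self_eq_mul_self_iff.mp hμν with h' | h'
    · exact ⟨1, one_mul 1, by rw [h', map_one, one_mul]⟩
    · exact ⟨-1, by ring, by rw [h', map_neg, map_one]; ring⟩
  have key : ∃ ε : F, ε * ε = 1 ∧ ∀ a b, (sl2 h2 g).1 a b * ν = i ε * ((sl2 h2 h).1 a b * μ) :=
    ⟨s * t, by linear_combination (t * t) * hs + ht, fun a b => by rw [hs', ht', map_mul]; ring⟩
  obtain ⟨ε, hε, hk⟩ := key
  refine ⟨ε, hε, fun a b => i.injective ?_⟩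
  rw [map_mul, ← hg a b, ← hh a b, hk]

/-- The trace of an element of given order. -/
theorem pr_order {g : (Blk : Subgroup GG)} :
    (orderOf (pr h2 g) = 2 → tr2 (g : GG) = 0) ∧
    (orderOf (pr h2 g) = 3 → tr2 (g : GG) ^ 2 = d2 (g : GG)) ∧
    (orderOf (pr h2 g) = 4 → tr2 (g : GG) ^ 2 = 2 * d2 (g : GG)) ∧
    (orderOf (pr h2 g) = 5 → tr2 (g : GG) ^ 4 - 3 * tr2 (g : GG) ^ 2 * d2 (g : GG) + d2 (g : GG) ^ 2 = 0) := by
  obtain ⟨ν, hν0, hν, hent⟩ := sl2_spec h2 g
  set i := algebraMap F (AlgebraicClosure F)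
  obtain ⟨M, hM⟩ : ∃ M : Matrix (Fin 2) (Fin 2) (AlgebraicClosure F), M = (sl2 h2 g).1 := ⟨_, rfl⟩
  set T : AlgebraicClosure F := M 0 0 + M 1 1 with hT
  rw [← hM] at hent
  have hTν : T * ν = i (tr2 (g : GG)) := by
    rw [hT, add_mul, hent 0 0, hent 1 1, tr2, map_add]
    rfl
  have hdS : M.det = 1 := hM ▸ (sl2 h2 g).2
  rw [Matrix.det_fin_two] at hdS
  have hsq : M * M = T • M - 1 := by
    ext a b
    fin_cases a <;> fin_cases b <;> simp [Matrix.mul_apply, Fin.sum_univ_two, hT] <;>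
      first | linear_combination -hdS | linear_combination hdS | ring
  have h3 : M ^ 3 = (T ^ 2 - 1) • M - T • 1 := by
    rw [pow_succ, pow_two M, hsq, sub_mul, smul_mul_assoc, hsq, one_mul]
    module
  have h4 : M ^ 4 = (T ^ 3 - 2 * T) • M - (T ^ 2 - 1) • 1 := by
    rw [pow_succ, h3, sub_mul, smul_mul_assoc, hsq, smul_mul_assoc, one_mul]
    module
  have h5 : M ^ 5 = (T ^ 4 - 3 * T ^ 2 + 1) • M - (T ^ 3 - 2 * T) • 1 := by
    rw [pow_succ, h4, sub_mul, smul_mul_assoc, hsq, smul_mul_assoc, one_mul]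
    module
  have hpoly : ∀ n : ℕ, pr h2 g ^ n = 1 → ∃ ε : AlgebraicClosure F, M ^ n = ε • 1 := by
    intro n hn
    change π (sl2 h2 g) ^ n = 1 at hn
    rw [← map_pow, π_one_iff] at hn
    have e : ((sl2 h2 g) ^ n).1 = M ^ n := by rw [hM]; rfl
    rcases hn with h | h
    · exact ⟨1, by rw [← e, h, one_smul]; rfl⟩
    · exact ⟨-1, by rw [← e, h, neg_one_smul]; rfl⟩
  have hns : ∀ n : ℕ, orderOf (pr h2 g) = n → 2 ≤ n → ∀ α β : AlgebraicClosure F, α • M = β • 1 → α = 0 := by
    intro n hn hn2 α β hαβ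
    by_contra hα
    refine absurd (orderOf_eq_one_iff.mpr ((pr_eq_one h2).mpr ?_)) (by omega : orderOf (pr h2 g) ≠ 1)
    have e : M = (β / α) • 1 := by rw [div_eq_inv_mul, ← smul_smul, ← hαβ, smul_smul, inv_mul_cancel₀ hα, one_smul]
    have b := hent 0 1
    have c := hent 1 0
    have a := hent 0 0
    have d := hent 1 1
    rw [e] at a b c d
    simp at a b c d
    exact ⟨i.injective (by simpa using b.symm), i.injective (by simpa using c.symm), i.injective (a.symm.trans d)⟩
  refine ⟨fun h => ?_, fun h => ?_, fun h => ?_, fun h => ?_⟩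
  all_goals obtain ⟨ε, hε⟩ := hpoly _ (h ▸ pow_orderOf_eq_one (pr h2 g))
  all_goals apply i.injective
  all_goals simp only [map_zero, map_sub, map_add, map_mul, map_pow, map_ofNat, ← hTν, ← hν]
  · rw [pow_two, hsq] at hε
    have h0 := hns 2 h le_rfl T (ε + 1) (by rw [add_smul ε, one_smul, ← hε, sub_add_cancel])
    rw [h0, zero_mul]
  · rw [h3] at hε
    have h0 := hns 3 h (by norm_num) (T ^ 2 - 1) (ε + T) (by rw [add_smul ε, ← hε, sub_add_cancel])
    linear_combination ν ^ 2 * h0
  · rw [h4] at hε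
    have h0 := hns 4 h (by norm_num) (T ^ 3 - 2 * T) (ε + (T ^ 2 - 1)) (by rw [add_smul ε, ← hε, sub_add_cancel])
    rcases mul_eq_zero.mp (show T * (T ^ 2 - 2) = 0 by linear_combination h0) with hT0 | h1
    · exfalso
      rw [hT0, zero_smul, zero_sub] at hsq
      have h'' : pr h2 g ^ 2 = 1 := by
        show π (sl2 h2 g) ^ 2 = 1
        rw [← map_pow, π_one_iff]
        right
        refine Subtype.ext ?_
        have e : ((sl2 h2 g) ^ 2).1 = M ^ 2 := by rw [hM]; rfl
        show ((sl2 h2 g) ^ 2).1 = _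
        rw [e, pow_two, hsq]
        rfl
      have := orderOf_dvd_of_pow_eq_one h''
      rw [h] at this
      norm_num at this
    · linear_combination ν ^ 2 * h1
  · rw [h5] at hε
    have h0 := hns 5 h (by norm_num) (T ^ 4 - 3 * T ^ 2 + 1) (ε + (T ^ 3 - 2 * T))
      (by rw [add_smul ε, ← hε, sub_add_cancel])
    linear_combination ν ^ 4 * h0

end

/-- No elations. -/
def NoEl (K : Subgroup GG) : Prop := ∀ x φ, One K x φ → φ ⬝ᵥ x = 0 → x = 0 ∨ φ = 0

theorem NoEl.mono {K L : Subgroup GG} (h : NoEl L) (hle : K ≤ L) : NoEl K :=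
  fun x φ ⟨g, hg, e⟩ h0 => h x φ ⟨g, hle hg, e⟩ h0

theorem NoEl.conj {K : Subgroup GG} (h : NoEl K) (Q : GG) : NoEl (K.comap (MulAut.conj Q).toMonoidHom) := by
  rintro x φ ⟨g, hg, e⟩ h0
  have h1 : One K ((Q : MM) *ᵥ x) (φ ᵥ* ((Q⁻¹ : GG) : MM)) := ⟨Q * g * Q⁻¹, hg, by
    rw [Units.val_mul, Units.val_mul, e, mul_add, mul_one, add_mul, mul_vecMulVec, vecMulVec_mul, ← Units.val_mul,
      mul_inv_cancel, Units.val_one]⟩
  rcases h _ _ h1 (by rw [dot_conj, h0]) with e' | e'
  · left
    by_contra hx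
    exact GL_ne_zero_mulVec Q hx e'
  · right
    by_contra hx
    exact GL_ne_zero_vecMul Q⁻¹ hx e'

/-- An element fixing the point and the line has order prime to the characteristic. -/
theorem no_p [Fintype F] {p : ℕ} [Fact p.Prime] [CharP F p] (h2 : (2 : F) ≠ 0) {K : Subgroup GG} (hne : NoEl K)
    {g : GG} (hg : g ∈ K) (hb : g ∈ Blk) (hp : g ^ p = 1) : g = 1 := by
  have hpp : p.Prime := Fact.out
  obtain ⟨e02, e12, e20, e21⟩ := (mem_blk h2).mp hb
  set N : MM := (g : MM) - 1 with hN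
  have hNp : N ^ p = 0 := by
    rw [hN, sub_pow_char_of_commute _ (Commute.one_right _), one_pow, ← Units.val_pow_eq_pow_val, hp, Units.val_one,
      sub_self]
  have hNent : N 0 2 = 0 ∧ N 1 2 = 0 ∧ N 2 0 = 0 ∧ N 2 1 = 0 := by simp [hN, e02, e12, e20, e21]
  obtain ⟨n02, n12, n20, n21⟩ := hNent
  have hnil : IsNilpotent N := ⟨p, hNp⟩
  have hd0 : ∀ M : MM, M ^ p = 0 → M.det = 0 := fun M h => by
    have := congrArg Matrix.det h
    rw [Matrix.det_pow, Matrix.det_zero] at this
    exact eq_zero_of_pow_eq_zero this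
  -- the last entry and the block
  have hpow : ∀ k : ℕ, (N ^ (k + 1)) 2 2 = N 2 2 ^ (k + 1) ∧ (N ^ (k + 1)) 2 0 = 0 ∧ (N ^ (k + 1)) 2 1 = 0 := by
    intro k
    induction k with
    | zero => simp [n20, n21]
    | succ k ih =>
      obtain ⟨i1, i2, i3⟩ := ih
      refine ⟨?_, ?_, ?_⟩ <;> rw [pow_succ, Matrix.mul_apply, Fin.sum_univ_three] <;>
        simp [i1, i2, i3, n02, n12, n20, n21, pow_succ]
  obtain ⟨k, hk⟩ : ∃ k, p = k + 1 := ⟨p - 1, by have := hpp.two_le; omega⟩
  have h22 : N 2 2 = 0 := by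
    have := (hpow k).1
    rw [← hk, hNp] at this
    exact eq_zero_of_pow_eq_zero this.symm
  set a := N 0 0 with ha
  set b := N 0 1 with hb'
  set c := N 1 0 with hc
  set d := N 1 1 with hd
  have hdet : a * d - b * c = 0 := by
    have h' : (N + vecMulVec (Pi.single 2 1) (Pi.single 2 1)) ^ p = vecMulVec (Pi.single 2 1) (Pi.single 2 1) := by
      rw [add_pow_char_of_commute _ (by
        unfold Commute SemiconjBy
        ext r s
        fin_cases r <;> fin_cases s <;> simp [Matrix.mul_apply, Fin.sum_univ_three, vecMulVec_apply, n02, n12, n20, n21, h22]),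
        hNp, zero_add]
      obtain ⟨k, rfl⟩ : ∃ k, p = k + 1 := ⟨p - 1, by omega⟩
      clear hk hNp hnil hpow hd0 hpp hp
      induction k with
      | zero => simp
      | succ k ih =>
        rw [pow_succ, ih, vecMulVec_mul_vecMulVec]
        simp
    have h'' := congrArg Matrix.det h'
    rw [Matrix.det_pow] at h''
    have hz : (vecMulVec (Pi.single 2 1) (Pi.single 2 1) : MM).det = 0 := by
      simp [Matrix.det_fin_three, vecMulVec_apply]
    rw [hz] at h''
    have := eq_zero_of_pow_eq_zero h''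
    rw [Matrix.det_fin_three] at this
    simp [vecMulVec_apply, n02, n12, n20, n21, h22, ← ha, ← hb', ← hc, ← hd] at this
    linear_combination this
  have hsq : N * N = (a + d) • N := by
    ext r s
    fin_cases r <;> fin_cases s <;>
      simp [Matrix.mul_apply, Fin.sum_univ_three, n02, n12, n20, n21, h22, ← ha, ← hb', ← hc, ← hd] <;>
      first | linear_combination hdet | linear_combination -hdet | ring
  have hpw : ∀ k : ℕ, N ^ (k + 1) = (a + d) ^ k • N := by
    intro k
    induction k with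
    | zero => simp
    | succ k ih => rw [pow_succ, ih, smul_mul_assoc, hsq, smul_smul, pow_succ]
  have h0 := hpw k
  rw [← hk, hNp] at h0
  have hgN : (g : MM) = 1 + N := by rw [hN, add_sub_cancel]
  have hmain : N = 0 := by
    rcases smul_eq_zero.mp h0.symm with h | h
    swap
    · exact h
    have had : d = -a := eq_neg_of_add_eq_zero_right (eq_zero_of_pow_eq_zero h)
    by_cases hb0 : b = 0
    · have ha0 : a = 0 := by
        refine eq_zero_of_pow_eq_zero (n := 2) ?_
        rw [hb0, had] at hdet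
        linear_combination -hdet
      have hV : N = vecMulVec (Pi.single 1 c) (Pi.single 0 1) := by
        ext r s
        fin_cases r <;> fin_cases s <;>
          simp [vecMulVec_apply, n02, n12, n20, n21, h22, ← ha, ← hb', ← hc, ← hd, hb0, ha0, had]
      rcases hne _ _ ⟨g, hg, by rw [hgN, hV]⟩ (by simp) with e | e
      · rw [hV, e, zero_vecMulVec]
      · rw [hV, e, vecMulVec_zero]
    · have hV : N = vecMulVec ![b, -a, 0] ![a / b, 1, 0] := by
        ext r s
        fin_cases r <;> fin_cases s <;>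
          simp [vecMulVec_apply, n02, n12, n20, n21, h22, ← ha, ← hb', ← hc, ← hd, had] <;> field_simp
        rw [had] at hdet
        linear_combination -hdet
      rcases hne _ _ ⟨g, hg, by rw [hgN, hV]⟩ (by
          simp [dotProduct, Fin.sum_univ_three]; field_simp; ring) with e | e
      · rw [hV, e, zero_vecMulVec]
      · rw [hV, e, vecMulVec_zero]
  exact Units.ext (by rw [hgN, hmain, add_zero, Units.val_one])

section
variable [Fintype F]

/-- The image in `PSL₂`. -/
noncomputable def img (h2 : (2 : F) ≠ 0) (K : Subgroup GG) :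
    Subgroup (Matrix.ProjectiveSpecialLinearGroup (Fin 2) (AlgebraicClosure F)) :=
  (K.subgroupOf Blk).map (pr h2)


theorem mem_img (h2 : (2 : F) ≠ 0) (K : Subgroup GG) {g : GG} (hg : g ∈ K) (hb : g ∈ Blk) : pr h2 ⟨g, hb⟩ ∈ img h2 K :=
  ⟨⟨g, hb⟩, hg, rfl⟩

theorem finite_img (h2 : (2 : F) ≠ 0) (K : Subgroup GG) : Finite (img h2 K) := by
  classical
  exact Set.Finite.to_subtype ((Set.toFinite (K.subgroupOf Blk : Set (Blk : Subgroup GG))).image _)

theorem img_shape (h2 : (2 : F) ≠ 0) (K : Subgroup GG) {p : ℕ} [Fact p.Prime] [CharP F p] (hne : NoEl K) : Shape (img h2 K) := by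
  classical
  haveI := finite_img h2 K
  haveI : CharP (AlgebraicClosure F) p := charP_of_injective_ringHom (algebraMap F _).injective p
  refine shape (p := p) _ fun hd => ?_
  let H : Subgroup (Blk : Subgroup GG) := K.subgroupOf Blk
  have h1 : Nat.card (img h2 K) ∣ Nat.card H :=
    Subgroup.card_dvd_of_surjective _ ((pr h2).subgroupMap_surjective H)
  obtain ⟨x, hx⟩ := exists_prime_orderOf_dvd_card' p (hd.trans h1)
  have h3 : ((x : (Blk : Subgroup GG)) : GG) ^ p = 1 := by
    rw [← Subgroup.coe_pow, ← Subgroup.coe_pow, ← hx, pow_orderOf_eq_one, Subgroup.coe_one, Subgroup.coe_one]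
  have h4 := no_p h2 hne (Subgroup.mem_subgroupOf.mp x.2) x.1.2 h3
  have : x = 1 := Subtype.ext (Subtype.ext h4)
  rw [this, orderOf_one] at hx
  exact (Fact.out : p.Prime).one_lt.ne hx

end

end Cfsg.Lib.Classical.SLThree
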