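import Mathlib

/-! A counting argument excluding finite groups with one class of involutions whose centralisers, elements of order
three and remaining elements are tightly controlled. -/

set_option autoImplicit false
set_option linter.unusedSimpArgs false
set_option linter.unusedSectionVars false
set_option linter.style.haveILetI false

namespace Cfsg.Lib.Classical.SLThree

open Finset

variable {G : Type*} [Group G] [Finite G]

/-- Neither an involution, nor of order three, nor centralised by an involution. -/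
def Unk (x : G) : Prop := x ≠ 1 ∧ orderOf x ≠ 2 ∧ orderOf x ≠ 3 ∧ ∀ z : G, orderOf z = 2 → z * x ≠ x * z

/-- The hypotheses of the counting argument. -/
structure CountData (p : ℕ) (t r : G) : Prop where
  prime : p.Prime
  big : 7 ≤ p
  inv_t : orderOf t = 2
  one_class : ∀ v : G, orderOf v = 2 → ∃ g, g * t * g⁻¹ = v
  four : 4 * Nat.card {u : G // u * t = t * u ∧ orderOf u = 2 ∧ u ≠ t} = Nat.card (Subgroup.centralizer ({t} : Set G))
  sixteen : 16 ≤ Nat.card (Subgroup.centralizer ({t} : Set G))
  uniq : ∀ x : G, x ≠ 1 → orderOf x ≠ 2 → ∀ z z' : G, orderOf z = 2 → orderOf z' = 2 →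
    z * x = x * z → z' * x = x * z' → z = z'
  r3 : orderOf r = 3
  cr : Nat.card (Subgroup.centralizer ({r} : Set G)) = 9
  cr3 : ∀ x : G, x * r = r * x → x ^ 3 = 1
  class3 : ∀ x : G, orderOf x = 3 → ∃ g, g * r * g⁻¹ = x
  semi : ∀ x : G, Unk x → ¬ p ∣ orderOf x →
    (∀ a b : G, a * x = x * a → b * x = x * b → a * b = b * a) ∧
    ∃ φ : Subgroup.normalizer (Subgroup.centralizer ({x} : Set G) : Set G) →* Equiv.Perm (Fin 3),
      ∀ n, φ n = 1 → (n : G) * x = x * n
  unip : ∀ u : G, orderOf u = p → ∀ x, x * u = u * x → x ∈ Subgroup.zpowers u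
  flag : ∀ u h z : G, orderOf u = p → h * u * h⁻¹ ∈ Subgroup.zpowers u → 4 < orderOf h → ¬ p ∣ orderOf h →
    orderOf z = 2 → z * h = h * z → z * u * z⁻¹ ∈ Subgroup.zpowers u

theorem mem_centralizer_one {a x : G} : x ∈ Subgroup.centralizer ({a} : Set G) ↔ x * a = a * x :=
  Subgroup.mem_centralizer_singleton_iff

/-- The size of a class times the order of a centraliser. -/
theorem class_mul [Fintype G] [DecidableEq G] (a : G) :
    (univ.image fun g : G => g * a * g⁻¹).card * Nat.card (Subgroup.centralizer ({a} : Set G)) = Nat.card G := by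
  classical
  rw [Nat.card_eq_fintype_card (α := G), ← Finset.card_univ (α := G),
    Finset.card_eq_sum_card_image (fun g : G => g * a * g⁻¹) univ, Finset.sum_const_nat (m := Nat.card (Subgroup.centralizer ({a} : Set G)))]
  intro v hv
  obtain ⟨g0, -, rfl⟩ := Finset.mem_image.mp hv
  rw [Nat.card_eq_fintype_card, ← Finset.card_univ]
  symm
  refine Finset.card_bij (fun c _ => g0 * (c : G)) (fun c _ => ?_) (fun c _ d _ e => Subtype.ext (mul_left_cancel e))
    fun g hg => ?_
  · have hc := mem_centralizer_one.mp c.2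
    simp only [Finset.mem_filter, Finset.mem_univ, true_and]
    calc g0 * (c : G) * a * (g0 * c)⁻¹ = g0 * ((c : G) * a) * ((c : G)⁻¹ * g0⁻¹) := by group
      _ = g0 * a * g0⁻¹ := by rw [hc]; group
  · simp only [Finset.mem_filter, Finset.mem_univ, true_and] at hg
    refine ⟨⟨g0⁻¹ * g, mem_centralizer_one.mpr ?_⟩, Finset.mem_univ _, by simp⟩
    calc g0⁻¹ * g * a = g0⁻¹ * (g * a * g⁻¹) * g := by group
      _ = a * (g0⁻¹ * g) := by rw [hg]; group

theorem orderOf_conj' (g x : G) : orderOf (g * x * g⁻¹) = orderOf x := by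
  rw [← MulAut.conj_apply, MulEquiv.orderOf_eq]

theorem comm_conj {g x y : G} (h : x * y = y * x) : g * x * g⁻¹ * (g * y * g⁻¹) = g * y * g⁻¹ * (g * x * g⁻¹) := by
  calc g * x * g⁻¹ * (g * y * g⁻¹) = g * (x * y) * g⁻¹ := by group
    _ = g * y * g⁻¹ * (g * x * g⁻¹) := by rw [h]; group

/-- Counting the conjugates of the non-trivial elements of a subgroup meeting its conjugates trivially. -/
theorem ti_count [Fintype G] [DecidableEq G] (P : Subgroup G) [Fintype {a : P // a ≠ 1}]
    (hti : ∀ g : G, ∀ a ∈ P, a ≠ 1 → g * a * g⁻¹ ∈ P → g ∈ Subgroup.normalizer (P : Set G)) :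
    ((univ : Finset (G × {a : P // a ≠ 1})).image fun x => x.1 * ((x.2.1 : P) : G) * x.1⁻¹).card *
      Nat.card (Subgroup.normalizer (P : Set G)) = Nat.card G * (Nat.card P - 1) := by
  classical
  have hc : Nat.card (G × {a : P // a ≠ 1}) = Nat.card G * (Nat.card P - 1) := by
    rw [Nat.card_prod, Nat.card_eq_fintype_card (α := {a : P // a ≠ 1}), Fintype.card_subtype_compl,
      Fintype.card_subtype_eq, Nat.card_eq_fintype_card (α := P)]
  rw [← hc, Nat.card_eq_fintype_card (α := G × {a : P // a ≠ 1}), ← Finset.card_univ (α := G × {a : P // a ≠ 1}),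
    Finset.card_eq_sum_card_image (fun x : G × {a : P // a ≠ 1} => x.1 * ((x.2.1 : P) : G) * x.1⁻¹) univ,
    Finset.sum_const_nat (m := Nat.card (Subgroup.normalizer (P : Set G)))]
  intro v hv
  obtain ⟨⟨g0, a0, ha0⟩, -, rfl⟩ := Finset.mem_image.mp hv
  rw [Nat.card_eq_fintype_card, ← Finset.card_univ]
  symm
  refine Finset.card_bij (fun n _ => (g0 * (n : G),
    (⟨⟨(n : G)⁻¹ * (a0 : G) * n, ((Subgroup.mem_set_normalizer_iff''.mp n.2) _).mp a0.2⟩, fun e => ha0 ?_⟩ :
      {a : P // a ≠ 1}))) (fun n _ => ?_) (fun n _ m _ e => Subtype.ext (mul_left_cancel (congrArg Prod.fst e)))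
    fun x hx => ?_
  · have e' : (n : G)⁻¹ * (a0 : G) * n = 1 := congrArg Subtype.val e
    refine Subtype.ext ?_
    calc (a0 : G) = (n : G) * ((n : G)⁻¹ * (a0 : G) * n) * (n : G)⁻¹ := by group
      _ = 1 := by rw [e']; group
  · simp only [Finset.mem_filter, Finset.mem_univ, true_and]
    group
  · simp only [Finset.mem_filter, Finset.mem_univ, true_and] at hx
    obtain ⟨g1, a1, ha1⟩ := x
    change g1 * (a1 : G) * g1⁻¹ = g0 * (a0 : G) * g0⁻¹ at hx
    have e : g0⁻¹ * g1 * (a1 : G) * (g0⁻¹ * g1)⁻¹ = a0 := by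
      calc g0⁻¹ * g1 * (a1 : G) * (g0⁻¹ * g1)⁻¹ = g0⁻¹ * (g1 * (a1 : G) * g1⁻¹) * g0 := by group
        _ = a0 := by rw [hx]; group
    refine ⟨⟨g0⁻¹ * g1, hti _ _ a1.2 (fun h => ha1 (Subtype.ext h)) (e ▸ a0.2)⟩, Finset.mem_univ _, ?_⟩
    refine Prod.ext (by simp) (Subtype.ext (Subtype.ext ?_))
    show (g0⁻¹ * g1)⁻¹ * (a0 : G) * (g0⁻¹ * g1) = a1
    rw [← e]
    group

variable {p : ℕ} {t r : G}

theorem CountData.three_comm (D : CountData p t r) {x y : G} (hy : orderOf y = 3) (h : x * y = y * x) : x ^ 3 = 1 := by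
  obtain ⟨g, hg⟩ := D.class3 y hy
  have h' := comm_conj (g := g⁻¹) h
  rw [inv_inv, show g⁻¹ * y * g = r by rw [← hg]; group] at h'
  have h3 := D.cr3 _ h'
  have : (g⁻¹ * x * g) ^ 3 = g⁻¹ * x ^ 3 * g := by simp [pow_succ, mul_assoc]
  rw [this] at h3
  calc x ^ 3 = g * (g⁻¹ * x ^ 3 * g) * g⁻¹ := by group
    _ = 1 := by rw [h3]; group

/-- The centraliser of an unknown element has order prime to six and consists of unknown elements. -/
theorem CountData.unk_cent (D : CountData p t r) {x : G} (hx : Unk x) {y : G} (hy : y * x = x * y) (hy1 : y ≠ 1) :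
    Unk y := by
  obtain ⟨x1, x2, x3, xz⟩ := hx
  refine ⟨hy1, fun e => xz y e hy, fun e => ?_, fun z hz hzy => ?_⟩
  · exact x3 (orderOf_eq_prime (D.three_comm e hy.symm) x1)
  · by_cases hy2 : orderOf y = 2
    · exact xz y hy2 hy
    · -- the unique involution centralising `y` is fixed by `x`
      have hz' : (x * z * x⁻¹) * y = y * (x * z * x⁻¹) := by
        have := comm_conj (g := x) hzy
        rwa [show x * y * x⁻¹ = y by rw [← hy, mul_inv_cancel_right]] at this
      have e := D.uniq y hy1 hy2 z (x * z * x⁻¹) hz (by rw [orderOf_conj', hz]) hzy hz'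
      exact xz z hz (mul_inv_eq_iff_eq_mul.mp e.symm).symm

theorem two_div {x : G} (h : Even (orderOf x)) (h0 : x ≠ 1) : orderOf x = 2 ∨ ∃ z, orderOf z = 2 ∧ z * x = x * z := by
  obtain ⟨k, hk⟩ := h
  refine Or.inr ⟨x ^ k, ?_, (Commute.pow_self x k).eq⟩
  have hpos := orderOf_pos x
  rw [orderOf_pow' _ (by omega), show orderOf x = 2 * k by omega, Nat.gcd_eq_right (dvd_mul_left k 2)]
  exact Nat.mul_div_cancel _ (by omega)

theorem CountData.unk_order (D : CountData p t r) {x : G} (hx : Unk x) : ¬ Even (orderOf x) ∧ ¬ 3 ∣ orderOf x := by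
  refine ⟨fun h => ?_, fun h => ?_⟩
  · rcases two_div h hx.1 with e | ⟨z, hz, hc⟩
    · exact hx.2.1 e
    · exact hx.2.2.2 z hz hc
  · have hpos := orderOf_pos x
    set k := orderOf x / 3
    have hk : orderOf x = 3 * k := (Nat.mul_div_cancel' h).symm
    have h3 : orderOf (x ^ k) = 3 := by
      rw [orderOf_pow' _ (by omega), hk, Nat.gcd_eq_right (dvd_mul_left k 3)]
      exact Nat.mul_div_cancel _ (by omega)
    exact (D.unk_cent hx ((Commute.pow_self x k).eq) (fun e => by rw [e, orderOf_one] at h3; omega)).2.2.1 h3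

theorem CountData.main (D : CountData p t r) : False := by
  classical
  haveI := Fintype.ofFinite G
  haveI : Fact p.Prime := ⟨D.prime⟩
  set g := Nat.card G with hg
  set c := Nat.card (Subgroup.centralizer ({t} : Set G)) with hc
  let Cl := fun a : G => univ.image fun g : G => g * a * g⁻¹
  have mem_cl : ∀ a v, v ∈ Cl a ↔ ∃ g, g * a * g⁻¹ = v := fun a v => by simp [Cl]
  let I := univ.filter fun x : G => orderOf x = 2
  let T3 := univ.filter fun x : G => orderOf x = 3
  let U := univ.filter fun x : G => Unk x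
  let K := univ.filter fun x : G => x ≠ 1 ∧ orderOf x ≠ 2 ∧ ∃ z, orderOf z = 2 ∧ z * x = x * z
  have hI : I = Cl t := by
    ext v
    simp only [I, mem_filter, mem_univ, true_and, mem_cl]
    exact ⟨D.one_class v, fun ⟨g, e⟩ => by rw [← e, orderOf_conj', D.inv_t]⟩
  have hT : T3 = Cl r := by
    ext v
    simp only [T3, mem_filter, mem_univ, true_and, mem_cl]
    exact ⟨D.class3 v, fun ⟨g, e⟩ => by rw [← e, orderOf_conj', D.r3]⟩
  have cI : I.card * c = g := by rw [hI]; exact class_mul t
  have cT : T3.card * 9 = g := by rw [hT, ← D.cr]; exact class_mul r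
  -- elements centralised by an involution
  let Kz := fun z : G => univ.filter fun x : G => x ≠ 1 ∧ orderOf x ≠ 2 ∧ z * x = x * z
  have hKz : ∀ z ∈ I, (Kz z).card = (Kz t).card := by
    intro z hz
    rw [hI, mem_cl] at hz
    obtain ⟨g, rfl⟩ := hz
    symm
    refine Finset.card_bij (fun x _ => g * x * g⁻¹) (fun x hx => ?_) (fun a _ b _ e => by simpa using e) fun y hy => ?_
    · simp only [Kz, mem_filter, mem_univ, true_and] at hx ⊢
      exact ⟨fun e => hx.1 (by simpa using e), by rw [orderOf_conj']; exact hx.2.1, comm_conj hx.2.2⟩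
    · simp only [Kz, mem_filter, mem_univ, true_and] at hy ⊢
      refine ⟨g⁻¹ * y * g, ⟨fun e => hy.1 ?_, ?_, ?_⟩, by group⟩
      · rw [show y = g * (g⁻¹ * y * g) * g⁻¹ by group, e]; group
      · have := orderOf_conj' g⁻¹ y
        rw [inv_inv] at this
        rw [this]; exact hy.2.1
      · have := comm_conj (g := g⁻¹) hy.2.2
        rw [inv_inv, show g⁻¹ * (g * t * g⁻¹) * g = t by group] at this
        exact this
  have cK : K.card = I.card * (Kz t).card := by
    have e : K = I.biUnion Kz := by
      ext x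
      simp only [K, I, Kz, mem_filter, mem_univ, true_and, mem_biUnion]
      constructor
      · rintro ⟨h1, h2, z, hz, hzx⟩; exact ⟨z, hz, h1, h2, hzx⟩
      · rintro ⟨z, hz, h1, h2, hzx⟩; exact ⟨h1, h2, z, hz, hzx⟩
    rw [e, Finset.card_biUnion, Finset.sum_congr rfl hKz, Finset.sum_const, smul_eq_mul]
    intro z hz z' hz' hne
    rw [Function.onFun, Finset.disjoint_left]
    intro x hx hx'
    simp only [Kz, mem_filter, mem_univ, true_and] at hx hx'
    simp only [I, Finset.mem_coe, mem_filter, mem_univ, true_and] at hz hz'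
    exact hne (D.uniq x hx.1 hx.2.1 z z' hz hz' hx.2.2 hx'.2.2)
  let Cs := univ.filter fun x : G => x * t = t * x
  let It := Cs.filter fun x => orderOf x = 2 ∧ x ≠ t
  have cCs : Cs.card = c := by
    rw [hc, ← SetLike.coe_sort_coe, Nat.card_coe_set_eq, Set.ncard_eq_toFinset_card']
    congr 1
    ext x
    simp [Cs, mem_centralizer_one]
  have cIt : 4 * It.card = c := by
    rw [hc, ← D.four, Nat.card_eq_fintype_card, Fintype.card_subtype]
    congr 2
    ext x
    simp [It, Cs]
  have ht1 : t ≠ 1 := fun e => by have := D.inv_t; rw [e, orderOf_one] at this; omega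
  have cKt : (Kz t).card + It.card + 2 = c := by
    rw [← cCs]
    have e : Cs = Kz t ∪ (It ∪ {1, t}) := by
      ext x
      simp only [Cs, Kz, It, mem_filter, mem_univ, true_and, mem_union, mem_insert, mem_singleton]
      constructor
      · intro h
        by_cases h1 : x = 1
        · exact Or.inr (Or.inr (Or.inl h1))
        by_cases h2 : orderOf x = 2
        · by_cases h3 : x = t
          · exact Or.inr (Or.inr (Or.inr h3))
          · exact Or.inr (Or.inl ⟨h, h2, h3⟩)
        · exact Or.inl ⟨h1, h2, h.symm⟩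
      · rintro (⟨-, -, h⟩ | ⟨h, -⟩ | rfl | rfl)
        · exact h.symm
        · exact h
        · simp
        · rfl
    rw [e, Finset.card_union_of_disjoint, Finset.card_union_of_disjoint, Finset.card_pair (Ne.symm ht1), add_assoc]
    · rw [Finset.disjoint_left]
      intro x hx hx'
      simp only [It, mem_filter, mem_insert, mem_singleton] at hx hx'
      rcases hx' with rfl | rfl
      · simp at hx
      · exact hx.2.2 rfl
    · rw [Finset.disjoint_left]
      intro x hx hx'
      simp only [Kz, It, mem_filter, mem_univ, true_and, mem_union, mem_insert, mem_singleton] at hx hx'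
      rcases hx' with ⟨-, h2, -⟩ | rfl | rfl
      · exact hx.2.1 h2
      · exact hx.1 rfl
      · exact hx.2.1 D.inv_t
  -- the partition
  have part : 1 + I.card + K.card + T3.card + U.card = g := by
    have e : (univ : Finset G) = {1} ∪ (I ∪ (K ∪ (T3 ∪ U))) := by
      ext x
      simp only [I, K, T3, U, mem_filter, mem_univ, true_and, mem_union, mem_singleton, true_iff]
      try simp only [Unk]
      by_cases h1 : x = 1
      · exact Or.inl h1
      by_cases h2 : orderOf x = 2
      · exact Or.inr (Or.inl h2)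
      by_cases h4 : ∃ z, orderOf z = 2 ∧ z * x = x * z
      · exact Or.inr (Or.inr (Or.inl ⟨h1, h2, h4⟩))
      by_cases h3 : orderOf x = 3
      · exact Or.inr (Or.inr (Or.inr (Or.inl h3)))
      · push Not at h4
        exact Or.inr (Or.inr (Or.inr (Or.inr ⟨h1, h2, h3, h4⟩)))
    rw [hg, Nat.card_eq_fintype_card, ← Finset.card_univ, e, Finset.card_union_of_disjoint,
      Finset.card_union_of_disjoint, Finset.card_union_of_disjoint, Finset.card_union_of_disjoint,
      Finset.card_singleton]
    · ring
    · rw [Finset.disjoint_left]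
      intro x hx hx'
      simp only [T3, U, mem_filter, mem_univ, true_and] at hx hx'
      try simp only [Unk] at hx hx'
      exact hx'.2.2.1 hx
    · rw [Finset.disjoint_left]
      intro x hx hx'
      simp only [K, T3, U, mem_filter, mem_univ, true_and, mem_union] at hx hx'
      try simp only [Unk] at hx hx'
      obtain ⟨h1, h2, z, hz, hzx⟩ := hx
      rcases hx' with h | h
      · have h3 := D.three_comm h hzx
        have h4 : z ^ 2 = 1 := by rw [← hz, pow_orderOf_eq_one]
        have : z = 1 := by
          calc z = z ^ 3 := by rw [pow_succ, h4, one_mul]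
            _ = 1 := h3
        rw [this, orderOf_one] at hz
        omega
      · exact h.2.2.2 z hz hzx
    · rw [Finset.disjoint_left]
      intro x hx hx'
      simp only [I, K, T3, U, mem_filter, mem_univ, true_and, mem_union] at hx hx'
      try simp only [Unk] at hx hx'
      rcases hx' with h | h | h
      · exact h.2.1 hx
      · omega
      · exact h.2.1 hx
    · rw [Finset.disjoint_left]
      intro x hx hx'
      simp only [I, K, T3, U, mem_filter, mem_univ, true_and, mem_union, mem_singleton] at hx hx'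
      try simp only [Unk] at hx hx'
      subst hx
      rw [orderOf_one] at hx'
      simp at hx'
  have key : 36 * c * (U.card + 1) = g * (5 * c + 36) := by
    have h1 : (1 + U.card + T3.card + I.card * (1 + (Kz t).card)) * (36 * c) = g * (36 * c) := by
      rw [← part, cK]; ring
    have e1 : I.card * (1 + (Kz t).card) * (36 * c) = g * (36 * (1 + (Kz t).card)) := by rw [← cI]; ring
    have e2 : T3.card * (36 * c) = g * (4 * c) := by rw [← cT]; ring
    have e3 : 36 * (1 + (Kz t).card) + 9 * c + 36 = 36 * c := by omega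
    nlinarith
  have hcg : c ≤ g := Nat.le_of_dvd Nat.card_pos (Subgroup.card_subgroup_dvd_card _)
  have hUpos : 0 < U.card := by
    by_contra h0
    have h0' : U.card = 0 := by omega
    rw [h0'] at key
    have := D.sixteen
    nlinarith
  have hbound : 144 * U.card ≤ 29 * g := by
    have := D.sixteen
    nlinarith
  -- no unknown element is semisimple
  have hsemi : ∀ x : G, Unk x → p ∣ orderOf x := by
    intro x hx
    by_contra hpx
    set A := Subgroup.centralizer ({x} : Set G) with hA
    set N := Subgroup.normalizer (A : Set G) with hN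
    obtain ⟨hab, φ, hφ⟩ : (∀ a b : G, a * x = x * a → b * x = x * b → a * b = b * a) ∧
        ∃ φ : N →* Equiv.Perm (Fin 3), ∀ n, φ n = 1 → (n : G) * x = x * n := D.semi x hx hpx
    have hAu : ∀ y ∈ A, y ≠ 1 → Unk y := fun y hy h1 => D.unk_cent hx (mem_centralizer_one.mp hy) h1
    have hAc : ∀ y ∈ A, y ≠ 1 → ∀ z, z * y = y * z → z * x = x * z := by
      intro y hy h1 z hz
      have hpy : ¬ p ∣ orderOf y := fun hd => by
        obtain ⟨k, hk⟩ := hd
        have hpos := orderOf_pos y
        have hk0 : k ≠ 0 := fun e => by rw [e, mul_zero] at hk; omega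
        have hu : orderOf (y ^ k) = p := by
          rw [orderOf_pow' _ hk0, hk, Nat.gcd_eq_right (dvd_mul_left k p)]
          exact Nat.mul_div_cancel _ (Nat.pos_of_ne_zero hk0)
        have hxu := D.unip _ hu x ((Commute.pow_right (mem_centralizer_one.mp hy).symm k).eq)
        have hd := orderOf_dvd_of_mem_zpowers hxu
        rw [hu] at hd
        rcases (Nat.dvd_prime D.prime).mp hd with e | e
        · exact hx.1 (orderOf_eq_one_iff.mp e)
        · exact hpx (e ▸ dvd_rfl)
      exact (D.semi y (hAu y hy h1) hpy).1 z x hz (mem_centralizer_one.mp hy).symm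
    have hti : ∀ n : G, ∀ a ∈ A, a ≠ 1 → n * a * n⁻¹ ∈ A → n ∈ N := by
      intro n a ha h1 hb
      rw [hN, Subgroup.mem_set_normalizer_iff]
      have hb1 : n * a * n⁻¹ ≠ 1 := fun e => h1 (by simpa using e)
      intro y
      constructor
      · intro hy
        refine mem_centralizer_one.mpr (hAc _ hb hb1 _ ?_)
        exact comm_conj (hab y a (mem_centralizer_one.mp hy) (mem_centralizer_one.mp ha))
      · intro hy
        refine mem_centralizer_one.mpr (hAc a ha h1 _ ?_)
        have h' := comm_conj (g := n⁻¹) (hab (n * y * n⁻¹) (n * a * n⁻¹) (mem_centralizer_one.mp hy) (mem_centralizer_one.mp hb))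
        simpa [mul_assoc] using h'
    have hAN : A ≤ N := Subgroup.le_normalizer
    have hcnt := ti_count A hti
    have hle : ((univ : Finset (G × {a : A // a ≠ 1})).image fun y => y.1 * ((y.2.1 : A) : G) * y.1⁻¹).card ≤ U.card := by
      refine Finset.card_le_card fun v hv => ?_
      obtain ⟨⟨n, a, ha⟩, -, rfl⟩ := Finset.mem_image.mp hv
      obtain ⟨a1, a2, a3, az⟩ := hAu a a.2 fun e => ha (Subtype.ext e)
      simp only [U, mem_filter, mem_univ, true_and, orderOf_conj']
      try simp only [Unk, orderOf_conj']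
      refine ⟨fun e => a1 (by simpa using e), a2, a3, fun z hz hzc => az (n⁻¹ * z * n) ?_ ?_⟩
      · have := orderOf_conj' n⁻¹ z
        rw [inv_inv] at this
        rw [this, hz]
      · have h' := comm_conj (g := n⁻¹) hzc
        simpa [mul_assoc] using h'
    have hxA : x ∈ A := mem_centralizer_one.mpr rfl
    obtain ⟨hev, h3x⟩ := D.unk_order hx
    have hm : 5 ≤ Nat.card A := by
      have h1 : orderOf x ∣ Nat.card A := by
        rw [← Subgroup.orderOf_mk x hxA]
        exact orderOf_dvd_natCard _
      have h2 : orderOf x ≠ 1 := fun e => hx.1 (orderOf_eq_one_iff.mp e)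
      have h5 := orderOf_pos x
      have h6 : orderOf x ≠ 2 := hx.2.1
      have h7 : orderOf x ≠ 3 := hx.2.2.1
      have h4 : orderOf x ≠ 4 := fun e => hev (by rw [e]; exact ⟨2, rfl⟩)
      exact le_trans (by omega) (Nat.le_of_dvd Nat.card_pos h1)
    -- the index in the normaliser
    have hd : Nat.card N ≤ 3 * Nat.card A := by
      have hk : φ.ker ≤ A.subgroupOf N := fun n hn => mem_centralizer_one.mpr (hφ n hn)
      have h1 := Subgroup.index_mul_card φ.ker
      have h2 : φ.ker.index ∣ 6 := by
        have h := Subgroup.card_subgroup_dvd_card φ.range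
        rw [← Subgroup.index_ker] at h
        have e : Nat.card (Equiv.Perm (Fin 3)) = 6 := by rw [Nat.card_eq_fintype_card]; decide
        rwa [e] at h
      have h3 := Subgroup.index_dvd_of_le hk
      have h4 := Subgroup.index_mul_card (A.subgroupOf N)
      have h5 : Nat.card (A.subgroupOf N) = Nat.card A := Nat.card_congr (Subgroup.subgroupOfEquivOfLe hAN).toEquiv
      have h6 := Nat.le_of_dvd (by norm_num) (h3.trans h2)
      have h7 : (A.subgroupOf N).index ≠ 6 := by
        intro e
        have hker : φ.ker = A.subgroupOf N := by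
          refine Subgroup.eq_of_le_of_card_ge hk ?_
          have := Nat.le_of_dvd (by norm_num) h2
          nlinarith
        have hsurj : Function.Surjective φ := by
          rw [← MonoidHom.range_eq_top]
          refine Subgroup.eq_top_of_card_eq _ ?_
          rw [← Subgroup.index_ker, hker, e, Nat.card_eq_fintype_card]
          decide
        obtain ⟨n, hn⟩ := hsurj (Equiv.swap 0 1)
        obtain ⟨m, hm'⟩ := hsurj (Equiv.swap 1 2)
        have inv_of : ∀ n : N, φ (n * n) = 1 → φ n ≠ 1 → (n : G) * x * (n : G)⁻¹ = x⁻¹ := by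
          intro n h2n hne
          have hx' : (n : G) * x * (n : G)⁻¹ ∈ A := ((Subgroup.mem_set_normalizer_iff.mp n.2) x).mp hxA
          by_contra hne'
          have hy : x * ((n : G) * x * (n : G)⁻¹) ∈ A := A.mul_mem hxA hx'
          have hy1 : x * ((n : G) * x * (n : G)⁻¹) ≠ 1 := fun e => hne' (eq_inv_of_mul_eq_one_right e)
          refine hne ?_
          rw [← MonoidHom.mem_ker, hker, Subgroup.mem_subgroupOf]
          refine mem_centralizer_one.mpr (hAc _ hy hy1 _ ?_)
          have h2' : (n : G) * n * x = x * (n * n) := hφ (n * n) h2n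
          have hfix : (n : G) * ((n : G) * x * (n : G)⁻¹) * (n : G)⁻¹ = x := by
            calc (n : G) * ((n : G) * x * (n : G)⁻¹) * (n : G)⁻¹ = (n : G) * n * x * ((n : G)⁻¹ * (n : G)⁻¹) := by group
              _ = x := by rw [h2']; group
          have hc := hab x _ rfl (mem_centralizer_one.mp hx')
          refine mul_inv_eq_iff_eq_mul.mp ?_
          calc (n : G) * (x * ((n : G) * x * (n : G)⁻¹)) * (n : G)⁻¹
              = ((n : G) * x * (n : G)⁻¹) * ((n : G) * ((n : G) * x * (n : G)⁻¹) * (n : G)⁻¹) := by group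
            _ = x * ((n : G) * x * (n : G)⁻¹) := by rw [hfix, hc]
        have hn' := inv_of n (by rw [map_mul, hn, Equiv.swap_mul_self]) (by rw [hn]; decide)
        have hm'' := inv_of m (by rw [map_mul, hm', Equiv.swap_mul_self]) (by rw [hm']; decide)
        have hnm : n⁻¹ * m ∈ φ.ker := by
          rw [hker, Subgroup.mem_subgroupOf]
          refine mem_centralizer_one.mpr ?_
          show (n : G)⁻¹ * m * x = x * ((n : G)⁻¹ * m)
          calc (n : G)⁻¹ * m * x = (n : G)⁻¹ * ((m : G) * x * (m : G)⁻¹) * m := by group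
            _ = (n : G)⁻¹ * ((n : G) * x * (n : G)⁻¹) * m := by rw [hm'', hn']
            _ = x * ((n : G)⁻¹ * m) := by group
        rw [MonoidHom.mem_ker, map_mul, map_inv, hn, hm'] at hnm
        exact absurd hnm (by decide)
      have h8 : (A.subgroupOf N).index ≤ 3 := by
        have h9 := h3.trans h2
        interval_cases hi : (A.subgroupOf N).index <;> omega
      rw [← h4, h5]
      exact Nat.mul_le_mul_right _ h8
    have hg : 0 < g := Nat.card_pos
    have hm1 : 1 ≤ Nat.card A := by omega
    have := Nat.mul_le_mul hle hd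
    rw [hcnt] at this
    obtain ⟨k, hk⟩ : ∃ k, Nat.card A = k + 5 := ⟨Nat.card A - 5, by omega⟩
    rw [hk, show k + 5 - 1 = k + 4 by omega] at this
    nlinarith
  -- the Sylow subgroups for `p`
  have hord : ∀ x : G, Unk x ↔ orderOf x = p := by
    intro x
    have hp := D.big
    constructor
    · intro hx
      obtain ⟨k, hk⟩ := hsemi x hx
      have hpos := orderOf_pos x
      have hk0 : k ≠ 0 := fun e => by rw [e, mul_zero] at hk; omega
      have hu : orderOf (x ^ k) = p := by
        rw [orderOf_pow' _ hk0, hk, Nat.gcd_eq_right (dvd_mul_left k p)]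
        exact Nat.mul_div_cancel _ (Nat.pos_of_ne_zero hk0)
      have hd := orderOf_dvd_of_mem_zpowers (D.unip _ hu x (Commute.self_pow x k).eq)
      rw [hu] at hd
      exact ((Nat.dvd_prime D.prime).mp hd).resolve_left fun e => hx.1 (orderOf_eq_one_iff.mp e)
    · intro hx
      refine ⟨fun e => ?_, by omega, by omega, fun z hz hzc => ?_⟩
      · rw [e, orderOf_one] at hx; omega
      · have hd := orderOf_dvd_of_mem_zpowers (D.unip x hx z hzc)
        rw [hz, hx] at hd
        have := (Nat.prime_dvd_prime_iff_eq Nat.prime_two D.prime).mp hd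
        omega
  obtain ⟨u, hu⟩ := Finset.card_pos.mp hUpos
  simp only [U, mem_filter, mem_univ, true_and] at hu
  have hou := (hord u).mp hu
  set P := Subgroup.zpowers u with hP
  set N := Subgroup.normalizer (P : Set G) with hN
  have hcardP : Nat.card P = p := by rw [hP, Nat.card_zpowers, hou]
  have hgen : ∀ a ∈ P, a ≠ 1 → P = Subgroup.zpowers a := fun a ha h1 => by
    refine (Subgroup.eq_of_le_of_card_ge (Subgroup.zpowers_le.mpr ha) ?_).symm
    rw [hcardP, Nat.card_zpowers]
    have hd : orderOf a ∣ p := hou ▸ orderOf_dvd_of_mem_zpowers ha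
    exact ((Nat.dvd_prime D.prime).mp hd).resolve_left (fun e => h1 (orderOf_eq_one_iff.mp e)) |>.ge
  have hti : ∀ n : G, ∀ a ∈ P, a ≠ 1 → n * a * n⁻¹ ∈ P → n ∈ N := by
    intro n a ha h1 hb
    have hb1 : n * a * n⁻¹ ≠ 1 := fun e => h1 (by simpa using e)
    rw [hN, Subgroup.mem_set_normalizer_iff]
    intro y
    simp only [SetLike.mem_coe]
    constructor
    · intro hy
      rw [hgen a ha h1, Subgroup.mem_zpowers_iff] at hy
      obtain ⟨i, rfl⟩ := hy
      rw [← conj_zpow]
      exact P.zpow_mem hb i
    · intro hy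
      rw [hgen _ hb hb1, Subgroup.mem_zpowers_iff] at hy
      obtain ⟨i, hi⟩ := hy
      rw [conj_zpow, mul_left_inj, mul_right_inj] at hi
      rw [← hi]
      exact P.zpow_mem ha i
  have cU : U.card * Nat.card N = g * (p - 1) := by
    have := ti_count P hti
    rw [hcardP] at this
    rw [← this]
    congr 2
    ext v
    simp only [U, mem_filter, mem_univ, true_and, mem_image, hord]
    constructor
    · intro hv
      have hQ : IsPGroup p (Subgroup.zpowers v) := IsPGroup.of_card (n := 1) (by rw [Nat.card_zpowers, hv, pow_one])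
      obtain ⟨Q, hQv⟩ := hQ.exists_le_sylow
      obtain ⟨Q', hQu⟩ := (IsPGroup.of_card (n := 1) (G := P) (by rw [hcardP, pow_one])).exists_le_sylow
      have small : ∀ (S : Sylow p G) w, orderOf w = p → w ∈ S → (S : Subgroup G) = Subgroup.zpowers w := by
        intro S w hw hwS
        haveI : Nontrivial S := ⟨⟨w, hwS⟩, 1, fun e => by
          rw [show w = 1 from congrArg Subtype.val e, orderOf_one] at hw
          exact D.prime.ne_one hw.symm⟩
        obtain ⟨k, hk⟩ := IsPGroup.iff_card.mp S.isPGroup'
        haveI := S.isPGroup'.center_nontrivial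
        obtain ⟨z, hz⟩ := exists_ne (1 : Subgroup.center S)
        have hzp : ∃ z' : Subgroup.center S, orderOf z' = p := by
          obtain ⟨j, hj⟩ := (S.isPGroup'.to_subgroup (Subgroup.center S)).exists_card_eq
          exact exists_prime_orderOf_dvd_card' p (by
            rw [hj]; refine dvd_pow_self p fun e => ?_
            rw [e, pow_zero] at hj
            haveI := (Nat.card_eq_one_iff_unique.mp hj).1
            exact hz (Subsingleton.elim _ _))
        obtain ⟨z', hz'⟩ := hzp
        have hzo : orderOf ((z' : S) : G) = p := by rw [Subgroup.orderOf_coe, Subgroup.orderOf_coe, hz']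
        have hall : ∀ y ∈ S, y ∈ Subgroup.zpowers ((z' : S) : G) := fun y hy => D.unip _ hzo y
          (congrArg Subtype.val (Subgroup.mem_center_iff.mp z'.2 ⟨y, hy⟩))
        refine le_antisymm ?_ (Subgroup.zpowers_le.mpr hwS)
        intro y hy
        have e : Subgroup.zpowers w = Subgroup.zpowers ((z' : S) : G) :=
          Subgroup.eq_of_le_of_card_ge (Subgroup.zpowers_le.mpr (hall w hwS)) (by
            rw [Nat.card_zpowers, Nat.card_zpowers, hw, hzo])
        rw [e]; exact hall y hy
      obtain ⟨n, hn⟩ := MulAction.exists_smul_eq G Q' Q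
      have e1 := small Q' u hou (hQu (Subgroup.mem_zpowers u))
      have hvQ : v ∈ (Q : Subgroup G) := hQv (Subgroup.mem_zpowers v)
      rw [← hn] at hvQ
      obtain ⟨a, ha, hav⟩ := hvQ
      have haP : a ∈ P := by
        have : a ∈ (Q' : Subgroup G) := ha
        rwa [e1] at this
      refine ⟨(n, ⟨⟨a, haP⟩, fun e => ?_⟩), ?_⟩
      · have ea : a = 1 := congrArg Subtype.val e
        have hv1 : v = 1 := by rw [← hav, ea]; exact map_one _
        rw [hv1, orderOf_one] at hv
        exact D.prime.ne_one hv.symm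
      · simpa [MulAut.conj_apply] using hav
    · rintro ⟨⟨n, a, ha⟩, rfl⟩
      have ha1 : (a : G) ≠ 1 := fun e => ha (Subtype.ext e)
      rw [orderOf_conj', ← Nat.card_zpowers, ← hgen a a.2 ha1, hcardP]
  have hPN : P ≤ N := Subgroup.le_normalizer
  set P' := P.subgroupOf N with hP'
  set e := P'.index with he
  have hNcard : Nat.card N = e * p := by
    rw [← hcardP, ← Nat.card_congr (Subgroup.subgroupOfEquivOfLe hPN).toEquiv, he, hP', Subgroup.index_mul_card]
  haveI : P'.Normal := Subgroup.normal_subgroupOf_iff_le_normalizer hPN |>.mpr le_rfl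
  -- the normaliser acts as a group of automorphisms of the Sylow subgroup
  obtain ⟨hecyc, hedvd⟩ : IsCyclic (N ⧸ P') ∧ e ∣ p - 1 := by
    haveI : IsCyclic P := Subgroup.isCyclic_zpowers u
    let ψ : N →* MulAut P := MonoidHom.mk' (fun n =>
      { toFun := fun a => ⟨(n : G) * a * (n : G)⁻¹, ((Subgroup.mem_set_normalizer_iff.mp n.2) _).mp a.2⟩
        invFun := fun a => ⟨(n : G)⁻¹ * a * n, ((Subgroup.mem_set_normalizer_iff''.mp n.2) _).mp a.2⟩
        left_inv := fun a => Subtype.ext (by simp [mul_assoc])
        right_inv := fun a => Subtype.ext (by simp [mul_assoc])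
        map_mul' := fun a b => Subtype.ext (by simp [mul_assoc]) }) fun n m =>
          MulEquiv.ext fun a => Subtype.ext (by simp [mul_assoc])
    have hker : ψ.ker = P' := by
      ext n
      rw [MonoidHom.mem_ker, hP', Subgroup.mem_subgroupOf]
      constructor
      · intro hn
        refine D.unip u hou n ?_
        have := congrArg Subtype.val (MulEquiv.ext_iff.mp hn ⟨u, Subgroup.mem_zpowers u⟩)
        exact mul_inv_eq_iff_eq_mul.mp this
      · intro hn
        refine MulEquiv.ext fun a => Subtype.ext ?_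
        show (n : G) * a * (n : G)⁻¹ = a
        rw [mul_inv_eq_iff_eq_mul]
        exact congrArg Subtype.val (IsCyclic.isMulCommutative.is_comm.comm (⟨n, hn⟩ : P) a)
    obtain ⟨ι⟩ : Nonempty (MulAut P ≃* (ZMod p)ˣ) := ⟨hcardP ▸ IsCyclic.mulAutMulEquiv P⟩
    let ψ' : N ⧸ P' →* (ZMod p)ˣ := ι.toMonoidHom.comp ((QuotientGroup.lift P' ψ hker.ge))
    have hinj : Function.Injective ψ' := by
      refine ι.injective.comp ?_
      rw [injective_iff_map_eq_one]
      intro q hq
      obtain ⟨n, rfl⟩ := QuotientGroup.mk'_surjective P' q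
      refine (QuotientGroup.eq_one_iff n).mpr (hker ▸ ?_)
      exact hq
    refine ⟨isCyclic_of_injective ψ' hinj, ?_⟩
    have := Subgroup.card_dvd_of_injective ψ' hinj
    rwa [Nat.card_units, Nat.card_zmod] at this
  have hg : 0 < g := Nat.card_pos
  have hp := D.big
  rw [hNcard] at cU
  by_cases he4 : e ≤ 4
  · obtain ⟨j, hj⟩ : ∃ j, p = j + 7 := ⟨p - 7, by omega⟩
    rw [hj, show j + 7 - 1 = j + 6 by omega] at cU
    have h4 : U.card * (e * (j + 7)) ≤ U.card * (4 * (j + 7)) :=
      Nat.mul_le_mul_left _ (Nat.mul_le_mul_right _ he4)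
    have h5 := Nat.mul_le_mul_right (4 * (j + 7)) hbound
    nlinarith
  by_cases he8 : 8 ≤ e
  · obtain ⟨j, hj⟩ : ∃ j, p = j + 1 := ⟨p - 1, by omega⟩
    rw [hj, show j + 1 - 1 = j by omega] at cU
    have h9 : 8 * (U.card * (j + 1)) ≤ e * (U.card * (j + 1)) := Nat.mul_le_mul_right _ he8
    have h10 : 8 * U.card * (j + 1) ≤ g * (j + 1) := by nlinarith
    have h8 : 8 * U.card ≤ g := Nat.le_of_mul_le_mul_right h10 (by omega)
    have h11 := Nat.mul_le_mul_right c h8
    nlinarith
  obtain ⟨h, hh⟩ : ∃ h : N, orderOf h = e := by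
    obtain ⟨q, hq⟩ := hecyc.exists_ofOrder_eq_natCard
    obtain ⟨n, rfl⟩ := QuotientGroup.mk'_surjective P' q
    have hd : e ∣ orderOf n := by
      rw [he, Subgroup.index, ← hq]
      exact orderOf_map_dvd _ n
    exact ⟨n ^ (orderOf n / e), orderOf_pow_orderOf_div (orderOf_pos n).ne' hd⟩
  have hho : orderOf (h : G) = e := by rw [Subgroup.orderOf_coe, hh]
  by_cases he6 : e = 6
  · have h2 : orderOf ((h : G) ^ 3) = 2 := by
      rw [orderOf_pow' _ (by norm_num), hho, he6]; norm_num
    have h3 : orderOf ((h : G) ^ 2) = 3 := by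
      rw [orderOf_pow' _ (by norm_num), hho, he6]; norm_num
    have h9 := D.three_comm h3 (Commute.pow_pow_self (h : G) 3 2).eq
    have := orderOf_dvd_of_pow_eq_one h9
    rw [h2] at this
    norm_num at this
  have hpe : ¬ p ∣ e := fun hd => by
    have := Nat.le_of_dvd (by omega) hd
    have := Nat.le_of_dvd (by omega) hedvd
    omega
  have hnunk : ¬ Unk (h : G) := fun hU => hpe (hho ▸ hsemi _ hU)
  obtain ⟨z, hz, hzh⟩ : ∃ z : G, orderOf z = 2 ∧ z * (h : G) = (h : G) * z := by
    by_contra hcon
    push Not at hcon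
    refine hnunk ⟨fun e' => ?_, by omega, by omega, hcon⟩
    rw [e', orderOf_one] at hho
    omega
  have hzu := D.flag u h z hou (((Subgroup.mem_set_normalizer_iff.mp h.2) u).mp (Subgroup.mem_zpowers u))
    (by omega) (by rw [hho]; exact hpe) hz hzh
  have hzN : z ∈ N := hti z u (Subgroup.mem_zpowers u) (fun e' => by
    rw [e', orderOf_one] at hou; omega) hzu
  have h2 : 2 ∣ e * p := by
    rw [← hNcard, ← hz, ← Subgroup.orderOf_mk z hzN]
    exact orderOf_dvd_natCard _
  rcases Nat.prime_two.dvd_mul.mp h2 with h2 | h2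
  · omega
  · have := (Nat.prime_dvd_prime_iff_eq Nat.prime_two D.prime).mp h2
    omega

end Cfsg.Lib.Classical.SLThree
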