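import Mathlib

/-! Diagonal and Jordan forms of three by three matrices. -/

set_option autoImplicit false
set_option linter.unusedSimpArgs false
set_option linter.unusedSectionVars false
set_option linter.style.haveILetI false

namespace Cfsg.Lib.Classical.SLThree

open Matrix Polynomial

universe u v

variable {K : Type u} [Field K]

/-- Eigenvectors spanning the space give a diagonal form. -/
theorem diag_of_span (A : Matrix (Fin 3) (Fin 3) K) (s : Set (Fin 3 → K)) (hs : ⊤ ≤ Submodule.span K s)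
    (he : ∀ v ∈ s, ∃ c : K, A *ᵥ v = c • v) :
    ∃ (P : GL (Fin 3) K) (d : Fin 3 → K), A * (P : Matrix (Fin 3) (Fin 3) K) = P * diagonal d := by
  classical
  let b₀ := Module.Basis.ofSpan hs
  let b := b₀.reindex (b₀.indexEquiv (Pi.basisFun K (Fin 3)))
  have hb : ∀ i, b i ∈ s := fun i => by
    rw [Module.Basis.reindex_apply]
    exact Module.Basis.ofSpan_subset hs ⟨_, rfl⟩
  choose d hd using fun i => he (b i) (hb i)
  let P : Matrix (Fin 3) (Fin 3) K := Matrix.of fun i j => b j i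
  have hP : IsUnit P := by
    rw [← Matrix.mulVec_injective_iff_isUnit, Matrix.mulVec_injective_iff]
    exact b.linearIndependent
  obtain ⟨Q, hQ⟩ := hP
  refine ⟨Q, d, ?_⟩
  rw [hQ]
  ext i j
  have := congrFun (hd j) i
  rw [Matrix.mul_diagonal]
  simp only [Matrix.mulVec, dotProduct, Pi.smul_apply, smul_eq_mul] at this
  rw [Matrix.mul_apply]
  simp only [P, Matrix.of_apply]
  rw [this, mul_comm]

/-- Elements of finite order prime to the characteristic are diagonal over an algebraically closed field. -/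
theorem diag_of_order [IsAlgClosed K] (A : Matrix (Fin 3) (Fin 3) K) {n : ℕ} (hn : (n : K) ≠ 0) (hA : A ^ n = 1) :
    ∃ (P : GL (Fin 3) K) (d : Fin 3 → K), A * (P : Matrix (Fin 3) (Fin 3) K) = P * diagonal d := by
  have hss : Module.End.IsSemisimple (Matrix.toLin' A) := by
    refine Module.End.isSemisimple_of_squarefree_aeval_eq_zero
      (p := X ^ n - C (1 : K)) ((separable_X_pow_sub_C (1 : K) hn one_ne_zero).squarefree) ?_
    rw [map_sub, map_pow, aeval_X, aeval_C, map_one, sub_eq_zero, ← Matrix.toLin'_pow, hA, Matrix.toLin'_one]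
    rfl
  refine diag_of_span A (⋃ c : K, ((Module.End.eigenspace (Matrix.toLin' A) c : Submodule K (Fin 3 → K)) : Set _)) ?_ ?_
  · rw [← Submodule.iSup_eq_span]
    simp only [← hss.isFinitelySemisimple.maxGenEigenspace_eq_eigenspace]
    rw [Module.End.iSup_maxGenEigenspace_eq_top]
  · intro v hv
    obtain ⟨c, hc⟩ := Set.mem_iUnion.mp hv
    exact ⟨c, by simpa using Module.End.mem_eigenspace_iff.mp hc⟩

/-- A matrix killed by two linear factors is diagonal. -/
theorem diag_of_two (A : Matrix (Fin 3) (Fin 3) K) {a c : K} (hac : a ≠ c)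
    (h : (A - a • 1) * (A - c • 1) = 0) :
    ∃ (P : GL (Fin 3) K) (d : Fin 3 → K), A * (P : Matrix (Fin 3) (Fin 3) K) = P * diagonal d ∧
      ∀ i, d i = a ∨ d i = c := by
  have h' : (A - c • 1) * (A - a • 1) = 0 := by
    rw [← h]
    simp only [mul_sub, sub_mul, Matrix.smul_mul, Matrix.mul_smul, Matrix.one_mul, Matrix.mul_one, smul_smul, mul_comm a c]
    abel
  have hs : ⊤ ≤ Submodule.span K {v : Fin 3 → K | A *ᵥ v = a • v ∨ A *ᵥ v = c • v} := by
    intro v _
    have hac' : a - c ≠ 0 := sub_ne_zero.mpr hac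
    have e : v = (a - c)⁻¹ • ((A - c • 1) *ᵥ v) - (a - c)⁻¹ • ((A - a • 1) *ᵥ v) := by
      rw [← smul_sub, ← Matrix.sub_mulVec, sub_sub_sub_cancel_left, ← sub_smul, Matrix.smul_mulVec, Matrix.one_mulVec,
        smul_smul, inv_mul_cancel₀ hac', one_smul]
    rw [e]
    refine Submodule.sub_mem _ (Submodule.smul_mem _ _ (Submodule.subset_span ?_))
      (Submodule.smul_mem _ _ (Submodule.subset_span ?_))
    · left
      have := congrArg (fun M => M *ᵥ v) h
      simp only [← Matrix.mulVec_mulVec, Matrix.zero_mulVec] at this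
      rw [Matrix.sub_mulVec, Matrix.smul_mulVec, Matrix.one_mulVec, sub_eq_zero] at this
      exact this
    · right
      have := congrArg (fun M => M *ᵥ v) h'
      simp only [← Matrix.mulVec_mulVec, Matrix.zero_mulVec] at this
      rw [Matrix.sub_mulVec, Matrix.smul_mulVec, Matrix.one_mulVec, sub_eq_zero] at this
      exact this
  obtain ⟨P, d, hP⟩ := diag_of_span A _ hs (fun v hv => hv.elim (fun h => ⟨a, h⟩) fun h => ⟨c, h⟩)
  refine ⟨P, d, hP, fun i => ?_⟩
  have h0 : ((diagonal d : Matrix (Fin 3) (Fin 3) K) - a • 1) * (diagonal d - c • 1) = 0 := by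
    have e : ∀ x : K, (A - x • 1) * (P : Matrix (Fin 3) (Fin 3) K) = P * (diagonal d - x • 1) := fun x => by
      rw [sub_mul, hP, Matrix.smul_mul, Matrix.one_mul, mul_sub, Matrix.mul_smul, Matrix.mul_one]
    refine (Units.isUnit P).mul_left_cancel ?_
    rw [mul_zero, ← mul_assoc, ← e, mul_assoc, ← e, ← mul_assoc, h, zero_mul]
  have := congrFun (congrFun h0 i) i
  simp [Matrix.smul_one_eq_diagonal, diagonal_sub, diagonal_mul_diagonal] at this
  exact this.imp sub_eq_zero.mp sub_eq_zero.mp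

/-- The invariants of a diagonalisable matrix. -/
theorem diag_invariants {A : Matrix (Fin 3) (Fin 3) K} {P : GL (Fin 3) K} {d : Fin 3 → K}
    (h : A * (P : Matrix (Fin 3) (Fin 3) K) = P * diagonal d) :
    A.trace = d 0 + d 1 + d 2 ∧ (A * A).trace = d 0 ^ 2 + d 1 ^ 2 + d 2 ^ 2 ∧ A.det = d 0 * d 1 * d 2 := by
  have hA : A = (P : Matrix (Fin 3) (Fin 3) K) * diagonal d * ((P⁻¹ : GL (Fin 3) K) : Matrix (Fin 3) (Fin 3) K) := by
    rw [← h, Units.mul_inv_cancel_right]
  have hc : ∀ M : Matrix (Fin 3) (Fin 3) K,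
      ((P : Matrix (Fin 3) (Fin 3) K) * M * ((P⁻¹ : GL (Fin 3) K) : Matrix (Fin 3) (Fin 3) K)).trace = M.trace := fun M => by
    rw [Matrix.trace_mul_comm, Units.inv_mul_cancel_left]
  refine ⟨?_, ?_, ?_⟩
  · rw [hA, hc, Matrix.trace_diagonal, Fin.sum_univ_three]
  · rw [hA, show ∀ M : Matrix (Fin 3) (Fin 3) K, ((P : Matrix (Fin 3) (Fin 3) K) * M * ((P⁻¹ : GL (Fin 3) K) : Matrix _ _ K)) *
      ((P : Matrix (Fin 3) (Fin 3) K) * M * ((P⁻¹ : GL (Fin 3) K) : Matrix _ _ K)) =
      (P : Matrix (Fin 3) (Fin 3) K) * (M * M) * ((P⁻¹ : GL (Fin 3) K) : Matrix _ _ K) from fun M => by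
        simp only [mul_assoc, Units.inv_mul_cancel_left], hc, diagonal_mul_diagonal, Matrix.trace_diagonal, Fin.sum_univ_three]
    ring
  · have := congrArg Matrix.det h
    rw [Matrix.det_mul, Matrix.det_mul, Matrix.det_diagonal, Fin.prod_univ_three, mul_comm] at this
    exact mul_left_cancel₀ (Matrix.isUnits_det_units P).ne_zero this

variable {L : Type v} [Field L]

/-- Over the prime field: distinct values over the closure, or a double value in the field. -/
theorem split_cases (i : K →+* L) [IsAlgClosed L] (h2 : (2 : K) ≠ 0) (a : GL (Fin 3) K) {n : ℕ} (hn : (n : K) ≠ 0)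
    (ha : a ^ n = 1) (hns : ∀ l : K, (a : Matrix (Fin 3) (Fin 3) K) ≠ l • 1) :
    (∃ (P : GL (Fin 3) L) (d : Fin 3 → L), Function.Injective d ∧
      (a : Matrix (Fin 3) (Fin 3) K).map i * (P : Matrix (Fin 3) (Fin 3) L) = P * diagonal d) ∨
    ∃ (Q : GL (Fin 3) K) (α γ : K), α ≠ γ ∧
      (a : Matrix (Fin 3) (Fin 3) K) * (Q : Matrix (Fin 3) (Fin 3) K) = Q * diagonal ![α, α, γ] := by
  set A := (a : Matrix (Fin 3) (Fin 3) K) with hA
  obtain ⟨P, d, hP⟩ := diag_of_order (A.map i) (n := n) (by rw [← map_natCast i]; exact (map_ne_zero i).mpr hn) (by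
    rw [← RingHom.mapMatrix_apply, ← map_pow, hA, ← Units.val_pow_eq_pow_val, ha, Units.val_one, map_one])
  by_cases hinj : Function.Injective d
  · exact Or.inl ⟨P, d, hinj, hP⟩
  right
  obtain ⟨j, k, hjk, hne⟩ : ∃ j k, d j = d k ∧ j ≠ k := by
    simpa [Function.Injective] using hinj
  obtain ⟨α, γ, e1, e2, e3, hroots⟩ : ∃ α γ : L, d 0 + d 1 + d 2 = 2 * α + γ ∧
      d 0 ^ 2 + d 1 ^ 2 + d 2 ^ 2 = 2 * α ^ 2 + γ ^ 2 ∧ d 0 * d 1 * d 2 = α ^ 2 * γ ∧ ∀ l, d l = α ∨ d l = γ := by
    fin_cases j <;> fin_cases k <;> simp at hne hjk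
    · exact ⟨d 0, d 2, by rw [← hjk]; ring, by rw [← hjk]; ring, by rw [← hjk]; ring, fun l => by fin_cases l <;> simp [hjk]⟩
    · exact ⟨d 0, d 1, by rw [← hjk]; ring, by rw [← hjk]; ring, by rw [← hjk]; ring, fun l => by fin_cases l <;> simp [hjk]⟩
    · exact ⟨d 0, d 2, by rw [hjk]; ring, by rw [hjk]; ring, by rw [hjk]; ring, fun l => by fin_cases l <;> simp [hjk]⟩
    · exact ⟨d 1, d 0, by rw [← hjk]; ring, by rw [← hjk]; ring, by rw [← hjk]; ring, fun l => by fin_cases l <;> simp [hjk]⟩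
    · exact ⟨d 0, d 1, by rw [hjk]; ring, by rw [hjk]; ring, by rw [hjk]; ring, fun l => by fin_cases l <;> simp [hjk]⟩
    · exact ⟨d 1, d 0, by rw [hjk]; ring, by rw [hjk]; ring, by rw [hjk]; ring, fun l => by fin_cases l <;> simp [hjk]⟩
  obtain ⟨t1, t2, t3⟩ := diag_invariants hP
  rw [e1] at t1; rw [e2] at t2; rw [e3] at t3
  have ht1 : (A.map i).trace = i A.trace := by simp [Matrix.trace, map_sum]
  have ht2 : (A.map i * A.map i).trace = i (A * A).trace := by
    rw [show A.map i * A.map i = (A * A).map i from (Matrix.map_mul).symm]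
    show (∑ j, i ((A * A) j j)) = _
    rw [← map_sum]; rfl
  have ht3 : (A.map i).det = i A.det := by rw [RingHom.map_det]; rfl
  rw [ht1] at t1; rw [ht2] at t2; rw [ht3] at t3
  have hlift : ∀ M : Matrix (Fin 3) (Fin 3) K, M.map i = 0 → M = 0 := fun M h => by
    ext r s
    exact i.injective ((congrFun (congrFun h r) s).trans (map_zero i).symm)
  have hαγ : α ≠ γ := by
    intro e
    subst e
    have hsc : A.map i = α • 1 := by
      rw [← Units.mul_left_inj P, hP, Matrix.smul_mul, Matrix.one_mul,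
        show (diagonal d : Matrix (Fin 3) (Fin 3) L) = α • 1 by
          rw [Matrix.smul_one_eq_diagonal]; congr 1; funext l; exact (hroots l).elim id id, Matrix.mul_smul, Matrix.mul_one]
    have h00 : i (A 0 0) = α := by simpa using congrFun (congrFun hsc 0) 0
    refine hns (A 0 0) (Matrix.ext fun r s => i.injective ?_)
    have := congrFun (congrFun hsc r) s
    simp only [Matrix.map_apply] at this
    rw [this, Matrix.smul_apply, Matrix.smul_apply, smul_eq_mul, smul_eq_mul, map_mul, h00, Matrix.one_apply,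
      Matrix.one_apply]
    split_ifs <;> simp
  set T := A.trace with hT
  set E := (T ^ 2 - (A * A).trace) / 2 with hE
  have hiE : i E = α ^ 2 + 2 * α * γ := by
    rw [hE, map_div₀, map_sub, map_pow, t1, t2, map_ofNat]
    have : (2 : L) ≠ 0 := by rw [← map_ofNat i 2]; exact (map_ne_zero i).mpr h2
    field_simp
    ring
  have hD : T ^ 2 - 3 * E ≠ 0 := by
    intro h
    have := congrArg i h
    rw [map_sub, map_pow, map_mul, t1, hiE, map_ofNat, map_zero] at this
    exact hαγ (sub_eq_zero.mp (eq_zero_of_pow_eq_zero (n := 2) (by linear_combination this)))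
  set α₀ := (T * E - 9 * A.det) / (2 * (T ^ 2 - 3 * E)) with hα₀
  have hiα : i α₀ = α := by
    rw [hα₀, map_div₀, div_eq_iff ((map_ne_zero i).mpr (mul_ne_zero h2 hD))]
    simp only [map_sub, map_mul, map_pow, map_ofNat, t1, hiE, t3]
    ring
  set γ₀ := T - 2 * α₀ with hγ₀
  have hiγ : i γ₀ = γ := by rw [hγ₀, map_sub, map_mul, map_ofNat, hiα, t1]; ring
  have hne0 : α₀ ≠ γ₀ := fun e => hαγ (by rw [← hiα, ← hiγ, e])
  have hkill : (A - α₀ • 1) * (A - γ₀ • 1) = 0 := by
    refine hlift _ ?_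
    rw [Matrix.map_mul]
    have hm : ∀ x : K, (A - x • 1).map i = A.map i - i x • 1 := fun x => by
      ext r s
      simp [Matrix.one_apply, apply_ite i]
    rw [hm, hm, hiα, hiγ]
    have hshift : ∀ x : L, (A.map i - x • 1) * (P : Matrix (Fin 3) (Fin 3) L) = P * (diagonal d - x • 1) := fun x => by
      rw [sub_mul, hP, Matrix.smul_mul, Matrix.one_mul, mul_sub, Matrix.mul_smul, Matrix.mul_one]
    refine (Units.isUnit P).mul_right_cancel ?_
    rw [zero_mul, mul_assoc, hshift, ← mul_assoc, hshift, mul_assoc]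
    convert mul_zero (P : Matrix (Fin 3) (Fin 3) L)
    rw [Matrix.smul_one_eq_diagonal, Matrix.smul_one_eq_diagonal, diagonal_sub, diagonal_sub, diagonal_mul_diagonal,
      ← diagonal_zero]
    congr 1
    funext l
    rcases hroots l with h | h <;> simp [h]
  obtain ⟨Q, e, hQ, he⟩ := diag_of_two A hne0 hkill
  obtain ⟨s1, -, -⟩ := diag_invariants hQ
  have hTe : e 0 + e 1 + e 2 = 2 * α₀ + γ₀ := by rw [← s1, hγ₀]; ring
  clear_value α₀ γ₀
  obtain ⟨l, hl⟩ : ∃ l : Fin 3, e l = γ₀ := by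
    by_contra hcon
    push Not at hcon
    have h' : ∀ l, e l = α₀ := fun l => (he l).resolve_right (hcon l)
    exact hne0 (by rw [h', h', h'] at hTe; linear_combination hTe)
  have hrest : ∀ m, m ≠ l → e m = α₀ := by
    intro m hm
    refine (he m).resolve_right fun hmγ => ?_
    have h0 := he 0; have h1 := he 1; have h2' := he 2
    fin_cases m <;> fin_cases l <;> simp at hm hl hmγ <;> rw [hl, hmγ] at hTe <;>
      first
      | (rcases h0 with h | h <;> rw [h] at hTe <;> first | exact hne0 (by linear_combination (-1 : K) * hTe) | exact hne0 (mul_left_cancel₀ h2 (by linear_combination (-1 : K) * hTe)))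
      | (rcases h1 with h | h <;> rw [h] at hTe <;> first | exact hne0 (by linear_combination (-1 : K) * hTe) | exact hne0 (mul_left_cancel₀ h2 (by linear_combination (-1 : K) * hTe)))
      | (rcases h2' with h | h <;> rw [h] at hTe <;> first | exact hne0 (by linear_combination (-1 : K) * hTe) | exact hne0 (mul_left_cancel₀ h2 (by linear_combination (-1 : K) * hTe)))
  let σ : Equiv.Perm (Fin 3) := Equiv.swap l 2
  let Pσ : GL (Fin 3) K := ⟨σ.toPEquiv.toMatrix, σ.toPEquiv.toMatrix,
    by rw [← PEquiv.toMatrix_trans, ← Equiv.toPEquiv_trans]; simp [σ, Equiv.swap_swap],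
    by rw [← PEquiv.toMatrix_trans, ← Equiv.toPEquiv_trans]; simp [σ, Equiv.swap_swap]⟩
  refine ⟨Q * Pσ, α₀, γ₀, hne0, ?_⟩
  rw [Units.val_mul, ← mul_assoc, hQ, mul_assoc, mul_assoc]
  congr 1
  ext r s
  rw [Matrix.diagonal_mul, Matrix.mul_diagonal]
  show e r * σ.toPEquiv.toMatrix r s = σ.toPEquiv.toMatrix r s * _
  rw [PEquiv.toMatrix_apply]
  by_cases hrs : σ r = s
  · subst hrs
    simp only [Equiv.toPEquiv_apply, Option.mem_def, if_true, mul_one, one_mul]
    by_cases hr : r = l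
    · subst hr; simp [σ, hl]
    · rw [hrest r hr]
      by_cases hr2 : r = 2
      · subst hr2; fin_cases l <;> simp [σ] at hr ⊢
      · rw [Equiv.swap_apply_of_ne_of_ne hr hr2]
        fin_cases r <;> simp at hr2 ⊢
  · simp [Equiv.toPEquiv_apply, hrs]

/-- A unipotent matrix with non-zero square of the nilpotent part has a Jordan block form. -/
theorem jordan_three (N : Matrix (Fin 3) (Fin 3) K) (hN : IsNilpotent N) (h2 : N * N ≠ 0) :
    ∃ Q : GL (Fin 3) K, N * (Q : Matrix (Fin 3) (Fin 3) K) =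
      (Q : Matrix (Fin 3) (Fin 3) K) * (!![0, 1, 0; 0, 0, 1; 0, 0, 0] : Matrix (Fin 3) (Fin 3) K) := by
  have h3 : N ^ 3 = 0 := by
    obtain ⟨m, hm⟩ := hN
    have h := (LinearMap.charpoly_eq_X_pow_iff (Matrix.toLin' N)).mpr fun v => ⟨m, by
      rw [← Matrix.toLin'_pow, hm, map_zero]; rfl⟩
    have h' := LinearMap.aeval_self_charpoly (Matrix.toLin' N)
    rw [h, map_pow, Polynomial.aeval_X, Module.finrank_fin_fun, ← Matrix.toLin'_pow] at h'
    exact Matrix.toLin'.injective (h'.trans (map_zero _).symm)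
  obtain ⟨v, hv⟩ : ∃ v, (N * N) *ᵥ v ≠ 0 := by
    by_contra hc
    push Not at hc
    exact h2 (Matrix.ext_of_mulVec_single fun l => by rw [hc, Matrix.zero_mulVec])
  let P : Matrix (Fin 3) (Fin 3) K := Matrix.of fun r s => ![(N * N) *ᵥ v, N *ᵥ v, v] s r
  have hN3 : N *ᵥ ((N * N) *ᵥ v) = 0 := by
    rw [Matrix.mulVec_mulVec, ← mul_assoc, show N * N * N = N ^ 3 by rw [pow_succ, pow_two], h3, Matrix.zero_mulVec]
  have hcol : ∀ x : Fin 3 → K, P *ᵥ x = x 0 • ((N * N) *ᵥ v) + x 1 • (N *ᵥ v) + x 2 • v := fun x => by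
    funext o
    simp [P, Matrix.mulVec, dotProduct, Fin.sum_univ_three]
    ring
  have hinj : Function.Injective P.mulVec := by
    intro x y hxy
    have h0 : P *ᵥ (x - y) = 0 := by rw [Matrix.mulVec_sub]; exact sub_eq_zero.mpr hxy
    rw [hcol] at h0
    have hnn : N *ᵥ (N *ᵥ v) = (N * N) *ᵥ v := Matrix.mulVec_mulVec v N N
    have h1 := congrArg (fun w => N *ᵥ w) h0
    simp only [Matrix.mulVec_add, Matrix.mulVec_smul, hN3, hnn, smul_zero, zero_add, Matrix.mulVec_zero] at h1
    have h2' := congrArg (fun w => N *ᵥ w) h1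
    simp only [Matrix.mulVec_add, Matrix.mulVec_smul, hN3, hnn, smul_zero, zero_add, Matrix.mulVec_zero] at h2'
    have z2 := (smul_eq_zero.mp h2').resolve_right hv
    rw [z2, zero_smul, add_zero] at h1
    have z1 := (smul_eq_zero.mp h1).resolve_right hv
    rw [z2, z1, zero_smul, zero_smul, add_zero, add_zero] at h0
    have z0 := (smul_eq_zero.mp h0).resolve_right hv
    funext l
    refine sub_eq_zero.mp ?_
    fin_cases l
    exacts [z0, z1, z2]
  obtain ⟨Q, hQ⟩ := Matrix.mulVec_injective_iff_isUnit.mp hinj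
  refine ⟨Q, ?_⟩
  rw [hQ]
  refine Matrix.ext_of_mulVec_single fun l => ?_
  rw [← Matrix.mulVec_mulVec, ← Matrix.mulVec_mulVec, hcol, hcol]
  fin_cases l <;> simp [Matrix.mulVec_single, Matrix.mulVec_add, Matrix.mulVec_smul, hN3, Matrix.mulVec_mulVec]

end Cfsg.Lib.Classical.SLThree
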