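import Mathlib
import Cfsg.Agent.Classical.Misc.ExtraThree
import Cfsg.Agent.Classical.SLThree.SymBlock

/-! Homologies in overgroups of `3^{1+2} : Q₈` in `SL₃(p)` without elations. -/

set_option autoImplicit false
set_option linter.unusedSimpArgs false
set_option linter.unusedSectionVars false
set_option linter.style.haveILetI false

namespace Cfsg.Lib.Classical.SLThree

open Matrix LinOne
open scoped MatrixGroups
open Cfsg.Lib.Classical.ExtraThree (dA mB root_pow root_ne)

universe u

variable {F : Type u} [Field F]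

local notation "MM" => Matrix (Fin 3) (Fin 3) F
local notation "GG" => GL (Fin 3) F

/-- The inverting involution. -/
def tM : Matrix (Fin 3) (Fin 3) F := !![-1, 0, 0; 0, 0, -1; 0, -1, 0]

/-- The Fourier matrix. -/
def fM (ω : F) : Matrix (Fin 3) (Fin 3) F := (1 + 2 * ω)⁻¹ • !![1, 1, 1; 1, ω, ω ^ 2; 1, ω ^ 2, ω]

/-- A conjugate of the Fourier matrix. -/
def gM (ω : F) : Matrix (Fin 3) (Fin 3) F :=
  (1 + 2 * ω)⁻¹ • !![1, ω ^ 2, ω ^ 2; ω, ω, ω ^ 2; ω, ω ^ 2, ω]

/-- Membership of a matrix. -/
def InK (X : Subgroup (GL (Fin 3) F)) (M : Matrix (Fin 3) (Fin 3) F) : Prop :=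
  ∃ g ∈ X, (g : Matrix (Fin 3) (Fin 3) F) = M

theorem InK.mul {X : Subgroup GG} {M N : MM} (h : InK X M) (h' : InK X N) : InK X (M * N) := by
  obtain ⟨g, hg, rfl⟩ := h
  obtain ⟨g', hg', rfl⟩ := h'
  exact ⟨g * g', X.mul_mem hg hg', Units.val_mul g g'⟩

/-- An overgroup of `3^{1+2} : Q₈` in standard coordinates. -/
structure Over [Fintype F] (p : ℕ) (ω : F) (X : Subgroup (GL (Fin 3) F)) : Prop where
  prime : p.Prime
  card : Fintype.card F = p
  p3 : p % 3 = 1
  det : ∀ g ∈ X, (g : Matrix (Fin 3) (Fin 3) F).det = 1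
  noel : NoEl X
  root : ω ^ 2 + ω + 1 = 0
  memA : InK X (dA ω)
  memB : InK X mB
  memC : InK X (ω • 1)
  memT : InK X tM
  memF : InK X (fM ω)
  memG : InK X (gM ω)

variable [Fintype F] {p : ℕ} {ω : F} {X : Subgroup (GL (Fin 3) F)}

theorem Over.num (O : Over p ω X) {n : ℕ} (h : ¬ p ∣ n) : (n : F) ≠ 0 := by
  haveI : Fact p.Prime := ⟨O.prime⟩
  haveI : CharP F p := charP_of_card_eq_prime O.card
  exact fun e => h ((CharP.cast_eq_zero_iff F p n).mp e)

/-- Primes not congruent to one modulo three do not vanish. -/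
theorem Over.numq (O : Over p ω X) {n : ℕ} (hn : n.Prime) (h3 : n % 3 ≠ 1) : (n : F) ≠ 0 :=
  O.num fun h => h3 (((Nat.prime_dvd_prime_iff_eq O.prime hn).mp h) ▸ O.p3)

theorem Over.two (O : Over p ω X) : (2 : F) ≠ 0 := by exact_mod_cast O.numq Nat.prime_two (by norm_num)

theorem Over.three (O : Over p ω X) : (3 : F) ≠ 0 := by exact_mod_cast O.numq Nat.prime_three (by norm_num)

theorem Over.five (O : Over p ω X) : (5 : F) ≠ 0 := by exact_mod_cast O.numq (n := 5) (by norm_num) (by norm_num)

theorem Over.root_sq (O : Over p ω X) : (1 + 2 * ω) ^ 2 = -3 := by linear_combination 4 * O.root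

theorem Over.theta (O : Over p ω X) : 1 + 2 * ω ≠ 0 := fun e => O.three (by
  linear_combination O.root_sq - (1 + 2 * ω) * e)

theorem Over.pow_card (O : Over p ω X) {a : F} (ha : a ≠ 0) : a ^ (p - 1) = 1 := by
  rw [← O.card]; exact FiniteField.pow_card_sub_one_eq_one a ha

/-- The order of a ratio. -/
theorem order_ratio {h2 : (2 : F) ≠ 0} {x : (Blk : Subgroup GG)} {a b : F} (hb : b ≠ 0)
    (h : ∀ k : ℕ, Scal ((x ^ k : (Blk : Subgroup GG)) : GG) ↔ a ^ k = b ^ k) :
    orderOf (pr h2 x) = orderOf (a / b) := by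
  rw [orderOf_eq_orderOf_iff]
  intro k
  rw [← map_pow, pr_eq_one, h, div_pow, div_eq_one_iff_eq (pow_ne_zero k hb)]

/-- The possible traces of a product of two conjugate elements of the same order. -/
theorem pair_cases (h2 : (2 : F) ≠ 0) {K : Subgroup GG} (S : Shape (img h2 K)) {x y : (Blk : Subgroup GG)}
    (hx : (x : GG) ∈ K) (hy : (y : GG) ∈ K) {r : ℕ} (hr : orderOf (pr h2 x) = r) (hr' : orderOf (pr h2 y) = r)
    (h3 : 3 ≤ r) (hnc : pr h2 x * pr h2 y ≠ pr h2 y * pr h2 x) {s T : F} (hd : d2 ((x * y : (Blk : Subgroup GG)) : GG) = s ^ 2)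
    (hs : s ≠ 0) (hns : ¬ Scal ((x * y : (Blk : Subgroup GG)) : GG))
    (hT : tr2 ((x * y : (Blk : Subgroup GG)) : GG) = T * s) :
    ((r = 3 ∨ r = 4) ∧ (T = 0 ∨ T ^ 2 = 1 ∨ T ^ 2 = 2)) ∨
    ((r = 3 ∨ r = 5) ∧ (T = 0 ∨ T ^ 2 = 1 ∨ T ^ 4 - 3 * T ^ 2 + 1 = 0)) := by
  haveI := finite_img h2 K
  let X' : img h2 K := ⟨pr h2 x, mem_img h2 K hx x.2⟩
  let Y' : img h2 K := ⟨pr h2 y, mem_img h2 K hy y.2⟩
  have hX : orderOf X' = r := by rw [← Subgroup.orderOf_coe]; exact hr
  have hY : orderOf Y' = r := by rw [← Subgroup.orderOf_coe]; exact hr'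
  have hW : orderOf (X' * Y') = orderOf (pr h2 (x * y)) := by rw [← Subgroup.orderOf_coe, map_mul]; rfl
  have hw1 : orderOf (pr h2 (x * y)) ≠ 1 := fun e => hns ((pr_eq_one h2).mp (orderOf_eq_one_iff.mp e))
  obtain ⟨o2, o3, o4, o5⟩ := pr_order h2 (g := x * y)
  have k2 : orderOf (pr h2 (x * y)) = 2 → T = 0 := fun e => by
    have := o2 e
    rw [hT] at this
    exact (mul_eq_zero.mp this).resolve_right hs
  have k3 : orderOf (pr h2 (x * y)) = 3 → T ^ 2 = 1 := fun e => by
    have := o3 e
    rw [hT, hd] at this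
    exact mul_right_cancel₀ (pow_ne_zero 2 hs) (show T ^ 2 * s ^ 2 = 1 * s ^ 2 by linear_combination this)
  have k4 : orderOf (pr h2 (x * y)) = 4 → T ^ 2 = 2 := fun e => by
    have := o4 e
    rw [hT, hd] at this
    exact mul_right_cancel₀ (pow_ne_zero 2 hs) (show T ^ 2 * s ^ 2 = 2 * s ^ 2 by linear_combination this)
  have k5 : orderOf (pr h2 (x * y)) = 5 → T ^ 4 - 3 * T ^ 2 + 1 = 0 := fun e => by
    have := o5 e
    rw [hT, hd] at this
    exact (mul_eq_zero.mp (show (T ^ 4 - 3 * T ^ 2 + 1) * s ^ 4 = 0 by linear_combination this)).resolve_right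
      (pow_ne_zero 4 hs)
  rcases S.orders with h | h | ⟨h, -⟩
  · exact absurd (congrArg Subtype.val (h X' Y' (by omega) (by omega))) hnc
  · left
    have a := h X'
    have b := h (X' * Y')
    refine ⟨by omega, ?_⟩
    rw [hW] at b
    rcases b with b | b | b | b
    · exact absurd b hw1
    · exact Or.inl (k2 b)
    · exact Or.inr (Or.inl (k3 b))
    · exact Or.inr (Or.inr (k4 b))
  · right
    have a := h X'
    have b := h (X' * Y')
    refine ⟨by omega, ?_⟩
    rw [hW] at b
    rcases b with b | b | b | b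
    · exact absurd b hw1
    · exact Or.inl (k2 b)
    · exact Or.inr (Or.inl (k3 b))
    · exact Or.inr (Or.inr (k5 b))

theorem order_ge_three {μ : F} (h0 : μ ≠ 0) (h1 : μ ≠ 1) (h2 : μ ≠ -1) : 3 ≤ orderOf μ := by
  have hf : 0 < orderOf μ := (isOfFinOrder_iff_pow_eq_one.mpr ⟨Fintype.card F - 1,
    by have := Fintype.one_lt_card (α := F); omega, FiniteField.pow_card_sub_one_eq_one μ h0⟩).orderOf_pos
  by_contra hlt
  have hp := pow_orderOf_eq_one μ
  interval_cases ho : orderOf μ
  · exact h1 (by simpa using hp)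
  · exact h2 ((sq_eq_one_iff.mp hp).resolve_left h1)

/-- Homologies with the special centre and axis have trivial ratio up to sign. -/
theorem Over.homology_pm (O : Over p ω X) {g : GG} (hg : g ∈ X) {a m n : F}
    (hgM : (g : MM) = !![a, 0, 0; 0, m, n; 0, n, m]) (hmn : m + n = a) : a ^ 3 = 1 ∨ a ^ 3 = -1 := by
  classical
  haveI : Fact p.Prime := ⟨O.prime⟩
  haveI : CharP F p := charP_of_card_eq_prime O.card
  have hw := O.root
  have hw3 := root_pow hw
  have hdet : a * ((m + n) * (m - n)) = 1 := by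
    have := O.det g hg
    rw [hgM, Matrix.det_fin_three] at this
    simp at this
    linear_combination this
  have ha : a ≠ 0 := left_ne_zero_of_mul_eq_one hdet
  set β := m - n with hβdef
  have hβ : a ^ 2 * β = 1 := by linear_combination hdet - a * β * hmn
  have hβ0 : β ≠ 0 := right_ne_zero_of_mul_eq_one hβ
  set μ := a / β with hμdef
  have hμa : μ = a ^ 3 := by rw [hμdef, div_eq_iff hβ0]; linear_combination -(a * hβ)
  have hμ0 : μ ≠ 0 := by rw [hμa]; exact pow_ne_zero 3 ha
  by_contra hcon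
  push Not at hcon
  have hμ1 : μ ≠ 1 := hμa ▸ hcon.1
  have hμ2 : μ ≠ -1 := hμa ▸ hcon.2
  obtain ⟨bB, hbB, hbBv⟩ := O.memB
  obtain ⟨bA, hbA, hbAv⟩ := O.memA
  have hh : InK X !![m, n, 0; n, m, 0; 0, 0, a] := by
    refine ⟨bB⁻¹ * g * bB, X.mul_mem (X.mul_mem (X.inv_mem hbB) hg) hbB, ?_⟩
    refine (Units.isUnit bB).mul_left_cancel ?_
    rw [← Units.val_mul, show bB * (bB⁻¹ * g * bB) = g * bB by group, Units.val_mul, hbBv, hgM]
    ext i j
    fin_cases i <;> fin_cases j <;> simp [mB, Matrix.mul_apply, Fin.sum_univ_three]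
  obtain ⟨h, hhX, hhv⟩ := hh
  have hbAblk : bA ∈ Blk := (mem_blk O.two).mpr (by simp [hbAv, dA])
  have hhblk : h ∈ Blk := (mem_blk O.two).mpr (by simp [hhv])
  -- conjugate by the scaled diagonal element
  set k := bA * h * bA⁻¹ with hk
  have hkX : k ∈ X := X.mul_mem (X.mul_mem hbA hhX) (X.inv_mem hbA)
  have hkblk : k ∈ Blk := Blk.mul_mem (Blk.mul_mem hbAblk hhblk) (Blk.inv_mem hbAblk)
  have hkv : (k : MM) = !![m, ω ^ 2 * n, 0; ω * n, m, 0; 0, 0, a] := by
    refine (Units.isUnit bA).mul_right_cancel ?_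
    rw [← Units.val_mul, hk, inv_mul_cancel_right, Units.val_mul, hhv, hbAv]
    ext i j
    fin_cases i <;> fin_cases j <;>
      simp [dA, Matrix.mul_apply, Fin.sum_univ_three, Matrix.diagonal] <;>
      first | ring1 | linear_combination (-n) * hw3 | linear_combination n * hw3
  let x : (Blk : Subgroup GG) := ⟨h, hhblk⟩
  let y : (Blk : Subgroup GG) := ⟨k, hkblk⟩
  have hpow : ∀ j : ℕ, ∃ M' N' L' : F, (((x ^ j : (Blk : Subgroup GG)) : GG) : MM) = !![M', N', 0; N', M', 0; 0, 0, L'] ∧
      M' + N' = a ^ j ∧ M' - N' = β ^ j := by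
    intro j
    induction j with
    | zero => exact ⟨1, 0, 1, by rw [pow_zero]; ext i j; fin_cases i <;> fin_cases j <;> simp, by simp, by simp⟩
    | succ j ih =>
      obtain ⟨M', N', L', e, e1, e2⟩ := ih
      refine ⟨M' * m + N' * n, M' * n + N' * m, L' * a, ?_, ?_, ?_⟩
      · rw [pow_succ]
        show (((x ^ j : (Blk : Subgroup GG)) : GG) : MM) * (h : MM) = _
        rw [e, hhv]
        ext i j
        fin_cases i <;> fin_cases j <;> simp [Matrix.mul_apply, Fin.sum_univ_three] <;> ring
      · rw [pow_succ, ← e1]; linear_combination (M' + N') * hmn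
      · rw [pow_succ, ← e2, hβdef]; ring
  have hr : orderOf (pr O.two x) = orderOf μ := order_ratio hβ0 fun j => by
    obtain ⟨M', N', L', e, e1, e2⟩ := hpow j
    simp only [Scal, e]
    simp
    constructor
    · intro h; linear_combination -e1 + e2 + 2 * h
    · intro h
      exact (mul_eq_zero.mp (show 2 * N' = 0 by linear_combination e1 - e2 + h)).resolve_left O.two
  have hr' : orderOf (pr O.two y) = orderOf μ := by
    rw [show y = ⟨bA, hbAblk⟩ * x * (⟨bA, hbAblk⟩ : (Blk : Subgroup GG))⁻¹ from rfl, map_mul, map_mul, map_inv,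
      ← MulAut.conj_apply, MulEquiv.orderOf_eq, hr]
  have h3 := order_ge_three hμ0 hμ1 hμ2
  have hm0 : m ≠ 0 := fun e => hμ2 (by
    rw [hμdef, div_eq_iff hβ0, hβdef, e]; linear_combination -hmn + e)
  have hn0 : n ≠ 0 := fun e => hμ1 (by
    rw [hμdef, div_eq_iff hβ0, hβdef, e]; linear_combination -hmn + e)
  have hmn' : m * n * (1 + ω ^ 2) ≠ 0 := by
    refine mul_ne_zero (mul_ne_zero hm0 hn0) fun e => ?_
    have : ω = 0 := by linear_combination hw - e
    rw [this] at hw; simp at hw
  have hxy : (((x * y : (Blk : Subgroup GG)) : GG) : MM) =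
      !![m * m + ω * n * n, m * n * (1 + ω ^ 2), 0; m * n * (1 + ω), m * m + ω ^ 2 * n * n, 0; 0, 0, a * a] := by
    show (h : MM) * (k : MM) = _
    rw [hhv, hkv]
    ext i j
    fin_cases i <;> fin_cases j <;> simp [Matrix.mul_apply, Fin.sum_univ_three] <;> ring
  have hyx : (((y * x : (Blk : Subgroup GG)) : GG) : MM) =
      !![m * m + ω ^ 2 * n * n, m * n * (1 + ω ^ 2), 0; m * n * (1 + ω), m * m + ω * n * n, 0; 0, 0, a * a] := by
    show (k : MM) * (h : MM) = _
    rw [hhv, hkv]
    ext i j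
    fin_cases i <;> fin_cases j <;> simp [Matrix.mul_apply, Fin.sum_univ_three] <;> ring
  have hnc : pr O.two x * pr O.two y ≠ pr O.two y * pr O.two x := by
    rw [← map_mul, ← map_mul]
    intro e
    obtain ⟨ε, -, he⟩ := pr_eq O.two e (by
      rw [Subgroup.coe_mul, Subgroup.coe_mul, d2_mul O.two x.2 y.2, d2_mul O.two y.2 x.2, mul_comm])
    have e01 := he 0 1
    have e00 := he 0 0
    simp only [Fin.castSucc_zero, Fin.castSucc_one, hxy, hyx] at e01 e00
    simp at e01 e00
    have hε : ε = 1 := mul_right_cancel₀ hmn' (by linear_combination -e01)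
    rw [hε] at e00
    have hwd : ω - ω ^ 2 ≠ 0 := fun e => O.theta (by linear_combination e + hw)
    refine hn0 (eq_zero_of_pow_eq_zero (n := 2) ((mul_eq_zero.mp
      (show n ^ 2 * (ω - ω ^ 2) = 0 by linear_combination e00)).resolve_right hwd))
  have hns : ¬ Scal ((x * y : (Blk : Subgroup GG)) : GG) := fun hS => hmn' (by
    have := hS.1; rw [hxy] at this; simpa using this)
  have h4 : (4 : F) ≠ 0 := by
    rw [show (4 : F) = 2 * 2 by norm_num]; exact mul_ne_zero O.two O.two
  have hd : d2 ((x * y : (Blk : Subgroup GG)) : GG) = (a * β) ^ 2 := by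
    rw [d2, hxy]
    simp
    have e1 : a = m + n := hmn.symm
    rw [e1, hβdef]
    linear_combination (n * n * n * n - m * m * n * n) * hw3
  set X₀ := μ + μ⁻¹ with hX₀
  have hT : tr2 ((x * y : (Blk : Subgroup GG)) : GG) = ((X₀ + 6) / 4) * (a * β) := by
    rw [tr2, hxy, hX₀, hμdef, inv_div]
    simp
    field_simp
    have e1 : a = m + n := hmn.symm
    rw [e1, hβdef]
    linear_combination (4 * n * n) * hw
  have hXm : X₀ * μ = μ ^ 2 + 1 := by rw [hX₀]; field_simp
  have hord := pow_orderOf_eq_one μ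
  have hT4 : 4 * ((X₀ + 6) / 4) = X₀ + 6 := mul_div_cancel₀ _ h4
  generalize hTdef : (X₀ + 6) / 4 = T at hT hT4
  have hp18 := O.pow_card hμ0
  rcases pair_cases O.two (img_shape O.two X (p := p) O.noel) (x := x) (y := y) hhX hkX hr hr' h3 hnc hd
      (mul_ne_zero ha hβ0) hns hT with ⟨hr3, hTc⟩ | ⟨hr3, hTc⟩
  · rcases hr3 with e | e <;> rw [e] at hord
    · have hX : X₀ = -1 := by
        have : μ ^ 2 + μ + 1 = 0 := (mul_eq_zero.mp
          (show (μ - 1) * (μ ^ 2 + μ + 1) = 0 by linear_combination hord)).resolve_left (sub_ne_zero.mpr hμ1)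
        exact mul_right_cancel₀ hμ0 (by linear_combination hXm + this)
      rw [hX] at hT4
      have h7 : (7 : F) ≠ 0 := fun e7 => by
        have h7' : p = 7 := by
          by_contra hne
          exact O.num (n := 7) (fun h => hne ((Nat.prime_dvd_prime_iff_eq O.prime (by norm_num)).mp h)) (by exact_mod_cast e7)
        have h6 := O.pow_card ha
        rw [h7'] at h6
        norm_num at h6
        rcases sq_eq_one_iff.mp (show (a ^ 3) ^ 2 = 1 by linear_combination h6) with h | h
        · exact hcon.1 h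
        · exact hcon.2 h
      rcases hTc with e' | e' | e'
      · exact O.five (by rw [e'] at hT4; linear_combination -hT4)
      · exact pow_ne_zero 2 O.three (by linear_combination -(4 * T + 5) * hT4 + 16 * e')
      · exact h7 (by linear_combination (4 * T + 5) * hT4 - 16 * e')
    · have : μ ^ 2 = -1 := (mul_eq_zero.mp (show (μ ^ 2 - 1) * (μ ^ 2 + 1) = 0 by linear_combination hord)).elim
        (fun h => absurd (sq_eq_one_iff.mp (sub_eq_zero.mp h)) (by simp [hμ1, hμ2]))
        eq_neg_of_add_eq_zero_left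
      have hX : X₀ = 0 := mul_right_cancel₀ hμ0 (by linear_combination hXm + this)
      rw [hX, zero_add] at hT4
      rcases hTc with e' | e' | e'
      · exact mul_ne_zero O.two O.three (by rw [e'] at hT4; linear_combination -hT4)
      · exact mul_ne_zero O.five h4 (by linear_combination -(4 * T + 6) * hT4 + 16 * e')
      · exact h4 (by linear_combination -(4 * T + 6) * hT4 + 16 * e')
  · rcases hr3 with e | e <;> rw [e] at hord
    · have hX : X₀ = -1 := by
        have : μ ^ 2 + μ + 1 = 0 := (mul_eq_zero.mp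
          (show (μ - 1) * (μ ^ 2 + μ + 1) = 0 by linear_combination hord)).resolve_left (sub_ne_zero.mpr hμ1)
        exact mul_right_cancel₀ hμ0 (by linear_combination hXm + this)
      rw [hX] at hT4
      rcases hTc with e' | e' | e'
      · exact O.five (by rw [e'] at hT4; linear_combination -hT4)
      · exact pow_ne_zero 2 O.three (by linear_combination -(4 * T + 5) * hT4 + 16 * e')
      · have h319 : ((11 : ℕ) : F) * ((29 : ℕ) : F) ≠ 0 :=
          mul_ne_zero (O.numq (by norm_num) (by norm_num)) (O.numq (by norm_num) (by norm_num))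
        exact h319 (by push_cast; linear_combination (4 * T + 5) * (16 * T ^ 2 + 25 - 48) * hT4 - 256 * e')
    · have : μ ^ 4 + μ ^ 3 + μ ^ 2 + μ + 1 = 0 := (mul_eq_zero.mp
          (show (μ - 1) * (μ ^ 4 + μ ^ 3 + μ ^ 2 + μ + 1) = 0 by linear_combination hord)).resolve_left
            (sub_ne_zero.mpr hμ1)
      have hX : X₀ ^ 2 + X₀ - 1 = 0 := mul_right_cancel₀ (pow_ne_zero 2 hμ0)
        (by linear_combination (X₀ * μ + μ ^ 2 + 1 + μ) * hXm + this)
      rcases hTc with e' | e' | e'
      · refine O.numq (n := 29) (by norm_num) (by norm_num) ?_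
        push_cast
        have hX' : X₀ = -6 := by rw [e'] at hT4; linear_combination -hT4
        rw [hX'] at hX
        linear_combination hX
      · rcases sq_eq_one_iff.mp e' with e'' | e''
        · have hX' : X₀ = -2 := by rw [e''] at hT4; linear_combination -hT4
          rw [hX'] at hX
          exact one_ne_zero (by linear_combination hX)
        · refine O.numq (n := 89) (by norm_num) (by norm_num) ?_
          push_cast
          have hX' : X₀ = -10 := by rw [e''] at hT4; linear_combination -hT4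
          rw [hX'] at hX
          linear_combination hX
      · rcases mul_eq_zero.mp (show (T ^ 2 + T - 1) * (T ^ 2 - T - 1) = 0 by linear_combination e') with e'' | e''
        · have hl : 15 * (X₀ + 3) = 0 := by
            linear_combination 16 * e'' - (4 * T + X₀ + 10) * hT4 - hX
          have hX' : X₀ = -3 := eq_neg_of_add_eq_zero_left ((mul_eq_zero.mp hl).resolve_left (by
            rw [show (15 : F) = 3 * 5 by norm_num]; exact mul_ne_zero O.three O.five))
          rw [hX'] at hX
          exact O.five (by linear_combination hX)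
        · have hl : 7 * X₀ - 3 = 0 := by
            linear_combination 16 * e'' - (4 * T + X₀ + 2) * hT4 - hX
          have h19 : (19 : F) = 0 := by linear_combination (7 * X₀ + 10) * hl - 49 * hX
          have h19' : p = 19 := by
            by_contra hne
            exact O.num (n := 19) (fun h => hne ((Nat.prime_dvd_prime_iff_eq O.prime (by norm_num)).mp h)) (by exact_mod_cast h19)
          rw [h19'] at hp18
          norm_num at hp18
          exact hμ1 (by
            have h1 : μ ^ 18 = μ ^ 3 := by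
              rw [show 18 = 5 * 3 + 3 from rfl, pow_add, pow_mul, hord, one_pow, one_mul]
            have h3' : μ ^ 3 = 1 := h1.symm.trans hp18
            linear_combination (μ ^ 3 + 1) * h3' - μ * hord)

end Cfsg.Lib.Classical.SLThree
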