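import Mathlib
import Cfsg.Agent.Classical.SLThree.SymHom

/-! The centraliser of a non-central element of `3^{1+2}`. -/

set_option autoImplicit false
set_option linter.unusedSimpArgs false
set_option linter.unusedSectionVars false
set_option linter.style.haveILetI false

namespace Cfsg.Lib.Classical.SLThree

open Matrix LinOne
open scoped MatrixGroups
open Cfsg.Lib.Classical.ExtraThree (dA mB root_pow root_ne cube_cases)

universe u

variable {F : Type u} [Field F]

local notation "MM" => Matrix (Fin 3) (Fin 3) F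
local notation "GG" => GL (Fin 3) F

/-- Eigenvectors of the inverting involution. -/
def qM : Matrix (Fin 3) (Fin 3) F := !![1, 0, 0; 0, 1, 1; 0, 1, -1]

/-- The Fourier matrix in these coordinates. -/
def fQ (ω : F) : Matrix (Fin 3) (Fin 3) F :=
  !![(1 + 2 * ω)⁻¹, 2 * (1 + 2 * ω)⁻¹, 0; (1 + 2 * ω)⁻¹, -(1 + 2 * ω)⁻¹, 0; 0, 0, 1]

/-- The conjugate Fourier matrix in these coordinates. -/
def gQ (ω : F) : Matrix (Fin 3) (Fin 3) F :=
  !![(1 + 2 * ω)⁻¹, 2 * ω ^ 2 * (1 + 2 * ω)⁻¹, 0; ω * (1 + 2 * ω)⁻¹, -(1 + 2 * ω)⁻¹, 0; 0, 0, 1]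

theorem qM_det : (qM : MM).det = -2 := by
  rw [qM, Matrix.det_fin_three]; simp; norm_num

/-- The change of coordinates. -/
def qGL (h2 : (2 : F) ≠ 0) : GL (Fin 3) F :=
  Matrix.GeneralLinearGroup.mkOfDetNeZero qM (by rw [qM_det]; exact neg_ne_zero.mpr h2)

/-- The group in the new coordinates. -/
def Xq (h2 : (2 : F) ≠ 0) (X : Subgroup (GL (Fin 3) F)) : Subgroup (GL (Fin 3) F) :=
  X.comap (MulAut.conj (qGL h2)).toMonoidHom

theorem InK.toQ {h2 : (2 : F) ≠ 0} {X : Subgroup GG} {M N : MM} (h : InK X M) (e : M * qM = qM * N) :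
    InK (Xq h2 X) N := by
  obtain ⟨g, hg, rfl⟩ := h
  refine ⟨(qGL h2)⁻¹ * g * qGL h2, ?_, ?_⟩
  · show qGL h2 * ((qGL h2)⁻¹ * g * qGL h2) * (qGL h2)⁻¹ ∈ X
    rwa [show qGL h2 * ((qGL h2)⁻¹ * g * qGL h2) * (qGL h2)⁻¹ = g by group]
  · refine (Units.isUnit (qGL h2)).mul_left_cancel ?_
    rw [← Units.val_mul, show qGL h2 * ((qGL h2)⁻¹ * g * qGL h2) = g * qGL h2 by group, Units.val_mul]
    exact e

variable [Fintype F] {p : ℕ} {ω : F} {X : Subgroup (GL (Fin 3) F)}

theorem Over.shapeQ (O : Over p ω X) : Shape (img O.two (Xq O.two X)) := by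
  haveI : Fact p.Prime := ⟨O.prime⟩
  haveI : CharP F p := charP_of_card_eq_prime O.card
  exact img_shape O.two _ (p := p) (O.noel.conj _)

theorem Over.detQ (O : Over p ω X) {g : GG} (hg : g ∈ Xq O.two X) : (g : MM).det = 1 := by
  have h : ((qGL O.two * g * (qGL O.two)⁻¹ : GG) : MM).det = 1 := O.det _ hg
  rwa [Units.val_mul, Units.val_mul, Matrix.det_mul, Matrix.det_mul, mul_right_comm, ← Matrix.det_mul,
    ← Units.val_mul, mul_inv_cancel, Units.val_one, Matrix.det_one, one_mul] at h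

theorem Over.memFq (O : Over p ω X) : InK (Xq O.two X) (fQ ω) := by
  refine O.memF.toQ ?_
  have hw := O.root
  have hθ := O.theta
  rw [fM, fQ, qM, smul_mul_assoc]
  ext i j
  fin_cases i <;> fin_cases j <;> simp [Matrix.mul_apply, Fin.sum_univ_three] <;> field_simp <;>
    first | ring1 | linear_combination hw | linear_combination -hw

theorem Over.memGq (O : Over p ω X) : InK (Xq O.two X) (gQ ω) := by
  refine O.memG.toQ ?_
  have hw := O.root
  have hθ := O.theta
  rw [gM, gQ, qM, smul_mul_assoc]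
  ext i j
  fin_cases i <;> fin_cases j <;> simp [Matrix.mul_apply, Fin.sum_univ_three] <;> field_simp <;>
    first | ring1 | linear_combination hw | linear_combination -hw

theorem Over.fq_ne (O : Over p ω X) :
    (1 + 2 * ω)⁻¹ ≠ 0 ∧ ((1 + 2 * ω)⁻¹ : F) ^ 2 = -3⁻¹ ∧ ω ≠ 0 := by
  refine ⟨inv_ne_zero O.theta, by rw [inv_pow, O.root_sq, inv_neg], fun e => ?_⟩
  have := O.root
  rw [e] at this
  simp at this

/-- The two quaternion generators, in the new coordinates. -/
theorem Over.quat (O : Over p ω X) : ∃ f g : (Blk : Subgroup GG), (f : GG) ∈ Xq O.two X ∧ (g : GG) ∈ Xq O.two X ∧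
    ((f : GG) : MM) = fQ ω ∧ ((g : GG) : MM) = gQ ω ∧
    pr O.two f * pr O.two f = 1 ∧ pr O.two g * pr O.two g = 1 ∧ pr O.two f * pr O.two g = pr O.two g * pr O.two f ∧
    pr O.two f ≠ 1 ∧ pr O.two g ≠ 1 ∧ pr O.two f ≠ pr O.two g := by
  obtain ⟨f, hf, hfv⟩ := O.memFq
  obtain ⟨g, hg, hgv⟩ := O.memGq
  obtain ⟨hθ, hθ2, hω⟩ := O.fq_ne
  set i₀ := (1 + 2 * ω)⁻¹ with hi
  have hfb : f ∈ Blk := (mem_blk O.two).mpr (by simp [hfv, fQ])
  have hgb : g ∈ Blk := (mem_blk O.two).mpr (by simp [hgv, gQ])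
  have hw := O.root
  have hw3 := root_pow hw
  have h1 : pr O.two ⟨f, hfb⟩ * pr O.two ⟨f, hfb⟩ = 1 := by
    rw [← map_mul, pr_eq_one]
    simp only [Scal, Subgroup.coe_mul, Units.val_mul, hfv, fQ, ← hi]
    refine ⟨?_, ?_, ?_⟩ <;> simp [Matrix.mul_apply, Fin.sum_univ_three] <;> ring
  have h2 : pr O.two ⟨g, hgb⟩ * pr O.two ⟨g, hgb⟩ = 1 := by
    rw [← map_mul, pr_eq_one]
    simp only [Scal, Subgroup.coe_mul, Units.val_mul, hgv, gQ, ← hi]
    refine ⟨?_, ?_, ?_⟩ <;> simp [Matrix.mul_apply, Fin.sum_univ_three] <;> ring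
  have h12 : (pr O.two ⟨f, hfb⟩ * pr O.two ⟨g, hgb⟩) * (pr O.two ⟨f, hfb⟩ * pr O.two ⟨g, hgb⟩) = 1 := by
    rw [← map_mul, ← map_mul, pr_eq_one]
    simp only [Scal, Subgroup.coe_mul, Units.val_mul, hfv, hgv, fQ, gQ, ← hi]
    refine ⟨?_, ?_, ?_⟩ <;> simp [Matrix.mul_apply, Fin.sum_univ_three]
    · linear_combination (i₀ ^ 4 * (2 * ω ^ 2 - 2) * 2) * hw
    · linear_combination (i₀ ^ 4 * (1 - ω) * 2) * hw
    · linear_combination (i₀ ^ 4 * (2 * ω ^ 2 - 2 * ω) * 2) * hw + (-(8 * ω * i₀ ^ 4)) * hw3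
  refine ⟨⟨f, hfb⟩, ⟨g, hgb⟩, hf, hg, hfv, hgv, h1, h2, ?_, ?_, ?_, ?_⟩
  · set a := pr O.two ⟨f, hfb⟩
    set b := pr O.two ⟨g, hgb⟩
    have e := eq_inv_of_mul_eq_one_left h12
    rw [_root_.mul_inv_rev, inv_eq_of_mul_eq_one_right h1, inv_eq_of_mul_eq_one_right h2] at e
    exact e
  · rw [Ne, pr_eq_one]
    intro h
    have := h.2.1
    rw [hfv] at this
    simp [fQ] at this
    exact O.theta this
  · rw [Ne, pr_eq_one]
    intro h
    have := h.2.1
    rw [hgv] at this
    simp [gQ, hω] at this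
    exact O.theta this
  · intro e
    obtain ⟨ε, -, he⟩ := pr_eq O.two e (by
      simp only [d2, hfv, hgv, fQ, gQ, ← hi]
      simp
      linear_combination (-2 * i₀ ^ 2) * hw3)
    have e00 := he 0 0
    have e10 := he 1 0
    simp only [Fin.castSucc_zero, Fin.castSucc_one, hfv, hgv] at e00 e10
    simp [fQ, gQ, ← hi] at e00 e10
    have hε : ε = 1 := mul_right_cancel₀ hθ (by linear_combination -e00)
    rw [hε] at e10
    exact root_ne O.three hw (mul_right_cancel₀ hθ (by linear_combination -e10))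

/-- Homologies normalised by the diagonal elements have trivial ratio when nine does not divide `p - 1`. -/
theorem Over.homology_diag (O : Over p ω X) (h9 : ¬ 9 ∣ p - 1) {d : GG} (hd : d ∈ X) {a b : F}
    (hdM : (d : MM) = diagonal ![a, b, b]) : a = b := by
  classical
  have hw := O.root
  obtain ⟨hθ, hθ2, hω⟩ := O.fq_ne
  set i₀ := (1 + 2 * ω)⁻¹ with hi
  have h30 := O.three
  have hθ2' : 3 * i₀ ^ 2 = -1 := by rw [hθ2, mul_neg, mul_inv_cancel₀ h30]
  have hdet : a * b * b = 1 := by
    have := O.det d hd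
    rw [hdM, Matrix.det_diagonal, Fin.prod_univ_three] at this
    simpa using this
  have ha : a ≠ 0 := left_ne_zero_of_mul (left_ne_zero_of_mul_eq_one hdet)
  have hb : b ≠ 0 := right_ne_zero_of_mul_eq_one hdet
  obtain ⟨h, hhX, hhv⟩ := InK.toQ (show InK X (diagonal ![a, b, b]) from ⟨d, hd, hdM⟩) (h2 := O.two) (N := diagonal ![a, b, b]) (by
    rw [qM]; ext i j; fin_cases i <;> fin_cases j <;> simp [Matrix.diagonal, Matrix.mul_apply, Fin.sum_univ_three])
  have hhb : h ∈ Blk := (mem_blk O.two).mpr (by simp [hhv])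
  let x : (Blk : Subgroup GG) := ⟨h, hhb⟩
  obtain ⟨f, g, hf, hg, hfv, hgv, hff, hgg, hfg, hf1, hg1, hne⟩ := O.quat
  set μ := a / b with hμdef
  by_contra hab
  have hμ1 : μ ≠ 1 := fun e => hab ((div_eq_one_iff_eq hb).mp e)
  have hμ0 : μ ≠ 0 := div_ne_zero ha hb
  by_cases hμ2 : μ = -1
  · -- an involution in the centraliser of the inverting involution
    have hba : b = -a := by
      rw [hμdef, div_eq_iff hb] at hμ2
      linear_combination hμ2
    haveI := finite_img O.two (Xq O.two X)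
    let H := img O.two (Xq O.two X)
    let F' : H := ⟨pr O.two f, mem_img O.two _ hf f.2⟩
    let G' : H := ⟨pr O.two g, mem_img O.two _ hg g.2⟩
    let D' : H := ⟨pr O.two x, mem_img O.two _ hhX x.2⟩
    have nocomm : ∀ z : (Blk : Subgroup GG), ((z : GG) : MM) 0 0 ≠ 0 → ((z : GG) : MM) 0 1 ≠ 0 →
        pr O.two x * pr O.two z ≠ pr O.two z * pr O.two x := by
      intro z h00 h01 e
      rw [← map_mul, ← map_mul] at e
      obtain ⟨ε, -, he⟩ := pr_eq O.two e (by
        rw [Subgroup.coe_mul, Subgroup.coe_mul, d2_mul O.two x.2 z.2, d2_mul O.two z.2 x.2, mul_comm])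
      have e00 := he 0 0
      have e01 := he 0 1
      simp only [Fin.castSucc_zero, Fin.castSucc_one, Subgroup.coe_mul, Units.val_mul] at e00 e01
      simp [x, hhv, Matrix.diagonal, Matrix.mul_apply, Fin.sum_univ_three] at e00 e01
      have hε : ε = 1 := mul_right_cancel₀ (mul_ne_zero ha h00) (by linear_combination -e00)
      rw [hε] at e01
      exact hab (mul_right_cancel₀ h01 (by linear_combination e01))
    have hw3' := root_pow hw
    have hfg00 : (((f * g : (Blk : Subgroup GG)) : GG) : MM) 0 0 ≠ 0 ∧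
        (((f * g : (Blk : Subgroup GG)) : GG) : MM) 0 1 ≠ 0 := by
      simp only [Subgroup.coe_mul, Units.val_mul, hfv, hgv, fQ, gQ, ← hi]
      simp [Matrix.mul_apply, Fin.sum_univ_three]
      refine ⟨fun e => hθ ?_, fun e => ?_⟩
      · refine eq_zero_of_pow_eq_zero (n := 2) ((mul_eq_zero.mp (show (1 + 2 * ω) * i₀ ^ 2 = 0 by
          linear_combination e)).resolve_left O.theta)
      · have : (2 * i₀ ^ 2) * (ω ^ 2 - 1) = 0 := by linear_combination e
        rcases mul_eq_zero.mp this with e' | e'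
        · exact mul_ne_zero O.two (pow_ne_zero 2 hθ) e'
        · exact root_ne O.three hw (by linear_combination hw3' - ω * e')
    rcases O.shapeQ.klein_central (x := F') (y := G') (Subtype.ext hff) (Subtype.ext hgg) (Subtype.ext hfg)
        (fun e => hf1 (congrArg Subtype.val e)) (fun e => hg1 (congrArg Subtype.val e))
        (fun e => hne (congrArg Subtype.val e)) with (hc | hc | hc) | hord
    · exact nocomm f (by simp [hfv, fQ]; exact O.theta) (by simp [hfv, fQ, O.two]; exact O.theta)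
        (congrArg Subtype.val (hc D'))
    · exact nocomm g (by simp [hgv, gQ]; exact O.theta) (by simp [hgv, gQ, O.two, hω]; exact O.theta)
        (congrArg Subtype.val (hc D'))
    · refine nocomm (f * g) hfg00.1 hfg00.2 ?_
      have := congrArg Subtype.val (hc D')
      rw [map_mul]
      exact this
    · have := hord (D' * F')
      rw [← Subgroup.orderOf_coe, show ((D' * F' : H) : Matrix.ProjectiveSpecialLinearGroup (Fin 2) (AlgebraicClosure F))
        = pr O.two (x * f) by rw [map_mul]; rfl] at this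
      have htr : tr2 ((x * f : (Blk : Subgroup GG)) : GG) = (a - b) * i₀ := by
        simp only [tr2, Subgroup.coe_mul, Units.val_mul, hfv, fQ, ← hi, x, hhv]
        simp [Matrix.diagonal, Matrix.mul_apply, Fin.sum_univ_three]
        ring
      have hd2 : d2 ((x * f : (Blk : Subgroup GG)) : GG) = a * b := by
        simp only [d2, Subgroup.coe_mul, Units.val_mul, hfv, fQ, ← hi, x, hhv]
        simp [Matrix.diagonal, Matrix.mul_apply, Fin.sum_univ_three]
        linear_combination (-(a * b)) * hθ2'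
      obtain ⟨o2, o3, o4, o5⟩ := pr_order O.two (g := x * f)
      rw [htr, hba] at o2
      rw [htr, hd2, hba] at o3 o4 o5
      rcases this with o | o | o | o | o
      · have hs := ((pr_eq_one O.two).mp (orderOf_eq_one_iff.mp o)).1
        simp only [Subgroup.coe_mul, Units.val_mul, hfv, fQ, ← hi, x, hhv] at hs
        simp [Matrix.diagonal, Matrix.mul_apply, Fin.sum_univ_three, ha, O.two] at hs
        exact hθ hs
      · have := o2 o
        exact mul_ne_zero (mul_ne_zero O.two ha) hθ (by linear_combination this)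
      · exact pow_ne_zero 2 ha (by linear_combination (-3) * o3 o + 4 * a ^ 2 * hθ2')
      · refine mul_ne_zero O.two (pow_ne_zero 2 ha) ?_
        linear_combination 3 * o4 o - 4 * a ^ 2 * hθ2'
      · refine mul_ne_zero (O.numq (n := 11) (by norm_num) (by norm_num)) (pow_ne_zero 4 ha) ?_
        push_cast
        linear_combination (-9) * o5 o + (16 * a ^ 4 * (3 * i₀ ^ 2 - 1) + 36 * a ^ 4) * hθ2'
  -- two conjugate homologies in the centraliser
  have h3 := order_ge_three hμ0 hμ1 hμ2
  set y := f * x * f⁻¹ with hy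
  have hyv : ((y : GG) : MM) = !![3⁻¹ * (a + 2 * b), 3⁻¹ * (2 * a - 2 * b), 0;
      3⁻¹ * (a - b), 3⁻¹ * (2 * a + b), 0; 0, 0, b] := by
    refine (Units.isUnit (f : GG)).mul_right_cancel ?_
    rw [← Units.val_mul, ← Subgroup.coe_mul, hy, inv_mul_cancel_right, Subgroup.coe_mul, Units.val_mul, hfv, fQ]
    simp only [x, hhv]
    ext i j
    fin_cases i <;> fin_cases j <;> simp [Matrix.diagonal, Matrix.mul_apply, Fin.sum_univ_three] <;>
      field_simp <;> ring1
  have hr : orderOf (pr O.two x) = orderOf μ := order_ratio hb fun k => by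
    have : ((x ^ k : (Blk : Subgroup GG)) : GG) = h ^ k := rfl
    rw [this]
    simp only [Scal, Units.val_pow_eq_pow_val, hhv, Matrix.diagonal_pow]
    simp
  have hr' : orderOf (pr O.two y) = orderOf μ := by
    rw [hy, map_mul, map_mul, map_inv, ← MulAut.conj_apply, MulEquiv.orderOf_eq, hr]
  have hxy : (((x * y : (Blk : Subgroup GG)) : GG) : MM) = !![a * (3⁻¹ * (a + 2 * b)), a * (3⁻¹ * (2 * a - 2 * b)), 0;
      b * (3⁻¹ * (a - b)), b * (3⁻¹ * (2 * a + b)), 0; 0, 0, b * b] := by
    rw [Subgroup.coe_mul, Units.val_mul, hyv]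
    simp only [x, hhv]
    ext i j
    fin_cases i <;> fin_cases j <;> simp [Matrix.diagonal, Matrix.mul_apply, Fin.sum_univ_three]
  have h01 : a * (3⁻¹ * (2 * a - 2 * b)) ≠ 0 := by
    refine mul_ne_zero ha (mul_ne_zero (inv_ne_zero h30) ?_)
    rw [← mul_sub]
    exact mul_ne_zero O.two (sub_ne_zero.mpr hab)
  have hnc : pr O.two x * pr O.two y ≠ pr O.two y * pr O.two x := by
    rw [← map_mul, ← map_mul]
    intro e
    obtain ⟨ε, hε2, he⟩ := pr_eq O.two e (by
      show d2 ((x : GG) * (y : GG)) = d2 ((y : GG) * (x : GG))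
      rw [d2_mul O.two x.2 y.2, d2_mul O.two y.2 x.2, mul_comm])
    have e01 := he 0 1
    simp only [Fin.castSucc_zero, Fin.castSucc_one, hxy] at e01
    simp only [Subgroup.coe_mul, Units.val_mul, hyv, x, hhv] at e01
    simp [Matrix.diagonal, Matrix.mul_apply, Fin.sum_univ_three] at e01
    have hab' : a = ε * b := mul_right_cancel₀ (right_ne_zero_of_mul h01) (by linear_combination e01)
    rcases mul_self_eq_one_iff.mp hε2 with hε | hε <;> rw [hε] at hab'
    · exact hab (by linear_combination hab')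
    · exact hμ2 (by rw [hμdef, div_eq_iff hb, hab'])
  have hns : ¬ Scal ((x * y : (Blk : Subgroup GG)) : GG) := fun hS => h01 (by
    have := hS.1; rw [hxy] at this; simpa using this)
  have hd2 : d2 ((x * y : (Blk : Subgroup GG)) : GG) = (a * b) ^ 2 := by
    rw [d2, hxy]
    simp
    field_simp
    ring1
  have hT : tr2 ((x * y : (Blk : Subgroup GG)) : GG) = ((μ + μ⁻¹ + 4) / 3) * (a * b) := by
    rw [tr2, hxy, hμdef, inv_div]
    simp
    field_simp
    ring1
  set X₀ := μ + μ⁻¹ with hX₀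
  have hXm : X₀ * μ = μ ^ 2 + 1 := by rw [hX₀]; field_simp
  have hord := pow_orderOf_eq_one μ
  have hT3 : 3 * ((X₀ + 4) / 3) = X₀ + 4 := mul_div_cancel₀ _ h30
  generalize hTdef : (X₀ + 4) / 3 = T at hT hT3
  have hno3 : orderOf μ ≠ 3 := by
    intro e
    have hb9 : b ^ 9 = 1 := by
      have hμb : μ * b ^ 3 = 1 := by rw [hμdef]; field_simp; linear_combination hdet
      rw [e] at hord
      linear_combination (-(b ^ 9)) * hord + ((μ * b ^ 3) ^ 2 + μ * b ^ 3 + 1) * hμb
    have hg : b ^ (Nat.gcd 9 (p - 1)) = 1 := pow_gcd_eq_one.mpr ⟨hb9, O.pow_card hb⟩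
    have hgcd : Nat.gcd 9 (p - 1) = 3 := by
      have h3d : 3 ∣ p - 1 := by have := O.p3; omega
      have hd1 : 3 ∣ Nat.gcd 9 (p - 1) := Nat.dvd_gcd (by norm_num) h3d
      have hd2 := Nat.gcd_dvd_left 9 (p - 1)
      have hd3 := Nat.le_of_dvd (by norm_num) hd2
      interval_cases hh : Nat.gcd 9 (p - 1) <;> first | rfl | omega | skip
      all_goals exact absurd (hh ▸ Nat.gcd_dvd_right 9 (p - 1)) h9
    rw [hgcd] at hg
    exact hμ1 (by
      rw [hμdef, div_eq_one_iff_eq hb]
      exact mul_right_cancel₀ (mul_ne_zero hb hb) (by linear_combination hdet - hg))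
  rcases pair_cases O.two O.shapeQ (x := x) (y := y) hhX
      ((Xq O.two X).mul_mem ((Xq O.two X).mul_mem hf hhX) ((Xq O.two X).inv_mem hf)) hr hr' h3 hnc hd2
      (mul_ne_zero ha hb) hns hT with ⟨hr3, hTc⟩ | ⟨hr3, hTc⟩
  · rw [hr3.resolve_left hno3] at hord
    have : μ ^ 2 = -1 := (mul_eq_zero.mp (show (μ ^ 2 - 1) * (μ ^ 2 + 1) = 0 by linear_combination hord)).elim
      (fun h => absurd (sq_eq_one_iff.mp (sub_eq_zero.mp h)) (by simp [hμ1, hμ2]))
      eq_neg_of_add_eq_zero_left
    have hX : X₀ = 0 := mul_right_cancel₀ hμ0 (by linear_combination hXm + this)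
    rw [hX, zero_add] at hT3
    rcases hTc with e' | e' | e'
    · exact mul_ne_zero O.two O.two (by rw [e'] at hT3; linear_combination -hT3)
    · have h7 : (7 : F) = 0 := by linear_combination -(3 * T + 4) * hT3 + 9 * e'
      have h7' : p = 7 := by
        by_contra hne
        exact O.num (n := 7) (fun h => hne ((Nat.prime_dvd_prime_iff_eq O.prime (by norm_num)).mp h)) (by exact_mod_cast h7)
      have h6 := O.pow_card hμ0
      rw [h7'] at h6
      norm_num at h6
      have : μ ^ 2 = 1 := by linear_combination h6 - μ ^ 2 * hord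
      rcases sq_eq_one_iff.mp this with h | h
      · exact hμ1 h
      · exact hμ2 h
    · exact O.two (by linear_combination (3 * T + 4) * hT3 - 9 * e')
  · rw [hr3.resolve_left hno3] at hord
    have : μ ^ 4 + μ ^ 3 + μ ^ 2 + μ + 1 = 0 := (mul_eq_zero.mp
        (show (μ - 1) * (μ ^ 4 + μ ^ 3 + μ ^ 2 + μ + 1) = 0 by linear_combination hord)).resolve_left
          (sub_ne_zero.mpr hμ1)
    have hX : X₀ ^ 2 + X₀ - 1 = 0 := mul_right_cancel₀ (pow_ne_zero 2 hμ0)
      (by linear_combination (X₀ * μ + μ ^ 2 + 1 + μ) * hXm + this)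
    rcases hTc with e' | e' | e'
    · refine O.numq (n := 11) (by norm_num) (by norm_num) ?_
      push_cast
      have hX' : X₀ = -4 := by rw [e'] at hT3; linear_combination -hT3
      rw [hX'] at hX
      linear_combination hX
    · rcases sq_eq_one_iff.mp e' with e'' | e''
      · have hX' : X₀ = -1 := by rw [e''] at hT3; linear_combination -hT3
        rw [hX'] at hX
        exact one_ne_zero (by linear_combination -hX)
      · refine O.numq (n := 41) (by norm_num) (by norm_num) ?_
        push_cast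
        have hX' : X₀ = -7 := by rw [e''] at hT3; linear_combination -hT3
        rw [hX'] at hX
        linear_combination hX
    · rcases mul_eq_zero.mp (show (T ^ 2 + T - 1) * (T ^ 2 - T - 1) = 0 by linear_combination e') with e'' | e''
      · have hl : (2 * 5) * (X₀ + 2) = 0 := by
          linear_combination 9 * e'' - (3 * T + X₀ + 7) * hT3 - hX
        have hX' : X₀ = -2 := eq_neg_of_add_eq_zero_left ((mul_eq_zero.mp hl).resolve_left (mul_ne_zero O.two O.five))
        rw [hX'] at hX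
        exact one_ne_zero (by linear_combination hX)
      · have hl : (2 * 2) * (X₀ - 1) = 0 := by
          linear_combination 9 * e'' - (3 * T + X₀ + 1) * hT3 - hX
        have hX' : X₀ = 1 := sub_eq_zero.mp ((mul_eq_zero.mp hl).resolve_left (mul_ne_zero O.two O.two))
        rw [hX'] at hX
        exact one_ne_zero (by linear_combination hX)

theorem diag3 (a b c : F) : diagonal ![a, b, c] = !![a, 0, 0; 0, b, 0; 0, 0, c] := by
  ext i j; fin_cases i <;> fin_cases j <;> simp

/-- The centraliser of the diagonal generator. -/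
theorem Over.centralizer_A (O : Over p ω X) (h9 : ¬ 9 ∣ p - 1) {g : GG} (hg : g ∈ X)
    (hc : (g : MM) * dA ω = dA ω * (g : MM)) : ∃ i j : ℕ, (g : MM) = ω ^ i • dA ω ^ j := by
  have hw := O.root
  have hw3 := root_pow hw
  have hω1 := root_ne O.three hw
  have hω0 := O.fq_ne.2.2
  have hdist : ∀ o l : Fin 3, o ≠ l → (g : MM) o l = 0 := fun o l hol => by
    have h := congrFun (congrFun hc o) l
    rw [dA, Matrix.mul_diagonal, Matrix.diagonal_mul] at h
    have h' : (![1, ω, ω ^ 2] o - ![1, ω, ω ^ 2] l) * (g : MM) o l = 0 := by linear_combination -h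
    refine (mul_eq_zero.mp h').resolve_left ?_
    have h21 : ω ^ 2 ≠ 1 := fun e => hω1 (by linear_combination (-ω) * e + hw3)
    have h2w : ω ^ 2 ≠ ω := fun e => hω1 (mul_left_cancel₀ hω0 (by linear_combination e))
    fin_cases o <;> fin_cases l <;> first
      | exact absurd rfl hol
      | simp [sub_eq_zero, hω1, hω1.symm, h21, h21.symm, h2w, h2w.symm]
  have key : ∀ a b c : F, InK X (diagonal ![a, b, c]) → a ^ 3 = 1 ∧ InK X (diagonal ![c, a, b]) := by
    rintro a b c ⟨d, hd, hdv⟩
    have hdet := O.det d hd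
    rw [hdv, Matrix.det_diagonal, Fin.prod_univ_three] at hdet
    simp at hdet
    obtain ⟨t, ht, htv⟩ := O.memT
    obtain ⟨b', hb', hbv⟩ := O.memB
    have hti : t⁻¹ = t := inv_eq_of_mul_eq_one_right (Units.ext (by
      rw [Units.val_mul, htv, Units.val_one, tM]
      ext i j; fin_cases i <;> fin_cases j <;> simp [Matrix.mul_apply, Fin.sum_univ_three]))
    refine ⟨?_, b' * d * b'⁻¹, X.mul_mem (X.mul_mem hb' hd) (X.inv_mem hb'), ?_⟩
    · have hm : d * (t * d * t⁻¹) ∈ X := X.mul_mem hd (X.mul_mem (X.mul_mem ht hd) (X.inv_mem ht))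
      have := O.homology_diag h9 hm (a := a * a) (b := b * c) (by
        rw [hti, Units.val_mul, Units.val_mul, Units.val_mul, hdv, htv, tM, diag3, diag3]
        ext i j
        fin_cases i <;> fin_cases j <;> simp [Matrix.diagonal_apply, Matrix.mul_apply, Fin.sum_univ_three] <;> ring)
      linear_combination a * this + hdet
    · refine (Units.isUnit b').mul_right_cancel ?_
      rw [← Units.val_mul, inv_mul_cancel_right, Units.val_mul, hbv, hdv]
      ext i j
      fin_cases i <;> fin_cases j <;> simp [mB, Matrix.diagonal, Matrix.mul_apply, Fin.sum_univ_three]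
  have hgd : InK X (diagonal ![(g : MM) 0 0, (g : MM) 1 1, (g : MM) 2 2]) := ⟨g, hg, by
    ext o l
    fin_cases o <;> fin_cases l <;> simp [hdist]⟩
  obtain ⟨h0, hshift⟩ := key _ _ _ hgd
  obtain ⟨h2, hshift⟩ := key _ _ _ hshift
  obtain ⟨h1, -⟩ := key _ _ _ hshift
  have hpow : ∀ a : F, a ^ 3 = 1 → ∃ i : ℕ, a = ω ^ i := fun a ha => by
    rcases cube_cases hw ha with h | h | h
    exacts [⟨0, by simpa using h⟩, ⟨1, by simpa using h⟩, ⟨2, h⟩]
  obtain ⟨i, hi⟩ := hpow _ h0
  obtain ⟨l, hl⟩ := hpow _ h1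
  have hdet := O.det g hg
  rw [Matrix.det_fin_three] at hdet
  simp only [hdist 0 1 (by decide), hdist 0 2 (by decide), hdist 1 0 (by decide), hdist 1 2 (by decide),
    hdist 2 0 (by decide), hdist 2 1 (by decide), hi, hl] at hdet
  refine ⟨i, l + 2 * i, ?_⟩
  have h22 : (g : MM) 2 2 = ω ^ (i + 2 * (l + 2 * i)) := by
    have e : ω ^ i * ω ^ l * ω ^ (i + 2 * (l + 2 * i)) = 1 := by
      rw [← pow_add, ← pow_add, show i + l + (i + 2 * (l + 2 * i)) = 3 * (2 * i + l) by ring, pow_mul, hw3, one_pow]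
    exact mul_left_cancel₀ (mul_ne_zero (pow_ne_zero i hω0) (pow_ne_zero l hω0)) (by linear_combination hdet - e)
  ext o l'
  rw [dA, Matrix.diagonal_pow, Matrix.smul_apply]
  fin_cases o <;> fin_cases l' <;> simp [hdist, hi, hl, h22, ← pow_add, ← pow_mul]
  · rw [show i + (l + 2 * i) = 3 * i + l by ring, pow_add, pow_mul, hw3, one_pow, one_mul]

end Cfsg.Lib.Classical.SLThree
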