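import Mathlib
import Cfsg.Agent.Classical.SLThree.SymCentr

/-! The group modulo scalars and the elements of order three. -/

set_option autoImplicit false
set_option linter.unusedSimpArgs false
set_option linter.unusedSectionVars false
set_option linter.style.haveILetI false

namespace Cfsg.Lib.Classical.SLThree

open Matrix LinOne
open scoped MatrixGroups
open Cfsg.Lib.Classical.ExtraThree (dA mB root_pow root_ne cube_cases)

universe u

variable {F : Type u} [Field F]

local notation "MM" => Matrix (Fin 3) (Fin 3) F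
local notation "GG" => GL (Fin 3) F

/-- The scalars of the group. -/
abbrev Zs (X : Subgroup (GL (Fin 3) F)) : Subgroup X := (Cfsg.Geo.scalars (Fin 3) F).subgroupOf X

theorem mem_zs {X : Subgroup GG} {a : X} : a ∈ Zs X ↔ ∃ l : F, ((a : GG) : MM) = l • 1 := by
  rw [Subgroup.mem_subgroupOf, Cfsg.Geo.mem_scalars_iff]
  constructor
  · rintro ⟨c, hc⟩; exact ⟨c, hc⟩
  · rintro ⟨l, hl⟩
    refine ⟨Units.mk0 l ?_, hl⟩
    rintro rfl
    have := (Matrix.isUnits_det_units (a : GG)).ne_zero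
    simp [hl] at this

theorem qmk_eq {X : Subgroup GG} {a b : X} :
    (QuotientGroup.mk a : X ⧸ Zs X) = QuotientGroup.mk b ↔ ∃ l : F, ((b : GG) : MM) = l • ((a : GG) : MM) := by
  rw [QuotientGroup.eq, mem_zs]
  constructor
  · rintro ⟨l, hl⟩
    refine ⟨l, ?_⟩
    rw [Subgroup.coe_mul, Units.val_mul] at hl
    have := congrArg (fun M : MM => ((a : GG) : MM) * M) hl
    simp only [← mul_assoc] at this
    rwa [Subgroup.coe_inv, Units.mul_inv, one_mul, Matrix.mul_smul, Matrix.mul_one] at this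
  · rintro ⟨l, hl⟩
    refine ⟨l, ?_⟩
    rw [Subgroup.coe_mul, Units.val_mul, hl, Matrix.mul_smul, Subgroup.coe_inv, Units.inv_mul]

/-- The standard Heisenberg group inside `X`. -/
structure RData (ω : F) (X R : Subgroup (GL (Fin 3) F)) : Prop where
  card : Nat.card R = 27
  le : R ≤ X
  exp : ∀ y ∈ R, y ^ 3 = 1
  form : ∀ y ∈ R, ∃ i j k : ℕ, (y : Matrix (Fin 3) (Fin 3) F) = ω ^ i • (dA ω ^ j * mB ^ k)
  memC : InK R (ω • 1)
  memA : InK R (dA ω)
  memB : InK R mB
  sylow : ¬ 81 ∣ Nat.card X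

variable [Fintype F] {p : ℕ} {ω : F} {X : Subgroup (GL (Fin 3) F)}

theorem Over.scalar_cube (O : Over p ω X) {g : GG} (hg : g ∈ X) {l : F} (h : (g : MM) = l • 1) : l ^ 3 = 1 := by
  have := O.det g hg
  rwa [h, Matrix.det_smul, Matrix.det_one, mul_one, Fintype.card_fin] at this

theorem Over.zs_cube (O : Over p ω X) {a : X} (ha : a ∈ Zs X) : a ^ 3 = 1 := by
  obtain ⟨l, hl⟩ := mem_zs.mp ha
  refine Subtype.ext (Units.ext ?_)
  rw [Subgroup.coe_pow, Units.val_pow_eq_pow_val, hl, smul_pow, one_pow, O.scalar_cube a.2 hl, one_smul]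
  rfl

theorem zs_comm {X : Subgroup GG} {z : X} (hz : z ∈ Zs X) (a : X) : Commute z a := by
  obtain ⟨l, hl⟩ := mem_zs.mp hz
  refine Subtype.ext (Units.ext ?_)
  simp only [Subgroup.coe_mul, Units.val_mul, hl, Matrix.smul_mul, Matrix.mul_smul, Matrix.one_mul, Matrix.mul_one]

/-- Elements of order prime to three commuting modulo scalars commute. -/
theorem Over.comm_exact (O : Over p ω X) {a u : X} {n : ℕ} (hn : n.Coprime 3) (hu : u ^ n = 1)
    (h : (QuotientGroup.mk a : X ⧸ Zs X) * QuotientGroup.mk u = QuotientGroup.mk u * QuotientGroup.mk a) :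
    a * u = u * a := by
  set z := u⁻¹ * (a * u * a⁻¹) with hz
  have hzm : z ∈ Zs X := by
    rw [← QuotientGroup.eq_one_iff, hz]
    simp only [QuotientGroup.mk_mul, QuotientGroup.mk_inv]
    rw [← mul_assoc, ← mul_assoc, mul_assoc (QuotientGroup.mk u : X ⧸ Zs X)⁻¹, h, ← mul_assoc, inv_mul_cancel, one_mul,
      mul_inv_cancel]
  have e : a * u * a⁻¹ = u * z := by rw [hz]; group
  have e2 : (a * u * a⁻¹) ^ n = 1 := by rw [← MulAut.conj_apply, ← map_pow, hu, map_one]
  rw [e, (zs_comm hzm u).symm.mul_pow, hu, one_mul] at e2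
  have : z = 1 := by
    rw [← pow_one z, ← show Nat.gcd n 3 = 1 from hn]
    exact pow_gcd_eq_one.mpr ⟨e2, O.zs_cube hzm⟩
  rw [this, mul_one] at e
  exact mul_inv_eq_iff_eq_mul.mp e

/-- Lifts of elements of order prime to three. -/
theorem Over.exists_lift (O : Over p ω X) {n : ℕ} (hn : n.Coprime 3) {q : X ⧸ Zs X} (hq : q ^ n = 1) :
    ∃ u : X, (QuotientGroup.mk u : X ⧸ Zs X) = q ∧ u ^ n = 1 := by
  obtain ⟨x, rfl⟩ := QuotientGroup.mk_surjective q
  obtain ⟨m, hm1, hm3⟩ := Nat.chineseRemainder hn 1 0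
  have hxn : x ^ n ∈ Zs X := by rw [← QuotientGroup.eq_one_iff, QuotientGroup.mk_pow]; exact hq
  refine ⟨x ^ m, ?_, ?_⟩
  · rw [QuotientGroup.mk_pow]
    conv_rhs => rw [← pow_one (QuotientGroup.mk x : X ⧸ Zs X)]
    exact pow_eq_pow_iff_modEq.mpr (hm1.of_dvd (orderOf_dvd_of_pow_eq_one hq))
  · obtain ⟨j, rfl⟩ := (Nat.modEq_zero_iff_dvd.mp hm3)
    rw [← pow_mul, mul_comm, pow_mul, pow_mul, ← pow_mul x n 3 |>.symm.trans (pow_mul x n 3), O.zs_cube hxn, one_pow]

variable {R : Subgroup (GL (Fin 3) F)}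

theorem dA_eq (ω : F) : dA ω = !![1, 0, 0; 0, ω, 0; 0, 0, ω ^ 2] := by
  ext i j; fin_cases i <;> fin_cases j <;> simp [dA]

/-- The quotient images of the generators. -/
theorem RData.gens (O : Over p ω X) (D : RData ω X R) : ∃ a b : X, (a : GG) ∈ R ∧ (b : GG) ∈ R ∧
    ((a : GG) : MM) = dA ω ∧ ((b : GG) : MM) = mB ∧
    (QuotientGroup.mk a : X ⧸ Zs X) ^ 3 = 1 ∧ (QuotientGroup.mk b : X ⧸ Zs X) ^ 3 = 1 ∧
    (QuotientGroup.mk a : X ⧸ Zs X) * QuotientGroup.mk b = QuotientGroup.mk b * QuotientGroup.mk a := by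
  obtain ⟨A, hA, hAv⟩ := D.memA
  obtain ⟨B, hB, hBv⟩ := D.memB
  refine ⟨⟨A, D.le hA⟩, ⟨B, D.le hB⟩, hA, hB, hAv, hBv, ?_, ?_, ?_⟩
  · rw [← QuotientGroup.mk_pow, show (⟨A, D.le hA⟩ : X) ^ 3 = 1 from Subtype.ext (D.exp A hA)]; rfl
  · rw [← QuotientGroup.mk_pow, show (⟨B, D.le hB⟩ : X) ^ 3 = 1 from Subtype.ext (D.exp B hB)]; rfl
  · rw [← QuotientGroup.mk_mul, ← QuotientGroup.mk_mul, qmk_eq]
    refine ⟨ω ^ 2, ?_⟩
    simp only [Subgroup.coe_mul, Units.val_mul, hAv, hBv]
    ext i j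
    fin_cases i <;> fin_cases j <;>
      simp [dA_eq, mB, Matrix.mul_apply, Fin.sum_univ_three] <;>
      first | ring1 | linear_combination (-1 : F) * root_pow O.root | linear_combination root_pow O.root |
        linear_combination ω * root_pow O.root | linear_combination -ω * root_pow O.root

theorem RData.mk_form (O : Over p ω X) (D : RData ω X R) {a b y : X} (ha : ((a : GG) : MM) = dA ω)
    (hb : ((b : GG) : MM) = mB) (hy : (y : GG) ∈ R) :
    ∃ j k : ℕ, (QuotientGroup.mk y : X ⧸ Zs X) = QuotientGroup.mk a ^ j * QuotientGroup.mk b ^ k := by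
  obtain ⟨i, j, k, e⟩ := D.form _ hy
  refine ⟨j, k, (qmk_eq.mpr ⟨ω ^ i, ?_⟩).symm⟩
  rw [e]
  simp [ha, hb]

theorem pow_three_mod {G : Type*} [Monoid G] {g : G} (h : g ^ 3 = 1) (n : ℕ) :
    g ^ n = 1 ∨ g ^ n = g ∨ g ^ n = g ^ 2 := by
  rw [← Nat.div_add_mod n 3, pow_add, pow_mul, h, one_pow, one_mul]
  have := Nat.mod_lt n (show 3 > 0 by norm_num)
  interval_cases n % 3 <;> simp

/-- Every non-central element of the Heisenberg group is conjugate to the diagonal one modulo scalars. -/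
theorem RData.conj_a (O : Over p ω X) (D : RData ω X R) {a : X} (ha : ((a : GG) : MM) = dA ω) {y : X}
    (hy : (y : GG) ∈ R) (hy1 : (QuotientGroup.mk y : X ⧸ Zs X) ≠ 1) :
    ∃ g : X ⧸ Zs X, g * QuotientGroup.mk a * g⁻¹ = QuotientGroup.mk y := by
  obtain ⟨a', b, -, -, ha', hb, hA3, hB3, hcomm⟩ := D.gens O
  have : a' = a := Subtype.ext (Units.ext (ha'.trans ha.symm))
  subst this
  obtain ⟨T, hT, hTv⟩ := O.memT
  obtain ⟨Ff, hF, hFv⟩ := O.memF
  obtain ⟨Gg, hG, hGv⟩ := O.memG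
  set A := (QuotientGroup.mk a' : X ⧸ Zs X)
  set B := (QuotientGroup.mk b : X ⧸ Zs X)
  have hw := O.root
  have hw3 := root_pow hw
  set t : X ⧸ Zs X := QuotientGroup.mk ⟨T, hT⟩
  set f : X ⧸ Zs X := QuotientGroup.mk ⟨Ff, hF⟩
  set g : X ⧸ Zs X := QuotientGroup.mk ⟨Gg, hG⟩
  have conj : ∀ (x : X) (u v : X), (∃ l : F, ((v : GG) : MM) * (x : GG) = l • (((x : GG) : MM) * (u : GG))) →
      (QuotientGroup.mk x : X ⧸ Zs X) * QuotientGroup.mk u * (QuotientGroup.mk x)⁻¹ = QuotientGroup.mk v := by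
    rintro x u v ⟨l, hl⟩
    rw [mul_inv_eq_iff_eq_mul, ← QuotientGroup.mk_mul, ← QuotientGroup.mk_mul, qmk_eq]
    exact ⟨l, by simpa using hl⟩
  have tA : t * A * t⁻¹ = A ^ 2 := by
    rw [show A ^ 2 = QuotientGroup.mk (a' * a') by rw [pow_two, QuotientGroup.mk_mul]]
    refine conj _ _ _ ⟨1, ?_⟩
    simp only [Subgroup.coe_mul, Units.val_mul, ha', hTv, one_smul]
    ext i j
    fin_cases i <;> fin_cases j <;>
      simp [dA_eq, tM, Matrix.mul_apply, Fin.sum_univ_three] <;>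
      first | ring1 | linear_combination (-ω) * hw3 | linear_combination ω * hw3
  have tB : t * B * t⁻¹ = B ^ 2 := by
    rw [show B ^ 2 = QuotientGroup.mk (b * b) by rw [pow_two, QuotientGroup.mk_mul]]
    refine conj _ _ _ ⟨1, ?_⟩
    simp only [Subgroup.coe_mul, Units.val_mul, hb, hTv, one_smul]
    ext i j
    fin_cases i <;> fin_cases j <;> simp [mB, tM, Matrix.mul_apply, Fin.sum_univ_three]
  have fA : f * A * f⁻¹ = B ^ 2 := by
    rw [show B ^ 2 = QuotientGroup.mk (b * b) by rw [pow_two, QuotientGroup.mk_mul]]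
    refine conj _ _ _ ⟨1, ?_⟩
    simp only [Subgroup.coe_mul, Units.val_mul, ha', hb, hFv, one_smul, fM, smul_mul_assoc, mul_smul_comm]
    congr 1
    ext i j
    fin_cases i <;> fin_cases j <;>
      simp [dA_eq, mB, Matrix.mul_apply, Fin.sum_univ_three] <;>
      first | ring1 | linear_combination (-ω) * hw3 | linear_combination ω * hw3 | linear_combination hw3 | linear_combination -hw3
  have fB : f * B * f⁻¹ = A := by
    refine conj _ _ _ ⟨1, ?_⟩
    simp only [ha', hb, hFv, one_smul, fM, smul_mul_assoc, mul_smul_comm]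
    congr 1
    ext i j
    fin_cases i <;> fin_cases j <;>
      simp [dA_eq, mB, Matrix.mul_apply, Fin.sum_univ_three] <;>
      first | ring1 | linear_combination (-ω) * hw3 | linear_combination ω * hw3 | linear_combination hw3 | linear_combination -hw3
  have gA : g * A * g⁻¹ = A * B ^ 2 := by
    rw [show A * B ^ 2 = QuotientGroup.mk (a' * (b * b)) by rw [pow_two, QuotientGroup.mk_mul, QuotientGroup.mk_mul]]
    refine conj _ _ _ ⟨ω, ?_⟩
    simp only [Subgroup.coe_mul, Units.val_mul, ha', hb, hGv, gM, smul_mul_assoc, mul_smul_comm]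
    rw [smul_comm]
    congr 1
    ext i j
    fin_cases i <;> fin_cases j <;>
      simp [dA_eq, mB, Matrix.mul_apply, Fin.sum_univ_three] <;>
      first | ring1 | linear_combination (-ω) * hw3 | linear_combination ω * hw3 | linear_combination hw3 | linear_combination -hw3 |
        linear_combination (-(ω ^ 2)) * hw3 | linear_combination (ω ^ 2) * hw3 | (left; ring1) |
        (left; linear_combination ω * hw3) | (left; linear_combination (-ω) * hw3) | (left; linear_combination hw3) |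
        (left; linear_combination -hw3)
  have mulc : ∀ {x y u v w : X ⧸ Zs X}, x * u * x⁻¹ = v → y * v * y⁻¹ = w → y * x * u * (y * x)⁻¹ = w := by
    intro x y u v w h1 h2
    rw [← h2, ← h1]; group
  have fAB : f * (A * B ^ 2) * f⁻¹ = A ^ 2 * B ^ 2 := by
    rw [← conj_mul, ← conj_pow, fA, fB]
    exact (hcomm.symm |> fun h => (Commute.pow_pow (h : Commute B A) 2 2).eq)
  have tB2 : t * B ^ 2 * t⁻¹ = B := by
    rw [← conj_pow, tB, ← pow_mul, show 2 * 2 = 3 + 1 from rfl, pow_add, hB3, one_mul, pow_one]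
  have tA2 : t * A ^ 2 * t⁻¹ = A := by
    rw [← conj_pow, tA, ← pow_mul, show 2 * 2 = 3 + 1 from rfl, pow_add, hA3, one_mul, pow_one]
  obtain ⟨j, k, hjk⟩ := D.mk_form O ha' hb hy
  rw [hjk] at hy1 ⊢
  rcases pow_three_mod hA3 j with e | e | e <;> rcases pow_three_mod hB3 k with e' | e' | e' <;>
    rw [e, e'] at hy1 ⊢
  · exact absurd (one_mul 1) hy1
  · exact ⟨t * f, by rw [one_mul]; exact mulc fA tB2⟩
  · exact ⟨f, by rw [one_mul, fA]⟩
  · exact ⟨1, by simp⟩
  · refine ⟨t * (f * g), mulc (mulc gA fAB) ?_⟩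
    rw [← conj_mul, tA2, tB2]
  · exact ⟨g, by rw [gA]⟩
  · exact ⟨t, by rw [mul_one, tA]⟩
  · refine ⟨t * g, mulc gA ?_⟩
    rw [← conj_mul, tA, tB2]
  · exact ⟨f * g, mulc gA fAB⟩

/-- The centraliser of the diagonal element modulo scalars. -/
theorem RData.cent_a (O : Over p ω X) (D : RData ω X R) (h9 : ¬ 9 ∣ p - 1) {a x : X}
    (ha : ((a : GG) : MM) = dA ω)
    (h : (QuotientGroup.mk x : X ⧸ Zs X) * QuotientGroup.mk a = QuotientGroup.mk a * QuotientGroup.mk x) :
    (x : GG) ∈ R := by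
  obtain ⟨a', b, haR, hbR, ha', hb, -⟩ := D.gens O
  rw [← QuotientGroup.mk_mul, ← QuotientGroup.mk_mul, qmk_eq] at h
  obtain ⟨l, hl⟩ := h
  simp only [Subgroup.coe_mul, Units.val_mul, ha] at hl
  have hw := O.root
  have hw3 := root_pow hw
  have hdA : (dA ω).det = 1 := by
    simp [dA, Matrix.det_diagonal, Fin.prod_univ_three]; linear_combination hw3
  have hl3 : l ^ 3 = 1 := by
    have e := congrArg Matrix.det hl
    rw [Matrix.det_mul, Matrix.det_smul, Matrix.det_mul, hdA, O.det _ x.2] at e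
    simpa using e.symm
  obtain ⟨k, rfl⟩ : ∃ k : ℕ, l = ω ^ k := by
    rcases cube_cases hw hl3 with e | e | e
    exacts [⟨0, by simpa using e⟩, ⟨1, by simpa using e⟩, ⟨2, e⟩]
  have hba : (mB : MM) * dA ω = ω ^ 2 • (dA ω * mB) := by
    ext i j
    fin_cases i <;> fin_cases j <;>
      simp [dA_eq, mB, Matrix.mul_apply, Fin.sum_univ_three] <;>
      first | ring1 | linear_combination (-1 : F) * hw3 | linear_combination hw3 | linear_combination ω * hw3 |
        linear_combination -ω * hw3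
  have hbk : ∀ k : ℕ, (mB : MM) ^ k * dA ω = ω ^ (2 * k) • (dA ω * mB ^ k) := by
    intro k
    induction k with
    | zero => simp
    | succ k ih =>
      rw [pow_succ', mul_assoc, ih, Matrix.mul_smul, ← mul_assoc, hba, Matrix.smul_mul, smul_smul, mul_assoc,
        ← pow_add, show 2 * k + 2 = 2 * (k + 1) by ring]
  set x' := x * b ^ (2 * k) with hx'
  have hc : ((x' : GG) : MM) * dA ω = dA ω * ((x' : GG) : MM) := by
    have e1 : dA ω * ((x : GG) : MM) = ω ^ k • (((x : GG) : MM) * dA ω) := hl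
    simp only [hx', Subgroup.coe_mul, Subgroup.coe_pow, Units.val_mul, Units.val_pow_eq_pow_val, hb]
    rw [mul_assoc, hbk, Matrix.mul_smul, ← mul_assoc (dA ω), e1, Matrix.smul_mul, mul_assoc]
    congr 1
    rw [show 2 * (2 * k) = 3 * k + k by ring, pow_add, pow_mul, hw3, one_pow, one_mul]
  obtain ⟨i, j, e⟩ := O.centralizer_A h9 x'.2 hc
  obtain ⟨C, hC, hCv⟩ := D.memC
  obtain ⟨A, hA, hAv⟩ := D.memA
  have hmem : C ^ i * A ^ j ∈ R := R.mul_mem (R.pow_mem hC i) (R.pow_mem hA j)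
  have heq : C ^ i * A ^ j = (x' : GG) := Units.ext (by
    rw [e, Units.val_mul, Units.val_pow_eq_pow_val, Units.val_pow_eq_pow_val, hCv, hAv, smul_pow, one_pow,
      Matrix.smul_mul, Matrix.one_mul])
  rw [heq] at hmem
  have : (x : GG) = (x' : GG) * ((b : GG) ^ (2 * k))⁻¹ := by
    rw [hx', Subgroup.coe_mul, Subgroup.coe_pow, mul_inv_cancel_right]
  rw [this]
  exact R.mul_mem hmem (R.inv_mem (R.pow_mem hbR _))

/-- Elements of order three modulo scalars, and their centralisers. -/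
theorem RData.three (O : Over p ω X) (D : RData ω X R) (h9 : ¬ 9 ∣ p - 1) :
    ∃ r : X ⧸ Zs X, orderOf r = 3 ∧ Nat.card (Subgroup.centralizer ({r} : Set (X ⧸ Zs X))) = 9 ∧
      (∀ x, x * r = r * x → x ^ 3 = 1) ∧ (∀ x : X ⧸ Zs X, orderOf x = 3 → ∃ g, g * r * g⁻¹ = x) ∧
      (∀ u x : X ⧸ Zs X, orderOf u = 2 → orderOf x = 3 → u * x ≠ x * u) := by
  classical
  obtain ⟨a, b, haR, hbR, ha, hb, hA3, hB3, hcomm⟩ := D.gens O
  set r : X ⧸ Zs X := QuotientGroup.mk a with hr
  have hw1 := root_ne O.three O.root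
  have hr1 : r ≠ 1 := by
    intro e
    obtain ⟨l, hl⟩ := mem_zs.mp ((QuotientGroup.eq_one_iff a).mp e)
    rw [ha] at hl
    have h0 := congrFun (congrFun hl 0) 0
    have h1 := congrFun (congrFun hl 1) 1
    simp [dA] at h0 h1
    exact hw1 (h1.trans h0.symm)
  have hr3 : orderOf r = 3 := orderOf_eq_prime hA3 hr1
  let R' : Subgroup X := R.subgroupOf X
  have hcent : Subgroup.centralizer ({r} : Set (X ⧸ Zs X)) = R'.map (QuotientGroup.mk' (Zs X)) := by
    refine le_antisymm (fun q hq => ?_) ?_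
    · obtain ⟨x, rfl⟩ := QuotientGroup.mk_surjective q
      exact ⟨x, D.cent_a O h9 ha (Subgroup.mem_centralizer_singleton_iff.mp hq), rfl⟩
    · rintro _ ⟨y, hy, rfl⟩
      obtain ⟨j, k, e⟩ := D.mk_form O ha hb hy
      rw [Subgroup.mem_centralizer_singleton_iff]
      show (QuotientGroup.mk y : X ⧸ Zs X) * r = r * QuotientGroup.mk y
      rw [e]
      exact ((Commute.pow_left (Commute.refl r) j).mul_left ((Commute.pow_left (hcomm.symm : Commute _ r) k))).eq
  have hcube : ∀ x, x * r = r * x → x ^ 3 = 1 := by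
    intro q hq
    have hq' : q ∈ R'.map (QuotientGroup.mk' (Zs X)) := hcent ▸ Subgroup.mem_centralizer_singleton_iff.mpr hq
    obtain ⟨y, hy, rfl⟩ := hq'
    rw [← map_pow, show y ^ 3 = 1 from Subtype.ext (D.exp _ hy), map_one]
  have hclass : ∀ x, orderOf x = 3 → ∃ g, g * r * g⁻¹ = x := by
    intro q hq
    obtain ⟨x, rfl⟩ := QuotientGroup.mk_surjective q
    haveI : Fact (Nat.Prime 3) := ⟨Nat.prime_three⟩
    have h9' : x ^ 3 ^ 2 = 1 := by
      rw [pow_two, pow_mul, O.zs_cube]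
      rw [← QuotientGroup.eq_one_iff, QuotientGroup.mk_pow]
      exact orderOf_dvd_iff_pow_eq_one.mp (dvd_of_eq hq)
    have hP : IsPGroup 3 (Subgroup.zpowers x) := by
      obtain ⟨m, -, hm⟩ := (Nat.dvd_prime_pow Nat.prime_three).mp (orderOf_dvd_of_pow_eq_one h9')
      exact IsPGroup.of_card (n := m) (by rw [Nat.card_zpowers, hm])
    have hfac : (Nat.card X).factorization 3 = 3 := by
      have h27 : 3 ^ 3 ∣ Nat.card X := by rw [show 3 ^ 3 = Nat.card R from D.card.symm]; exact Subgroup.card_dvd_of_le D.le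
      have h1 := (Nat.prime_three.pow_dvd_iff_le_factorization Nat.card_pos.ne').mp h27
      by_contra hne
      exact D.sylow ((Nat.prime_three.pow_dvd_iff_le_factorization (k := 4) Nat.card_pos.ne').mpr (by omega))
    let P : Sylow 3 X := Sylow.ofCard R' (by
      rw [hfac, Nat.card_congr (Subgroup.subgroupOfEquivOfLe D.le).toEquiv, D.card]; norm_num)
    obtain ⟨Q, hQ⟩ := hP.exists_le_sylow
    obtain ⟨g, hg⟩ := MulAction.exists_smul_eq X Q P
    have hmem : g * x * g⁻¹ ∈ (P : Subgroup X) := by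
      rw [← hg]
      exact Subgroup.smul_mem_pointwise_smul x (MulAut.conj g) _ (hQ (Subgroup.mem_zpowers x))
    obtain ⟨c, hc⟩ := D.conj_a O ha (y := g * x * g⁻¹) (by simpa [P, R', Subgroup.mem_subgroupOf] using hmem) (by
      rw [QuotientGroup.mk_mul, QuotientGroup.mk_mul, QuotientGroup.mk_inv, Ne, mul_inv_eq_one, mul_eq_left]
      intro e; rw [e, orderOf_one] at hq; omega)
    refine ⟨(QuotientGroup.mk g)⁻¹ * c, ?_⟩
    rw [show (QuotientGroup.mk g : X ⧸ Zs X)⁻¹ * c * r * ((QuotientGroup.mk g)⁻¹ * c)⁻¹ =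
      (QuotientGroup.mk g)⁻¹ * (c * r * c⁻¹) * QuotientGroup.mk g by group, hr, hc,
      QuotientGroup.mk_mul, QuotientGroup.mk_mul, QuotientGroup.mk_inv]
    group
  refine ⟨r, hr3, ?_, hcube, hclass, fun u x hu hx e => ?_⟩
  · rw [hcent]
    have h := Subgroup.card_eq_card_quotient_mul_card_subgroup ((QuotientGroup.mk' (Zs X)).subgroupMap R').ker
    rw [Nat.card_congr (QuotientGroup.quotientKerEquivOfSurjective _ ((QuotientGroup.mk' (Zs X)).subgroupMap_surjective R')).toEquiv,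
      Nat.card_congr (Subgroup.subgroupOfEquivOfLe D.le).toEquiv, D.card] at h
    obtain ⟨C, hC, hCv⟩ := D.memC
    let c : R' := ⟨⟨C, D.le hC⟩, hC⟩
    have hK : ((QuotientGroup.mk' (Zs X)).subgroupMap R').ker = Subgroup.zpowers c := by
      refine le_antisymm (fun y hy => ?_) ((Subgroup.zpowers_le).mpr (Subtype.ext ?_))
      · have hz : (y : X) ∈ Zs X := (QuotientGroup.eq_one_iff _).mp (congrArg Subtype.val hy)
        obtain ⟨l, hl⟩ := mem_zs.mp hz
        rcases cube_cases O.root (O.scalar_cube (y : X).2 hl) with e | e | e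
        · exact ⟨0, Subtype.ext (Subtype.ext (Units.ext (by simp [hl, e])))⟩
        · exact ⟨1, Subtype.ext (Subtype.ext (Units.ext (by simp [c, hl, hCv, e])))⟩
        · refine ⟨((2 : ℕ) : ℤ), ?_⟩
          show c ^ ((2 : ℕ) : ℤ) = y
          rw [zpow_natCast]
          exact Subtype.ext (Subtype.ext (Units.ext (by simp [c, hl, hCv, e, smul_pow])))
      · exact (QuotientGroup.eq_one_iff _).mpr (mem_zs.mpr ⟨ω, hCv⟩)
    have hcord : orderOf c = 3 := orderOf_eq_prime (Subtype.ext (Subtype.ext (D.exp C hC))) fun e => by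
      have : C = 1 := congrArg (fun z : R' => ((z : X) : GG)) e
      rw [this] at hCv
      exact hw1 (by simpa using (congrFun (congrFun hCv 0) 0).symm)
    rw [hK, Nat.card_zpowers, hcord] at h
    omega
  · obtain ⟨g, rfl⟩ := hclass x hx
    have e' : (g⁻¹ * u * g) * r = r * (g⁻¹ * u * g) := by
      calc (g⁻¹ * u * g) * r = g⁻¹ * (u * (g * r * g⁻¹)) * g := by group
        _ = r * (g⁻¹ * u * g) := by rw [e]; group
    have h3 := orderOf_dvd_of_pow_eq_one (hcube _ e')
    rw [show orderOf (g⁻¹ * u * g) = 2 by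
      rw [show g⁻¹ * u * g = MulAut.conj g⁻¹ u by simp, MulEquiv.orderOf_eq, hu]] at h3
    norm_num at h3

end Cfsg.Lib.Classical.SLThree
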