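import Mathlib
import Cfsg.Agent.Classical.SLThree.SymQuot
import Cfsg.Agent.Classical.SLThree.SymDiag

/-! Centralisers of elements not centralised by involutions. -/

set_option autoImplicit false
set_option linter.unusedSimpArgs false
set_option linter.unusedSectionVars false
set_option linter.style.haveILetI false

namespace Cfsg.Lib.Classical.SLThree

open Matrix LinOne
open scoped MatrixGroups

universe u

variable {F : Type u} [Field F]

local notation "MM" => Matrix (Fin 3) (Fin 3) F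
local notation "GG" => GL (Fin 3) F

/-- The support of a monomial matrix. -/
def Supp {K : Type u} [Field K] (M : Matrix (Fin 3) (Fin 3) K) (σ : Equiv.Perm (Fin 3)) : Prop :=
  ∀ i j, i ≠ σ j → M i j = 0

theorem Supp.col_ne {K : Type u} [Field K] {M : GL (Fin 3) K} {σ : Equiv.Perm (Fin 3)}
    (h : Supp (M : Matrix (Fin 3) (Fin 3) K) σ) (j : Fin 3) : (M : Matrix (Fin 3) (Fin 3) K) (σ j) j ≠ 0 := by
  intro e
  refine (Matrix.isUnits_det_units M).ne_zero (Matrix.det_eq_zero_of_column_eq_zero j fun i => ?_)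
  by_cases hi : i = σ j
  · rw [hi, e]
  · exact h i j hi

theorem Supp.unique {K : Type u} [Field K] {M : GL (Fin 3) K} {σ τ : Equiv.Perm (Fin 3)}
    (h : Supp (M : Matrix (Fin 3) (Fin 3) K) σ) (h' : Supp (M : Matrix (Fin 3) (Fin 3) K) τ) : σ = τ :=
  Equiv.ext fun j => by
    by_contra hne
    exact h.col_ne j (h' _ _ hne)

theorem Supp.mul {K : Type u} [Field K] {M N : Matrix (Fin 3) (Fin 3) K} {σ τ : Equiv.Perm (Fin 3)}
    (h : Supp M σ) (h' : Supp N τ) : Supp (M * N) (σ * τ) := by
  intro i j hij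
  rw [Matrix.mul_apply]
  refine Finset.sum_eq_zero fun k _ => ?_
  by_cases hk : k = τ j
  · rw [h i k (hk ▸ hij), zero_mul]
  · rw [h' k j hk, mul_zero]

theorem cover_disjoint (S : Fin 3 → Fin 3) (T : Fin 3 → Fin 3 → Prop) (hS : ∀ j, T j (S j))
    (hd : ∀ j k i, T j i → T k i → j = k) : Function.Injective S ∧ ∀ j i, T j i → i = S j := by
  have hinj : Function.Injective S := fun j k e => hd j k (S k) (e ▸ hS j) (hS k)
  refine ⟨hinj, fun j i hi => ?_⟩
  obtain ⟨k, rfl⟩ := (Finite.injective_iff_surjective.mp hinj) i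
  exact congrArg S (hd j k _ hi (hS k)).symm

/-- A matrix moving a diagonal matrix with distinct values to a diagonal one is monomial. -/
theorem exists_supp {K : Type u} [Field K] (M : GL (Fin 3) K) {d d' : Fin 3 → K} (hd : Function.Injective d)
    (h : diagonal d' * (M : Matrix (Fin 3) (Fin 3) K) = (M : Matrix (Fin 3) (Fin 3) K) * diagonal d) :
    ∃ σ, Supp (M : Matrix (Fin 3) (Fin 3) K) σ := by
  classical
  have he : ∀ i j, (M : Matrix (Fin 3) (Fin 3) K) i j ≠ 0 → d' i = d j := fun i j hne => by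
    have := congrFun (congrFun h i) j
    rw [Matrix.diagonal_mul, Matrix.mul_diagonal, mul_comm (((M : Matrix (Fin 3) (Fin 3) K)) i j)] at this
    exact mul_right_cancel₀ hne this
  have hex : ∀ j, ∃ i, (M : Matrix (Fin 3) (Fin 3) K) i j ≠ 0 := fun j => by
    by_contra hc
    push Not at hc
    exact (Matrix.isUnits_det_units M).ne_zero (Matrix.det_eq_zero_of_column_eq_zero j hc)
  choose S hS using hex
  obtain ⟨hinj, huni⟩ := cover_disjoint S (fun j i => (M : Matrix (Fin 3) (Fin 3) K) i j ≠ 0) hS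
    (fun j k i hj hk => hd ((he i j hj).symm.trans (he i k hk)))
  refine ⟨Equiv.ofBijective S ⟨hinj, Finite.injective_iff_surjective.mp hinj⟩, fun i j hij => ?_⟩
  by_contra hne
  exact hij (huni j i hne)

theorem scal_comm' (h2 : (2 : F) ≠ 0) {k g : GG} (hk : k ∈ Blk) (hg : g ∈ Blk) (hS : Scal k) : k * g = g * k := by
  obtain ⟨e01, e10, e⟩ := hS
  obtain ⟨a, b, c, d⟩ := (mem_blk h2).mp hk
  obtain ⟨a', b', c', d'⟩ := (mem_blk h2).mp hg
  refine Units.ext ?_
  rw [Units.val_mul, Units.val_mul]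
  ext i j
  fin_cases i <;> fin_cases j <;>
    simp [Matrix.mul_apply, Fin.sum_univ_three, a, b, c, d, a', b', c', d', e01, e10, e] <;> ring

variable [Fintype F] {p : ℕ} {ω : F} {X : Subgroup (GL (Fin 3) F)}

/-- Regular semisimple elements: abelian centraliser, and a permutation action of its normaliser. -/
theorem Over.regular_case (O : Over p ω X) {a : X} {n : ℕ} (hn : n.Coprime 3) (ha : a ^ n = 1)
    (P : GL (Fin 3) (AlgebraicClosure F)) {d : Fin 3 → AlgebraicClosure F} (hd : Function.Injective d)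
    (hP : ((a : GG) : MM).map (algebraMap F (AlgebraicClosure F)) * (P : Matrix (Fin 3) (Fin 3) (AlgebraicClosure F)) =
      (P : Matrix (Fin 3) (Fin 3) (AlgebraicClosure F)) * diagonal d) :
    (∀ q r : X ⧸ Zs X, q * QuotientGroup.mk a = QuotientGroup.mk a * q →
      r * QuotientGroup.mk a = QuotientGroup.mk a * r → q * r = r * q) ∧
    ∃ φ : Subgroup.normalizer (Subgroup.centralizer ({QuotientGroup.mk a} : Set (X ⧸ Zs X)) : Set (X ⧸ Zs X)) →*
        Equiv.Perm (Fin 3), ∀ m, φ m = 1 → (m : X ⧸ Zs X) * (QuotientGroup.mk a : X ⧸ Zs X) = QuotientGroup.mk a * (m : X ⧸ Zs X) := by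
  classical
  let L := AlgebraicClosure F
  let ι := algebraMap F L
  let PM : GG →* GL (Fin 3) L :=
    (MulAut.conj P⁻¹).toMonoidHom.comp (Matrix.GeneralLinearGroup.map ι)
  have hPM : ∀ g : GG, ((PM g : GL (Fin 3) L) : Matrix (Fin 3) (Fin 3) L) =
      ((P⁻¹ : GL (Fin 3) L) : Matrix (Fin 3) (Fin 3) L) * (g : MM).map ι * (P : Matrix (Fin 3) (Fin 3) L) := fun g => by
    simp [PM]
  have hinj : Function.Injective PM := fun g h e => by
    have e' : Matrix.GeneralLinearGroup.map ι g = Matrix.GeneralLinearGroup.map ι h := (MulAut.conj P⁻¹).injective e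
    refine Units.ext (Matrix.ext fun i j => ι.injective ?_)
    exact congrFun (congrFun (congrArg (fun z : GL (Fin 3) L => (z : Matrix (Fin 3) (Fin 3) L)) e') i) j
  have haD : ((PM a : GL (Fin 3) L) : Matrix (Fin 3) (Fin 3) L) = diagonal d := by
    rw [hPM, mul_assoc, hP, ← mul_assoc, Units.inv_mul, one_mul]
  have hdiag : ∀ y : X, (QuotientGroup.mk y : X ⧸ Zs X) * QuotientGroup.mk a = QuotientGroup.mk a * QuotientGroup.mk y →
      ∃ e : Fin 3 → L, ((PM y : GL (Fin 3) L) : Matrix (Fin 3) (Fin 3) L) = diagonal e := by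
    intro y hy
    have hc := congrArg (fun z : X => PM z) (O.comm_exact hn ha hy)
    simp only [Subgroup.coe_mul, map_mul] at hc
    have hc' := congrArg (fun z : GL (Fin 3) L => (z : Matrix (Fin 3) (Fin 3) L)) hc
    simp only [Units.val_mul, haD] at hc'
    refine ⟨fun i => ((PM y : GL (Fin 3) L) : Matrix (Fin 3) (Fin 3) L) i i, Matrix.ext fun i j => ?_⟩
    by_cases hij : i = j
    · subst hij; simp
    · rw [diagonal_apply_ne _ hij]
      have := congrFun (congrFun hc' i) j
      rw [Matrix.mul_diagonal, Matrix.diagonal_mul] at this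
      refine (mul_eq_zero.mp (show (d j - d i) * _ = 0 by linear_combination this)).resolve_left
        (sub_ne_zero.mpr fun e => hij (hd e).symm)
  have hab : ∀ q r : X ⧸ Zs X, q * QuotientGroup.mk a = QuotientGroup.mk a * q →
      r * QuotientGroup.mk a = QuotientGroup.mk a * r → q * r = r * q := by
    intro q r hq hr
    obtain ⟨y, rfl⟩ := QuotientGroup.mk_surjective q
    obtain ⟨z, rfl⟩ := QuotientGroup.mk_surjective r
    obtain ⟨e, he⟩ := hdiag y hq
    obtain ⟨f, hf⟩ := hdiag z hr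
    rw [← QuotientGroup.mk_mul, ← QuotientGroup.mk_mul]
    congr 1
    refine Subtype.ext (hinj (Units.ext ?_))
    rw [Subgroup.coe_mul, Subgroup.coe_mul, map_mul, map_mul, Units.val_mul, Units.val_mul, he, hf,
      diagonal_mul_diagonal, diagonal_mul_diagonal]
    simp [mul_comm]
  refine ⟨hab, ?_⟩
  set N := Subgroup.normalizer (Subgroup.centralizer ({QuotientGroup.mk a} : Set (X ⧸ Zs X)) : Set (X ⧸ Zs X))
  have hex : ∀ m : N, ∀ y : X, (QuotientGroup.mk y : X ⧸ Zs X) = m →
      ∃ σ, Supp ((PM y : GL (Fin 3) L) : Matrix (Fin 3) (Fin 3) L) σ := by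
    intro m y hy
    have hmem := ((Subgroup.mem_set_normalizer_iff.mp m.2) (QuotientGroup.mk a)).mp
      (Subgroup.mem_centralizer_singleton_iff.mpr rfl)
    rw [SetLike.mem_coe, Subgroup.mem_centralizer_singleton_iff, ← hy, ← QuotientGroup.mk_inv, ← QuotientGroup.mk_mul,
      ← QuotientGroup.mk_mul] at hmem
    obtain ⟨e, he⟩ := hdiag (y * a * y⁻¹) hmem
    refine exists_supp (PM y) hd (d' := e) ?_
    rw [← he, ← haD, ← Units.val_mul, ← Units.val_mul, Subgroup.coe_mul, Subgroup.coe_mul, Subgroup.coe_inv, map_mul,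
      map_mul, map_inv, inv_mul_cancel_right]
  let rep : N → X := fun m => (QuotientGroup.mk_surjective (m : X ⧸ Zs X)).choose
  have hrep : ∀ m : N, (QuotientGroup.mk (rep m) : X ⧸ Zs X) = m := fun m =>
    (QuotientGroup.mk_surjective (m : X ⧸ Zs X)).choose_spec
  choose σ hσ using fun m : N => hex m (rep m) (hrep m)
  let φ : N →* Equiv.Perm (Fin 3) := MonoidHom.mk' σ fun m k => by
    refine (hσ (m * k)).unique ?_
    obtain ⟨l, hl⟩ := qmk_eq.mp (show (QuotientGroup.mk (rep m * rep k) : X ⧸ Zs X) = QuotientGroup.mk (rep (m * k)) by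
      rw [QuotientGroup.mk_mul, hrep, hrep, hrep]; rfl)
    have hval : ((PM (rep (m * k)) : GL (Fin 3) L) : Matrix (Fin 3) (Fin 3) L) =
        ι l • (((PM (rep m) : GL (Fin 3) L) : Matrix (Fin 3) (Fin 3) L) * (PM (rep k) : GL (Fin 3) L)) := by
      have hm : ∀ M : MM, (l • M).map ι = ι l • M.map ι := fun M => Matrix.ext fun i j => by simp
      rw [← Units.val_mul, ← map_mul, hPM, hPM, hl, Subgroup.coe_mul, hm, Matrix.mul_smul, Matrix.smul_mul]
    intro i j hij
    rw [hval, Matrix.smul_apply, (hσ m).mul (hσ k) i j hij, smul_zero]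
  refine ⟨φ, fun m hm => ?_⟩
  rw [← hrep m, ← QuotientGroup.mk_mul, ← QuotientGroup.mk_mul]
  congr 1
  refine Subtype.ext (hinj (Units.ext ?_))
  have hs := hσ m
  change σ m = 1 at hm
  rw [hm] at hs
  rw [Subgroup.coe_mul, Subgroup.coe_mul, map_mul, map_mul, Units.val_mul, Units.val_mul, haD]
  ext i j
  rw [Matrix.mul_diagonal, Matrix.diagonal_mul]
  by_cases hij : i = j
  · subst hij; ring
  · rw [hs i j hij, mul_zero, zero_mul]

/-- An element centralised by neither involutions nor elements of order three. -/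
theorem Over.semi (O : Over p ω X) {x : X ⧸ Zs X} (hx1 : x ≠ 1) (hp : ¬ p ∣ orderOf x)
    (hnone : ∀ q : X ⧸ Zs X, q * x = x * q → orderOf q ≠ 2 ∧ orderOf q ≠ 3) :
    (∀ q r : X ⧸ Zs X, q * x = x * q → r * x = x * r → q * r = r * q) ∧
    ∃ φ : Subgroup.normalizer (Subgroup.centralizer ({x} : Set (X ⧸ Zs X)) : Set (X ⧸ Zs X)) →* Equiv.Perm (Fin 3),
      ∀ m, φ m = 1 → (m : X ⧸ Zs X) * x = x * m := by
  classical
  haveI : Fact p.Prime := ⟨O.prime⟩
  haveI : CharP F p := charP_of_card_eq_prime O.card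
  have hpow : ∀ q : X ⧸ Zs X, q * x = x * q → ∀ r, r.Prime → r ∣ orderOf q → r ≠ 2 ∧ r ≠ 3 := by
    intro q hq r hr hd
    obtain ⟨k, hk⟩ := hd
    have hpos := orderOf_pos q
    have hk0 : k ≠ 0 := fun e => by rw [e, mul_zero] at hk; omega
    have ho : orderOf (q ^ k) = r := by
      rw [orderOf_pow' _ hk0, hk, Nat.gcd_eq_right (dvd_mul_left k r)]
      exact Nat.mul_div_cancel _ (Nat.pos_of_ne_zero hk0)
    have := hnone (q ^ k) ((show Commute q x from hq).pow_left k).eq
    rwa [ho] at this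
  set n := orderOf x with hn
  have hn2 : ¬ 2 ∣ n := fun h => (hpow x rfl 2 Nat.prime_two h).1 rfl
  have hn3 : n.Coprime 3 := by
    rw [Nat.coprime_comm]
    exact Nat.prime_three.coprime_iff_not_dvd.mpr fun h => (hpow x rfl 3 Nat.prime_three h).2 rfl
  have hnF : (n : F) ≠ 0 := O.num hp
  obtain ⟨a, rfl, ha⟩ := O.exists_lift hn3 (pow_orderOf_eq_one x)
  have hag : (a : GG) ^ n = 1 := by rw [← Subgroup.coe_pow, ha]; rfl
  have hns : ∀ l : F, ((a : GG) : MM) ≠ l • 1 := fun l hl =>
    hx1 ((QuotientGroup.eq_one_iff _).mpr (mem_zs.mpr ⟨l, hl⟩))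
  rcases split_cases (algebraMap F (AlgebraicClosure F)) O.two (a : GG) hnF hag hns with
    ⟨P, d, hd, hP⟩ | ⟨Q, α, γ, hαγ, hQ⟩
  · exact O.regular_case hn3 ha P hd hP
  -- a homology
  set K := X.comap (MulAut.conj Q).toMonoidHom with hK
  have hconj : ∀ g : GG, ((Q⁻¹ * g * Q : GG) : MM) = ((Q⁻¹ : GG) : MM) * (g : MM) * (Q : MM) := fun g => by
    simp only [Units.val_mul]
  set aq : GG := Q⁻¹ * (a : GG) * Q with haq
  have hav : (aq : MM) = diagonal ![α, α, γ] := by
    rw [haq, hconj, mul_assoc, hQ, ← mul_assoc, Units.inv_mul, one_mul]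
  have haK : aq ∈ Blk := (mem_blk O.two).mpr (by simp [hav])
  have haS : Scal aq := by simp [Scal, hav]
  have hdet : α ^ 2 * γ = 1 := by
    have := O.det _ a.2
    have h2 := congrArg Matrix.det hQ
    rw [Matrix.det_mul, Matrix.det_mul, this, one_mul, Matrix.det_diagonal, Fin.prod_univ_three] at h2
    simp at h2
    have h3 := mul_left_cancel₀ (Matrix.isUnits_det_units Q).ne_zero ((mul_one _).trans h2)
    linear_combination -h3
  have hα0 : α ≠ 0 := fun e => by rw [e] at hdet; simp at hdet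
  have hγ0 : γ ≠ 0 := fun e => by rw [e] at hdet; simp at hdet
  have hneg : α + γ ≠ 0 := by
    intro e
    have h1 : (aq : MM) ^ n = 1 := by
      rw [← Units.val_pow_eq_pow_val, haq]
      have : (Q⁻¹ * (a : GG) * Q) ^ n = 1 := by
        rw [show Q⁻¹ * (a : GG) * Q = MulAut.conj Q⁻¹ (a : GG) by simp, ← map_pow, hag, map_one]
      rw [this, Units.val_one]
    rw [hav, diagonal_pow] at h1
    have a0 := congrFun (congrFun h1 0) 0
    have a2 := congrFun (congrFun h1 2) 2
    simp at a0 a2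
    rw [eq_neg_of_add_eq_zero_right e, Odd.neg_pow (Nat.odd_iff.mpr (by omega)), a0] at a2
    exact O.two (by linear_combination -a2)
  -- commuting elements are the ones fixing the point and the line
  have hblk : ∀ y : X, (QuotientGroup.mk y : X ⧸ Zs X) * QuotientGroup.mk a = QuotientGroup.mk a * QuotientGroup.mk y →
      Q⁻¹ * (y : GG) * Q ∈ Blk := by
    intro y hy
    have hc : (y : GG) * a = a * y := congrArg Subtype.val (O.comm_exact hn3 ha hy)
    have hc' : (Q⁻¹ * (y : GG) * Q) * aq = aq * (Q⁻¹ * (y : GG) * Q) := by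
      calc (Q⁻¹ * (y : GG) * Q) * aq = Q⁻¹ * ((y : GG) * a) * Q := by rw [haq]; group
        _ = _ := by rw [hc, haq]; group
    generalize Q⁻¹ * (y : GG) * Q = v at hc' ⊢
    have h := congrArg (fun g : GG => (g : MM)) hc'
    simp only [Units.val_mul, hav] at h
    have hne := sub_ne_zero.mpr hαγ
    refine (mem_blk O.two).mpr ⟨?_, ?_, ?_, ?_⟩
    · have := congrFun (congrFun h 0) 2
      rw [Matrix.mul_diagonal, Matrix.diagonal_mul] at this
      simp at this
      exact (mul_eq_zero.mp (show (α - γ) * _ = 0 by linear_combination -this)).resolve_left hne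
    · have := congrFun (congrFun h 1) 2
      rw [Matrix.mul_diagonal, Matrix.diagonal_mul] at this
      simp at this
      exact (mul_eq_zero.mp (show (α - γ) * _ = 0 by linear_combination -this)).resolve_left hne
    · have := congrFun (congrFun h 2) 0
      rw [Matrix.mul_diagonal, Matrix.diagonal_mul] at this
      simp at this
      exact (mul_eq_zero.mp (show (α - γ) * _ = 0 by linear_combination this)).resolve_left hne
    · have := congrFun (congrFun h 2) 1
      rw [Matrix.mul_diagonal, Matrix.diagonal_mul] at this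
      simp at this
      exact (mul_eq_zero.mp (show (α - γ) * _ = 0 by linear_combination this)).resolve_left hne
  have hKmem : ∀ y : X, Q⁻¹ * (y : GG) * Q ∈ K := fun y => by
    show Q * (Q⁻¹ * (y : GG) * Q) * Q⁻¹ ∈ X
    rw [show Q * (Q⁻¹ * (y : GG) * Q) * Q⁻¹ = (y : GG) by group]
    exact y.2
  haveI := finite_img O.two K
  let C := K.subgroupOf Blk
  let κ : C →* X := MonoidHom.mk' (fun z => ⟨Q * ((z : (Blk : Subgroup GG)) : GG) * Q⁻¹, z.2⟩) fun z w =>
    Subtype.ext (by simp [mul_assoc])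
  have hκc : ∀ z : C, (QuotientGroup.mk (κ z) : X ⧸ Zs X) * QuotientGroup.mk a = QuotientGroup.mk a * QuotientGroup.mk (κ z) := by
    intro z
    rw [← QuotientGroup.mk_mul, ← QuotientGroup.mk_mul]
    congr 1
    refine Subtype.ext ?_
    have h := scal_comm' O.two haK (z : (Blk : Subgroup GG)).2 haS
    show Q * ((z : (Blk : Subgroup GG)) : GG) * Q⁻¹ * (a : GG) = (a : GG) * (Q * ((z : (Blk : Subgroup GG)) : GG) * Q⁻¹)
    rw [haq] at h
    calc Q * ((z : (Blk : Subgroup GG)) : GG) * Q⁻¹ * (a : GG)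
        = Q * (((z : (Blk : Subgroup GG)) : GG) * (Q⁻¹ * (a : GG) * Q)) * Q⁻¹ := by group
      _ = (a : GG) * (Q * ((z : (Blk : Subgroup GG)) : GG) * Q⁻¹) := by rw [← h]; group
  let φ : C →* img O.two K := (pr O.two).subgroupMap C
  have hφs : Function.Surjective φ := (pr O.two).subgroupMap_surjective C
  have hscal : ∀ z : C, (QuotientGroup.mk (κ z) : X ⧸ Zs X) = 1 → φ z = 1 := by
    intro z hz
    obtain ⟨l, hl⟩ := mem_zs.mp ((QuotientGroup.eq_one_iff _).mp hz)
    refine Subtype.ext ((pr_eq_one O.two).mpr ?_)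
    have e : (((z : (Blk : Subgroup GG)) : GG) : MM) = l • 1 := by
      have h := congrArg (fun M : MM => ((Q⁻¹ : GG) : MM) * M * (Q : MM)) hl
      simp only [κ, MonoidHom.mk'_apply, Units.val_mul] at h
      simpa [mul_assoc, ← mul_assoc ((Q⁻¹ : GG) : MM) (Q : MM)] using h
    simp [Scal, e]
  have hcyc : IsCyclic (img O.two K) := by
    have hord : ∀ h : img O.two K, orderOf h ≠ 2 ∧ orderOf h ≠ 3 := by
      intro h
      obtain ⟨z, rfl⟩ := hφs h
      have hd : orderOf (φ z) ∣ orderOf (QuotientGroup.mk (κ z) : X ⧸ Zs X) :=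
        orderOf_dvd_of_pow_eq_one (by
          rw [← map_pow]
          exact hscal _ (by rw [map_pow, QuotientGroup.mk_pow, pow_orderOf_eq_one]))
      refine ⟨fun e => (hpow _ (hκc z) 2 Nat.prime_two ((dvd_of_eq e.symm).trans hd)).1 rfl, fun e => (hpow _ (hκc z) 3 Nat.prime_three ((dvd_of_eq e.symm).trans hd)).2 rfl⟩
    cases img_shape O.two K (p := p) (O.noel.conj Q) with
    | cyclic h => exact h
    | dihedral m hm e =>
      obtain ⟨e⟩ := e
      exact absurd (by rw [e.symm.orderOf_eq, DihedralGroup.orderOf_sr]) (hord (e.symm (DihedralGroup.sr 0))).1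
    | tet e =>
      obtain ⟨e⟩ := e
      refine absurd ?_ (hord (e.symm ⟨Equiv.swap 0 1 * Equiv.swap 1 2, Equiv.Perm.mem_alternatingGroup.mpr (by decide)⟩)).2
      rw [e.symm.orderOf_eq, ← Subgroup.orderOf_coe]
      exact orderOf_eq_prime (p := 3) (by decide) (by decide)
    | oct e =>
      obtain ⟨e⟩ := e
      refine absurd ?_ (hord (e.symm (Equiv.swap 0 1 * Equiv.swap 1 2))).2
      rw [e.symm.orderOf_eq]
      exact orderOf_eq_prime (p := 3) (by decide) (by decide)
    | ico e =>
      obtain ⟨e⟩ := e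
      refine absurd ?_ (hord (e.symm ⟨Equiv.swap 0 1 * Equiv.swap 1 2, Equiv.Perm.mem_alternatingGroup.mpr (by decide)⟩)).2
      rw [e.symm.orderOf_eq, ← Subgroup.orderOf_coe]
      exact orderOf_eq_prime (p := 3) (by decide) (by decide)
  have hab : ∀ q r : X ⧸ Zs X, q * QuotientGroup.mk a = QuotientGroup.mk a * q →
      r * QuotientGroup.mk a = QuotientGroup.mk a * r → q * r = r * q := by
    intro q r hq hr
    obtain ⟨y, rfl⟩ := QuotientGroup.mk_surjective q
    obtain ⟨y', rfl⟩ := QuotientGroup.mk_surjective r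
    let z : C := ⟨⟨_, hblk y hq⟩, hKmem y⟩
    let z' : C := ⟨⟨_, hblk y' hr⟩, hKmem y'⟩
    have hz : κ z = y := Subtype.ext (show Q * (Q⁻¹ * (y : GG) * Q) * Q⁻¹ = y by group)
    have hz' : κ z' = y' := Subtype.ext (show Q * (Q⁻¹ * (y' : GG) * Q) * Q⁻¹ = y' by group)
    have e := congrArg Subtype.val (hcyc.isMulCommutative.is_comm.comm (φ z) (φ z'))
    have e' : pr O.two ((z * z' : C) : (Blk : Subgroup GG)) = pr O.two ((z' * z : C) : (Blk : Subgroup GG)) := by
      rw [Subgroup.coe_mul, Subgroup.coe_mul, map_mul, map_mul]; exact e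
    obtain ⟨ε, hε, he⟩ := pr_eq O.two e' (by
      rw [Subgroup.coe_mul, Subgroup.coe_mul, Subgroup.coe_mul, Subgroup.coe_mul, d2_mul O.two z.1.2 z'.1.2,
        d2_mul O.two z'.1.2 z.1.2, mul_comm])
    have he00 := he 0 0; have he01 := he 0 1; have he10 := he 1 0; have he11 := he 1 1
    simp only [Fin.castSucc_zero, Fin.castSucc_one] at he00 he01 he10 he11
    set U : GG := (((z * z' : C) : (Blk : Subgroup GG)) : GG) with hU
    set V : GG := (((z' * z : C) : (Blk : Subgroup GG)) : GG) with hV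
    have h22 : (U : MM) 2 2 = (V : MM) 2 2 := by
      have a1 := dl_mul O.two z.1.2 z'.1.2
      have a2 := dl_mul O.two z'.1.2 z.1.2
      exact (a1.trans (mul_comm _ _)).trans a2.symm
    obtain ⟨u1, u2, u3, u4⟩ := (mem_blk O.two).mp (z * z' : C).1.2
    obtain ⟨v1, v2, v3, v4⟩ := (mem_blk O.two).mp (z' * z : C).1.2
    rw [← hU] at u1 u2 u3 u4
    rw [← hV] at v1 v2 v3 v4
    rcases mul_self_eq_one_iff.mp hε with hε | hε <;> rw [hε] at he00 he01 he10 he11
    · rw [← hz, ← hz', ← QuotientGroup.mk_mul, ← QuotientGroup.mk_mul, ← map_mul, ← map_mul]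
      congr 2
      refine Subtype.ext (Subtype.ext (Units.ext ?_))
      show (U : MM) = (V : MM)
      ext i j
      fin_cases i <;> fin_cases j <;> simp [u1, u2, u3, u4, v1, v2, v3, v4, he00, he01, he10, he11, h22]
    · exfalso
      set w : C := (z * z') * (z' * z)⁻¹ with hw
      have hwv : (((w : (Blk : Subgroup GG)) : GG) : MM) = diagonal ![-1, -1, 1] := by
        refine (Units.isUnit V).mul_right_cancel ?_
        have e0 : ((w : (Blk : Subgroup GG)) : GG) * V = U := by
          rw [hV, hU, ← Subgroup.coe_mul, ← Subgroup.coe_mul, hw, inv_mul_cancel_right]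
        rw [← Units.val_mul, e0]
        ext i j
        fin_cases i <;> fin_cases j <;>
          simp [Matrix.diagonal_mul, u1, u2, u3, u4, v1, v2, v3, v4, he00, he01, he10, he11, h22]
      have hw2 : (QuotientGroup.mk (κ w) : X ⧸ Zs X) ^ 2 = 1 := by
        rw [← QuotientGroup.mk_pow, ← map_pow, show w ^ 2 = 1 from Subtype.ext (Subtype.ext (Units.ext (by
          rw [Subgroup.coe_pow, Subgroup.coe_pow, Units.val_pow_eq_pow_val, hwv, pow_two, diagonal_mul_diagonal]
          rw [Subgroup.coe_one, Subgroup.coe_one, Units.val_one, ← diagonal_one]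
          congr 1
          funext i; fin_cases i <;> simp))), map_one]
        rfl
      refine (hnone _ (hκc w)).1 (orderOf_eq_prime hw2 fun h1 => ?_)
      obtain ⟨l, hl⟩ := mem_zs.mp ((QuotientGroup.eq_one_iff _).mp h1)
      have e : (((w : (Blk : Subgroup GG)) : GG) : MM) = l • 1 := by
        have h := congrArg (fun M : MM => ((Q⁻¹ : GG) : MM) * M * (Q : MM)) hl
        simp only [κ, MonoidHom.mk'_apply, Units.val_mul] at h
        simpa [mul_assoc, ← mul_assoc ((Q⁻¹ : GG) : MM) (Q : MM)] using h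
      rw [hwv] at e
      have a0 := congrFun (congrFun e 0) 0
      have a2 := congrFun (congrFun e 2) 2
      simp at a0 a2
      exact O.two (by linear_combination a2 - a0)
  refine ⟨hab, ?_⟩
  set N := Subgroup.normalizer (Subgroup.centralizer ({QuotientGroup.mk a} : Set (X ⧸ Zs X)) : Set (X ⧸ Zs X))
  by_cases hfix : ∀ m : N, (m : X ⧸ Zs X) * (QuotientGroup.mk a : X ⧸ Zs X) = QuotientGroup.mk a * (m : X ⧸ Zs X)
  · exact ⟨1, fun m _ => hfix m⟩
  push Not at hfix
  obtain ⟨m, hm⟩ := hfix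
  obtain ⟨g, hg⟩ := QuotientGroup.mk_surjective (m : X ⧸ Zs X)
  set y := g * a * g⁻¹ with hy
  have hyc : (QuotientGroup.mk y : X ⧸ Zs X) * QuotientGroup.mk a = QuotientGroup.mk a * QuotientGroup.mk y := by
    have hmem := ((Subgroup.mem_set_normalizer_iff.mp m.2) (QuotientGroup.mk a)).mp
      (Subgroup.mem_centralizer_singleton_iff.mpr rfl)
    rw [SetLike.mem_coe, Subgroup.mem_centralizer_singleton_iff] at hmem
    rw [hy, QuotientGroup.mk_mul, QuotientGroup.mk_mul, QuotientGroup.mk_inv, hg]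
    exact hmem
  have hya : y * a = a * y := O.comm_exact hn3 ha hyc
  set yq : GG := Q⁻¹ * (y : GG) * Q with hyq
  obtain ⟨b02, b12, b20, b21⟩ := (mem_blk O.two).mp (hblk y hyc)
  rw [← hyq] at b02 b12 b20 b21
  set h : GG := Q⁻¹ * (g : GG) * Q with hh
  have hyconj : (yq : MM) * (h : MM) = (h : MM) * diagonal ![α, α, γ] := by
    rw [← hav, ← Units.val_mul, ← Units.val_mul, hyq, hh, hy, haq]
    congr 1
    simp only [Subgroup.coe_mul, Subgroup.coe_inv]
    group
  obtain ⟨ty, -, dy⟩ := diag_invariants hyconj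
  simp at ty dy
  rw [Matrix.trace_fin_three] at ty
  rw [Matrix.det_fin_three, b02, b12, b20, b21] at dy
  set b00 := (yq : MM) 0 0 with hb00
  set b01 := (yq : MM) 0 1 with hb01
  set b10 := (yq : MM) 1 0 with hb10
  set b11 := (yq : MM) 1 1 with hb11
  set δ := (yq : MM) 2 2 with hδ
  have hkill : ((yq : MM) - α • 1) * ((yq : MM) - γ • 1) = 0 := by
    refine (Units.isUnit h).mul_right_cancel ?_
    have e : ∀ c : F, ((yq : MM) - c • 1) * (h : MM) = (h : MM) * (diagonal ![α, α, γ] - c • 1) := fun c => by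
      rw [sub_mul, hyconj, Matrix.smul_mul, Matrix.one_mul, mul_sub, Matrix.mul_smul, Matrix.mul_one]
    rw [zero_mul, mul_assoc, e, ← mul_assoc, e, mul_assoc]
    convert mul_zero (h : MM)
    rw [Matrix.smul_one_eq_diagonal, Matrix.smul_one_eq_diagonal, diagonal_sub, diagonal_sub, diagonal_mul_diagonal,
      ← diagonal_zero]
    congr 1
    funext i; fin_cases i <;> simp
  have k22 := congrFun (congrFun hkill 2) 2
  have k00 := congrFun (congrFun hkill 0) 0
  have k01 := congrFun (congrFun hkill 0) 1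
  have k10 := congrFun (congrFun hkill 1) 0
  have k11 := congrFun (congrFun hkill 1) 1
  simp [Matrix.mul_apply, Fin.sum_univ_three, b02, b12, b20, b21, ← hb00, ← hb01, ← hb10, ← hb11, ← hδ] at k22 k00 k01 k10 k11
  have hne := sub_ne_zero.mpr hαγ
  rcases k22 with h22 | h22
  swap
  · -- the same homology
    exfalso
    have hδγ : δ = γ := by linear_combination h22
    have hT : b00 + b11 - 2 * α = 0 := by linear_combination ty - hδγ
    have hD : b00 * b11 - b01 * b10 - α ^ 2 = 0 := mul_right_cancel₀ hγ0 (by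
      linear_combination dy - (b00 * b11 - b01 * b10) * hδγ)
    have e00 : b00 = α := sub_eq_zero.mp ((mul_eq_zero.mp (show (α - γ) * (b00 - α) = 0 by
      linear_combination k00 - b00 * hT + hD)).resolve_left hne)
    have e01 : b01 = 0 := (mul_eq_zero.mp (show (α - γ) * b01 = 0 by
      linear_combination k01 - b01 * hT)).resolve_left hne
    have e10 : b10 = 0 := (mul_eq_zero.mp (show (α - γ) * b10 = 0 by
      linear_combination k10 - b10 * hT)).resolve_left hne
    have e11 : b11 = α := by linear_combination hT - e00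
    have hyeq : yq = aq := Units.ext (by
      rw [hav]; ext i j
      fin_cases i <;> fin_cases j <;> simp [b02, b12, b20, b21, ← hb00, ← hb01, ← hb10, ← hb11, ← hδ, e00, e01, e10, e11, hδγ])
    have hyy : y = a := by
      refine Subtype.ext ?_
      rw [hyq, haq, mul_left_inj, mul_right_inj] at hyeq
      exact hyeq
    refine hm ?_
    rw [← hg, ← QuotientGroup.mk_mul, ← QuotientGroup.mk_mul]
    congr 1
    calc g * a = y * g := by rw [hy, inv_mul_cancel_right]
      _ = a * g := by rw [hyy]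
  -- a regular element in the centraliser
  have hδα : δ = α := by linear_combination h22
  have hT : b00 + b11 = α + γ := by linear_combination ty - hδα
  have hD : b00 * b11 - b01 * b10 = α * γ := mul_right_cancel₀ hα0 (by
    linear_combination dy - (b00 * b11 - b01 * b10) * hδα)
  set z := a * (y * y) with hz
  have hzn : z ^ n = 1 := by
    have hc : Commute a (y * y) := (show Commute a y from hya.symm).mul_right (show Commute a y from hya.symm)
    rw [hz, hc.mul_pow, ha, one_mul, ← pow_two, ← pow_mul, mul_comm, pow_mul,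
      show y ^ n = 1 by rw [hy, ← MulAut.conj_apply, ← map_pow, ha, map_one], one_pow]
  have hzc : (QuotientGroup.mk z : X ⧸ Zs X) * QuotientGroup.mk a = QuotientGroup.mk a * QuotientGroup.mk z := by
    rw [← QuotientGroup.mk_mul, ← QuotientGroup.mk_mul]
    congr 1
    exact ((Commute.refl a).mul_left ((show Commute y a from hya).mul_left (show Commute y a from hya))).eq
  set zq : GG := Q⁻¹ * (z : GG) * Q with hzq
  have hzv : (zq : MM) = !![α * (b00 * b00 + b01 * b10), α * (b01 * (b00 + b11)), 0;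
      α * (b10 * (b00 + b11)), α * (b11 * b11 + b01 * b10), 0; 0, 0, γ * (α * α)] := by
    have e : zq = aq * (yq * yq) := by
      rw [hzq, haq, hyq, hz]; simp only [Subgroup.coe_mul]; group
    rw [e, Units.val_mul aq, Units.val_mul yq yq, hav]
    ext i j
    fin_cases i <;> fin_cases j <;>
      simp [Matrix.diagonal_mul, Matrix.mul_apply, Fin.sum_univ_three, b02, b12, b20, b21, ← hb00, ← hb01, ← hb10, ← hb11, ← hδ,
        hδα] <;> first | ring1 | (left; ring1)
  have hT1 : (zq : MM).trace = α * (α ^ 2 + γ ^ 2) + γ * α ^ 2 := by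
    rw [Matrix.trace_fin_three, hzv]
    simp
    have e : b00 * b00 + b11 * b11 + 2 * (b01 * b10) = α ^ 2 + γ ^ 2 := by
      calc b00 * b00 + b11 * b11 + 2 * (b01 * b10) = (b00 + b11) ^ 2 - 2 * (b00 * b11 - b01 * b10) := by ring
        _ = α ^ 2 + γ ^ 2 := by rw [hT, hD]; ring
    linear_combination α * e
  have hT2 : ((zq : MM) * (zq : MM)).trace = α ^ 2 * (α ^ 4 + γ ^ 4) + γ ^ 2 * α ^ 4 := by
    rw [Matrix.trace_fin_three, hzv]
    simp [Matrix.mul_apply, Fin.sum_univ_three]
    have e : (b00 * b00 + b01 * b10) ^ 2 + (b11 * b11 + b01 * b10) ^ 2 + 2 * (b01 * b10) * (b00 + b11) ^ 2 =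
        α ^ 4 + γ ^ 4 := by
      calc (b00 * b00 + b01 * b10) ^ 2 + (b11 * b11 + b01 * b10) ^ 2 + 2 * (b01 * b10) * (b00 + b11) ^ 2
          = ((b00 + b11) ^ 2 - 2 * (b00 * b11 - b01 * b10)) ^ 2 - 2 * (b00 * b11 - b01 * b10) ^ 2 := by ring
        _ = α ^ 4 + γ ^ 4 := by rw [hT, hD]; ring
    linear_combination α ^ 2 * e
  have hT3 : (zq : MM).det = 1 := by
    have := O.det _ z.2
    rw [hzq, hconj, Matrix.det_mul, Matrix.det_mul, this, mul_one, ← Matrix.det_mul, Units.inv_mul, Matrix.det_one]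
  -- its three values are distinct
  have nodouble : ∀ u w : F, (zq : MM).trace = 2 * u + w → ((zq : MM) * (zq : MM)).trace = 2 * u ^ 2 + w ^ 2 →
      (zq : MM).det = u ^ 2 * w → False := by
    intro u w e1 e2 e3
    rw [hT1] at e1; rw [hT2] at e2; rw [hT3] at e3
    set r1 := α ^ 3 with hr1
    set r2 := α * γ ^ 2 with hr2
    set r3 := α ^ 2 * γ with hr3
    have s2 : r1 * r2 + r1 * r3 + r2 * r3 = u ^ 2 + 2 * u * w := mul_left_cancel₀ O.two (by
      rw [hr1, hr2, hr3]
      linear_combination (α * (α ^ 2 + γ ^ 2) + γ * α ^ 2 + 2 * u + w) * e1 - e2)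
    have s3 : r1 * r2 * r3 = u ^ 2 * w := by
      rw [hr1, hr2, hr3]
      linear_combination e3 + ((α ^ 2 * γ) ^ 2 + α ^ 2 * γ + 1) * hdet
    have s1 : r1 + r2 + r3 = 2 * u + w := by rw [hr1, hr2, hr3]; linear_combination e1
    have g0 : (u - r1) * (u - r2) * (u - r3) = 0 := by linear_combination (-u ^ 2) * s1 + u * s2 - s3
    have g1 : (u - r2) * (u - r3) + (u - r1) * (u - r3) + (u - r1) * (u - r2) = 0 := by
      linear_combination (-2 * u) * s1 + s2
    have d12 : r1 - r2 ≠ 0 := by
      rw [hr1, hr2, show α ^ 3 - α * γ ^ 2 = α * (α - γ) * (α + γ) by ring]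
      exact mul_ne_zero (mul_ne_zero hα0 hne) hneg
    have d13 : r1 - r3 ≠ 0 := by
      rw [hr1, hr3, show α ^ 3 - α ^ 2 * γ = α ^ 2 * (α - γ) by ring]
      exact mul_ne_zero (pow_ne_zero 2 hα0) hne
    have d23 : r2 - r3 ≠ 0 := by
      rw [hr2, hr3, show α * γ ^ 2 - α ^ 2 * γ = -(α * γ * (α - γ)) by ring]
      exact neg_ne_zero.mpr (mul_ne_zero (mul_ne_zero hα0 hγ0) hne)
    rcases mul_eq_zero.mp g0 with h | h
    · rcases mul_eq_zero.mp h with h | h
      · have hu : u = r1 := sub_eq_zero.mp h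
        rw [hu] at g1
        exact mul_ne_zero d12 d13 (by linear_combination g1)
      · have hu : u = r2 := sub_eq_zero.mp h
        rw [hu] at g1
        exact mul_ne_zero d12 d23 (by linear_combination -g1)
    · have hu : u = r3 := sub_eq_zero.mp h
      rw [hu] at g1
      exact mul_ne_zero d13 d23 (by linear_combination g1)
  have hzn' : (zq : GG) ^ n = 1 := by
    rw [hzq, show Q⁻¹ * (z : GG) * Q = MulAut.conj Q⁻¹ (z : GG) by simp, ← map_pow, ← Subgroup.coe_pow, hzn]; simp
  have hnsz : ∀ l : F, (zq : MM) ≠ l • 1 := fun l hl => nodouble l l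
    (by rw [hl, Matrix.trace_smul, Matrix.trace_one]; simp; ring)
    (by rw [hl, smul_mul_smul_comm, mul_one, Matrix.trace_smul, Matrix.trace_one]; simp; ring)
    (by rw [hl, Matrix.det_smul, Matrix.det_one]; simp; ring)
  rcases split_cases (algebraMap F (AlgebraicClosure F)) O.two zq hnF hzn' hnsz with ⟨P, d, hd, hP⟩ | ⟨Q', u, w, -, hQ'⟩
  swap
  · obtain ⟨t1, t2, t3⟩ := diag_invariants hQ'
    exact (nodouble u w (by rw [t1]; simp; ring) (by rw [t2]; simp; ring) (by rw [t3]; show u * u * w = _; ring)).elim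
  set PQ : GL (Fin 3) (AlgebraicClosure F) := Matrix.GeneralLinearGroup.map (algebraMap F (AlgebraicClosure F)) Q * P with hPQ
  obtain ⟨hzab, φz, hφz⟩ := O.regular_case hn3 hzn PQ hd (by
    have e : ((z : GG) : MM) = (Q : MM) * (zq : MM) * ((Q⁻¹ : GG) : MM) := by
      rw [← Units.val_mul, ← Units.val_mul, hzq]; congr 1; group
    have hQmap : ((Matrix.GeneralLinearGroup.map (algebraMap F (AlgebraicClosure F)) Q : GL (Fin 3) (AlgebraicClosure F)) :
        Matrix (Fin 3) (Fin 3) (AlgebraicClosure F)) = (Q : MM).map (algebraMap F (AlgebraicClosure F)) := rfl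
    have hQQ : ((Q⁻¹ : GG) : MM).map (algebraMap F (AlgebraicClosure F)) * (Q : MM).map (algebraMap F (AlgebraicClosure F)) = 1 := by
      rw [← RingHom.mapMatrix_apply, ← RingHom.mapMatrix_apply, ← map_mul, Units.inv_mul, map_one]
    rw [hPQ, Units.val_mul, e, Matrix.map_mul, Matrix.map_mul, hQmap]
    simp only [mul_assoc]
    rw [← mul_assoc (((Q⁻¹ : GG) : MM).map _), hQQ, one_mul, hP])
  have hC : Subgroup.centralizer ({QuotientGroup.mk z} : Set (X ⧸ Zs X)) =
      Subgroup.centralizer ({QuotientGroup.mk a} : Set (X ⧸ Zs X)) := by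
    ext q
    rw [Subgroup.mem_centralizer_singleton_iff, Subgroup.mem_centralizer_singleton_iff]
    exact ⟨fun hq => hzab q _ hq hzc.symm, fun hq => hab q _ hq hzc⟩
  have hNN : N ≤ Subgroup.normalizer (Subgroup.centralizer ({QuotientGroup.mk z} : Set (X ⧸ Zs X)) : Set (X ⧸ Zs X)) := by
    rw [hC]
  refine ⟨φz.comp (Subgroup.inclusion hNN), fun k hk => ?_⟩
  exact Subgroup.mem_centralizer_singleton_iff.mp (hC ▸ Subgroup.mem_centralizer_singleton_iff.mpr (hφz _ hk))

end Cfsg.Lib.Classical.SLThree
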