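import Mathlib
import Cfsg.Prelude.Def_GeometricClasses
import Cfsg.Agent.Classical.Misc.ExtraThree
import Cfsg.Agent.Classical.SLThree.SymHom
import Cfsg.Agent.Classical.PrimeDim.Heisenberg

/-! The Heisenberg group `3^{1+2}` in standard coordinates. -/

set_option autoImplicit false
set_option linter.unusedSimpArgs false
set_option linter.unusedSectionVars false
set_option linter.style.haveILetI false

namespace Cfsg.Lib.Classical.SLThree

open Matrix LinOne
open scoped MatrixGroups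
open Cfsg.Lib.Classical.ExtraThree (dA mB root_pow root_ne cube_cases Frame)

universe u

variable {F : Type u} [Field F]

local notation "MM" => Matrix (Fin 3) (Fin 3) F
local notation "GG" => GL (Fin 3) F

/-- The standard Heisenberg group. -/
structure Std (ω : F) (R : Subgroup (GL (Fin 3) F)) (c a b : GL (Fin 3) F) : Prop where
  frame : Frame R ω 1 c a b
  three : (3 : F) ≠ 0
  card : Nat.card R = 27
  exp : ∀ y ∈ R, y ^ 3 = 1

variable {ω : F} {R : Subgroup (GL (Fin 3) F)} {c a b : GL (Fin 3) F}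

theorem Std.root (S : Std ω R c a b) : ω ^ 2 + ω + 1 = 0 := S.frame.root

theorem Std.val_a (S : Std ω R c a b) : (a : MM) = dA ω := by
  simpa using S.frame.eqa

theorem Std.val_b (S : Std ω R c a b) : (b : MM) = mB := by
  simpa using S.frame.eqb

theorem dA_cube (h : ω ^ 2 + ω + 1 = 0) : dA ω ^ 3 = (1 : MM) := by
  rw [dA, Matrix.diagonal_pow, ← Matrix.diagonal_one]
  congr 1
  funext i
  fin_cases i <;> simp [← pow_mul, root_pow h]
  rw [show 6 = 3 * 2 from rfl, pow_mul, root_pow h, one_pow]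

theorem mB_cube : (mB : MM) ^ 3 = 1 := by
  rw [pow_three]
  ext i j
  fin_cases i <;> fin_cases j <;> simp [mB, Matrix.mul_apply, Fin.sum_univ_three]

theorem mB_dA (h : ω ^ 2 + ω + 1 = 0) : (mB : MM) * dA ω = ω ^ 2 • (dA ω * mB) := by
  have h3 := root_pow h
  ext i j
  fin_cases i <;> fin_cases j <;> simp [mB, dA, Matrix.mul_apply, Fin.sum_univ_three, Matrix.diagonal] <;>
    first | linear_combination (-1 : F) * h3 | linear_combination (-ω) * h3 | linear_combination h3 | linear_combination ω * h3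

theorem mB_dA_pow (h : ω ^ 2 + ω + 1 = 0) (k j : ℕ) :
    (mB : MM) ^ k * dA ω ^ j = ω ^ (2 * k * j) • (dA ω ^ j * mB ^ k) := by
  have h1 : ∀ k : ℕ, (mB : MM) ^ k * dA ω = ω ^ (2 * k) • (dA ω * mB ^ k) := by
    intro k
    induction k with
    | zero => simp
    | succ k ih =>
      rw [pow_succ', Matrix.mul_assoc, ih, Matrix.mul_smul, ← Matrix.mul_assoc, mB_dA h, Matrix.smul_mul, smul_smul, Matrix.mul_assoc,
        ← pow_succ', ← pow_add, show 2 * k + 2 = 2 * (k + 1) by ring]
  induction j with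
  | zero => simp
  | succ j ih =>
    rw [pow_succ, ← Matrix.mul_assoc, ih, Matrix.smul_mul, Matrix.mul_assoc, h1, Matrix.mul_smul, smul_smul, ← Matrix.mul_assoc,
      ← pow_succ, ← pow_add, show 2 * k * j + 2 * k = 2 * k * (j + 1) by ring]

/-- Multiplication of monomials. -/
theorem mono_mul (h : ω ^ 2 + ω + 1 = 0) (i j k i' j' k' : ℕ) :
    ω ^ i • (dA ω ^ j * (mB : MM) ^ k) * (ω ^ i' • (dA ω ^ j' * mB ^ k')) =
      ω ^ (i + i' + 2 * k * j') • (dA ω ^ (j + j') * mB ^ (k + k')) := by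
  rw [Matrix.smul_mul, Matrix.mul_smul, smul_smul, ← Matrix.mul_assoc, Matrix.mul_assoc (dA ω ^ j), mB_dA_pow h,
    Matrix.mul_smul, Matrix.smul_mul, smul_smul, ← Matrix.mul_assoc, ← pow_add, Matrix.mul_assoc, ← pow_add, ← pow_add,
    ← pow_add]

theorem Std.form (S : Std ω R c a b) : ∀ y ∈ R, ∃ i j k : ℕ, (y : MM) = ω ^ i • (dA ω ^ j * mB ^ k) := by
  intro y hy
  rw [← S.frame.gen] at hy
  induction hy using Subgroup.closure_induction with
  | mem x hx =>
    rcases hx with rfl | rfl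
    · exact ⟨0, 1, 0, by rw [S.val_a]; simp⟩
    · exact ⟨0, 0, 1, by rw [S.val_b]; simp⟩
  | one => exact ⟨0, 0, 0, by simp⟩
  | mul x y _ _ hx hy =>
    obtain ⟨i, j, k, hx⟩ := hx
    obtain ⟨i', j', k', hy⟩ := hy
    exact ⟨_, _, _, by rw [Units.val_mul, hx, hy, mono_mul S.root]⟩
  | inv x hxR hx =>
    obtain ⟨i, j, k, hx⟩ := hx
    rw [S.frame.gen] at hxR
    refine ⟨_, _, _, (?_ : _ = ω ^ (i + i + 2 * k * j) • (dA ω ^ (j + j) * mB ^ (k + k)))⟩
    rw [show x⁻¹ = x * x by rw [inv_eq_iff_mul_eq_one, ← S.exp x hxR, pow_three], Units.val_mul, hx, mono_mul S.root]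

/-- The reduced form. -/
theorem Std.form3 (S : Std ω R c a b) {y : GG} (hy : y ∈ R) :
    ∃ i j k : ℕ, j < 3 ∧ k < 3 ∧ (y : MM) = ω ^ i • (dA ω ^ j * mB ^ k) := by
  obtain ⟨i, j, k, e⟩ := S.form y hy
  refine ⟨i, j % 3, k % 3, Nat.mod_lt _ (by norm_num), Nat.mod_lt _ (by norm_num), ?_⟩
  rw [e]
  nth_rewrite 1 [← Nat.div_add_mod j 3, ← Nat.div_add_mod k 3]
  rw [pow_add, pow_add, pow_mul, pow_mul, dA_cube S.root, mB_cube, one_pow, one_pow, one_mul, one_mul]

theorem Std.mono_mem (S : Std ω R c a b) (i j k : ℕ) : ∃ y ∈ R, (y : MM) = ω ^ i • (dA ω ^ j * mB ^ k) :=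
  ⟨c ^ i * (a ^ j * b ^ k),
    R.mul_mem (R.pow_mem S.frame.mem_c _) (R.mul_mem (R.pow_mem S.frame.mem_a _) (R.pow_mem S.frame.mem_b _)), by
    rw [Units.val_mul, Units.val_mul, Units.val_pow_eq_pow_val, Units.val_pow_eq_pow_val, Units.val_pow_eq_pow_val,
      S.frame.eqc, S.val_a, S.val_b, smul_pow, one_pow, Matrix.smul_mul, one_mul]⟩

/-- Matrices commuting with both generators are scalar. -/
theorem scalar_of_comm (h3 : (3 : F) ≠ 0) (h : ω ^ 2 + ω + 1 = 0) {M : MM} (hA : M * dA ω = dA ω * M)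
    (hB : M * mB = mB * M) : M = M 0 0 • 1 := by
  have hω1 := root_ne h3 h
  have hω3 := root_pow h
  have hω0 : ω ≠ 0 := fun e => by rw [e] at hω3; simp at hω3
  have hoff : ∀ o l : Fin 3, o ≠ l → M o l = 0 := fun o l hol => by
    have e := congrFun (congrFun hA o) l
    rw [dA, Matrix.diagonal_mul, Matrix.mul_diagonal] at e
    have e' : (![1, ω, ω ^ 2] l - ![1, ω, ω ^ 2] o) * M o l = 0 := by linear_combination e
    refine (mul_eq_zero.mp e').resolve_left ?_
    have h21 : ω ^ 2 ≠ 1 := fun e => hω1 (by linear_combination (-ω) * e + hω3)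
    have h2w : ω ^ 2 ≠ ω := fun e => hω1 (mul_left_cancel₀ hω0 (by linear_combination e))
    fin_cases o <;> fin_cases l <;> first
      | exact absurd rfl hol
      | simp [sub_eq_zero, hω1, hω1.symm, h21, h21.symm, h2w, h2w.symm]
  have h10 := congrFun (congrFun hB 1) 0
  have h21 := congrFun (congrFun hB 2) 1
  simp [mB, Matrix.mul_apply, Fin.sum_univ_three] at h10 h21
  ext o l
  fin_cases o <;> fin_cases l <;> simp [hoff] <;> first
    | exact hoff _ _ (by decide)
    | exact h10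
    | exact h10.symm
    | exact h21.trans h10
    | exact (h21.trans h10).symm
    | exact h21.symm.trans h10
    | exact h10.trans h21

/-- A non-scalar element of the group and its image under the Fourier matrix do not commute. -/
theorem Std.fab (S : Std ω R c a b) {f : GG} (hfA : (f : MM) * dA ω = mB ^ 2 * (f : MM))
    (hfB : (f : MM) * mB = dA ω * (f : MM)) {y : GG} (hy : y ∈ R) (hns : ∀ l : F, (y : MM) ≠ l • 1) :
    y * (f * y * f⁻¹) ≠ f * y * f⁻¹ * y := by
  obtain ⟨i, j, k, hj, hk, e⟩ := S.form3 hy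
  have hfi : ((f : MM)) * ((f⁻¹ : GG) : MM) = 1 := by rw [← Units.val_mul, mul_inv_cancel, Units.val_one]
  have hpowA : ∀ n : ℕ, (f : MM) * dA ω ^ n = mB ^ (2 * n) * (f : MM) := fun n => by
    induction n with
    | zero => simp
    | succ n ih =>
      rw [pow_succ, ← mul_assoc, ih, mul_assoc, hfA, ← mul_assoc, ← pow_add, mul_add, mul_one]
  have hpowB : ∀ n : ℕ, (f : MM) * mB ^ n = dA ω ^ n * (f : MM) := fun n => by
    induction n with
    | zero => simp
    | succ n ih => rw [pow_succ, ← mul_assoc, ih, mul_assoc, hfB, ← mul_assoc, ← pow_succ]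
  have e' : ((f * y * f⁻¹ : GG) : MM) = ω ^ (i + 2 * (2 * j) * k) • (dA ω ^ k * mB ^ (2 * j)) := by
    rw [Units.val_mul, Units.val_mul, e, Matrix.mul_smul, ← mul_assoc (f : MM), hpowA, mul_assoc (mB ^ (2 * j)),
      hpowB, ← mul_assoc, Matrix.smul_mul, mul_assoc, hfi, mul_one, mB_dA_pow S.root, smul_smul, ← pow_add]
  intro hcon
  have h := congrArg (fun g : GG => (g : MM)) hcon
  simp only [Units.val_mul y, Units.val_mul _ y, e, e', mono_mul S.root] at h
  rw [show k + j = j + k by ring, show 2 * j + k = k + 2 * j by ring] at h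
  obtain ⟨P, -, hP⟩ := S.mono_mem 0 (j + k) (k + 2 * j)
  rw [pow_zero, one_smul] at hP
  have hne : dA ω ^ (j + k) * (mB : MM) ^ (k + 2 * j) ≠ 0 := hP ▸ Units.ne_zero P
  have h' := smul_left_injective F hne h
  have hω1 := root_ne S.three S.root
  have hω2 : ω ^ 2 ≠ 1 := fun e => hω1 (by linear_combination (-ω) * e + root_pow S.root)
  have hprim : orderOf ω = 3 := orderOf_eq_prime (hp := ⟨Nat.prime_three⟩) (root_pow S.root) hω1
  rw [← pow_mod_orderOf ω (i + _ + _), hprim, ← pow_mod_orderOf ω (i + 2 * (2 * j) * k + i + _), hprim] at h'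
  have h'' := pow_injOn_Iio_orderOf (x := ω) (Set.mem_Iio.mpr (by rw [hprim]; exact Nat.mod_lt _ (by norm_num)))
    (Set.mem_Iio.mpr (by rw [hprim]; exact Nat.mod_lt _ (by norm_num))) h'
  interval_cases j <;> interval_cases k <;> first
    | omega
    | exact hns (ω ^ i) (by rw [e]; simp)

variable [Fintype F]

/-- A subgroup of the group stable under the Fourier matrix and not scalar is the whole group. -/
theorem Std.eq_of_stable (S : Std ω R c a b) {f : GG} (hfA : (f : MM) * dA ω = mB ^ 2 * (f : MM))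
    (hfB : (f : MM) * mB = dA ω * (f : MM)) {L : Subgroup GG} (hL : L ≤ R) (hf : ∀ y ∈ L, f * y * f⁻¹ ∈ L)
    {y : GG} (hy : y ∈ L) (hns : ∀ l : F, (y : MM) ≠ l • 1) : L = R := by
  classical
  have hne := S.fab hfA hfB (hL hy) hns
  refine Subgroup.eq_of_le_of_card_ge hL ?_
  rw [S.card]
  have hd : Nat.card L ∣ 27 := S.card ▸ Subgroup.card_dvd_of_le hL
  rcases Cfsg.Lib.Classical.ExtraThree.card_cases hd with h | h | h | h
  iterate 3
    exfalso
    exact hne (congrArg Subtype.val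
      (Cfsg.Lib.Classical.ExtraThree.comm_of_card (G := L) (by omega) ⟨y, hy⟩ ⟨f * y * f⁻¹, hf y hy⟩))
  omega

/-- A determinant-one matrix twisting both generators by scalars lies in the group. -/
theorem Std.mem_of_twist (S : Std ω R c a b) {g : GG} (hdet : (g : MM).det = 1) {l m : F}
    (hA : (g : MM) * dA ω = l • (dA ω * (g : MM))) (hB : (g : MM) * mB = m • (mB * (g : MM))) : g ∈ R := by
  have h3 := root_pow S.root
  have hcube : ∀ (l : F) (A : MM), A ^ 3 = 1 → (g : MM) * A = l • (A * (g : MM)) → l ^ 3 = 1 := by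
    intro l A hA3 h
    have e := Cfsg.Lib.Classical.PrimeDim.twist_pow_right h 3
    rw [hA3, mul_one, one_mul] at e
    have e' : (1 : F) • (g : MM) = l ^ 3 • (g : MM) := by rw [one_smul]; exact e
    exact (smul_left_injective F (Units.ne_zero g) e').symm
  have hexp : ∀ s : F, s ^ 3 = 1 → ∃ n : ℕ, s = ω ^ n := fun s hs => by
    rcases cube_cases S.root hs with h | h | h
    exacts [⟨0, by simpa using h⟩, ⟨1, by simpa using h⟩, ⟨2, h⟩]
  obtain ⟨u, rfl⟩ := hexp l (hcube l _ (dA_cube S.root) hA)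
  obtain ⟨v, rfl⟩ := hexp m (hcube m _ mB_cube hB)
  obtain ⟨P, hPR, hP⟩ := S.mono_mem 0 v (2 * u)
  rw [pow_zero, one_smul] at hP
  have hPA : (P : MM) * dA ω = ω ^ u • (dA ω * (P : MM)) := by
    have e := mB_dA_pow S.root (2 * u) 1
    rw [pow_one] at e
    rw [hP, Matrix.mul_assoc, e, Matrix.mul_smul, ← Matrix.mul_assoc, ← pow_succ, ← Matrix.mul_assoc (dA ω),
      ← pow_succ', show 2 * (2 * u) * 1 = 3 * u + u by ring, pow_add ω, pow_mul, h3, one_pow, one_mul]
  have hPB : (P : MM) * mB = ω ^ v • (mB * (P : MM)) := by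
    have e := mB_dA_pow S.root 1 v
    rw [pow_one] at e
    rw [hP, ← Matrix.mul_assoc mB, e, Matrix.smul_mul, smul_smul, Matrix.mul_assoc, ← pow_succ, Matrix.mul_assoc,
      ← pow_succ', ← pow_add, show v + 2 * 1 * v = 3 * v by ring, pow_mul, h3, one_pow, one_smul]
  set M : MM := ((P⁻¹ : GG) : MM) * (g : MM) with hM
  have hgM : (g : MM) = (P : MM) * M := by
    rw [hM, ← mul_assoc, ← Units.val_mul P, mul_inv_cancel, Units.val_one, one_mul]
  have hcomm : ∀ (A : MM) (s : F), s ≠ 0 → (g : MM) * A = s • (A * (g : MM)) → (P : MM) * A = s • (A * (P : MM)) →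
      M * A = A * M := fun A s hs h1 h2 => by
    refine (Units.isUnit P).mul_left_cancel ?_
    calc (P : MM) * (M * A) = (g : MM) * A := by rw [← Matrix.mul_assoc, ← hgM]
      _ = s • (A * ((P : MM) * M)) := by rw [h1, hgM]
      _ = (s • (A * (P : MM))) * M := by rw [Matrix.smul_mul, Matrix.mul_assoc]
      _ = (P : MM) * (A * M) := by rw [← h2, Matrix.mul_assoc]
  have hω0 : ω ≠ 0 := fun e => by rw [e] at h3; simp at h3
  have hs := scalar_of_comm S.three S.root (hcomm _ _ (pow_ne_zero _ hω0) hA hPA)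
    (hcomm _ _ (pow_ne_zero _ hω0) hB hPB)
  have hdP : (P : MM).det = 1 := by
    rw [hP, Matrix.det_mul, Matrix.det_pow, Matrix.det_pow,
      show (dA ω).det = 1 by simp [dA, Matrix.det_diagonal, Fin.prod_univ_three]; linear_combination h3,
      show (mB : MM).det = 1 by simp [mB, Matrix.det_fin_three], one_pow, one_pow, one_mul]
  rw [hgM, Matrix.det_mul, hdP, one_mul, hs, Matrix.det_smul, Matrix.det_one, mul_one, Fintype.card_fin] at hdet
  obtain ⟨n, hn⟩ := hexp _ hdet
  obtain ⟨y, hy, hyv⟩ := S.mono_mem n v (2 * u)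
  suffices g = y by rw [this]; exact hy
  refine Units.ext ?_
  rw [hyv, ← hP, hgM, hs, hn, Matrix.mul_smul, mul_one]

end Cfsg.Lib.Classical.SLThree
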