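import Mathlib
import Cfsg.Agent.Classical.SLThree.SymCentr

/-! The centraliser of the inverting involution: the determinant character, and the case `p ≡ 1 mod 9`. -/

set_option autoImplicit false
set_option linter.unusedSimpArgs false
set_option linter.unusedSectionVars false
set_option linter.style.haveILetI false

namespace Cfsg.Lib.Classical.SLThree

open Matrix LinOne
open scoped MatrixGroups
open Cfsg.Lib.Classical.ExtraThree (dA mB root_pow root_ne cube_cases)

universe u

variable {F : Type u} [Field F]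

local notation "MM" => Matrix (Fin 3) (Fin 3) F
local notation "GG" => GL (Fin 3) F

theorem lastInv_mem_blk (h2 : (2 : F) ≠ 0) : (lastInv : GG) ∈ Blk := Subgroup.mem_centralizer_singleton_iff.mpr rfl

theorem lastInv_val : ((lastInv : GG) : MM) = diagonal ![-1, -1, 1] := rfl

/-- The cube of the value at the point. -/
noncomputable def chi (h2 : (2 : F) ≠ 0) : (Blk : Subgroup GG) →* Fˣ :=
  MonoidHom.mk' (fun g => Units.mk0 (dl (g : GG)) (dl_ne h2 g.2) ^ 3) fun g h => by
    rw [← mul_pow]
    congr 1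
    exact Units.ext (dl_mul h2 g.2 h.2)

theorem chi_val (h2 : (2 : F) ≠ 0) (g : (Blk : Subgroup GG)) : ((chi h2 g : Fˣ) : F) = dl (g : GG) ^ 3 := by
  simp [chi]

variable [Fintype F] {p : ℕ} {ω : F} {X : Subgroup (GL (Fin 3) F)}

/-- Scalars on the line are scalars up to the inverting involution. -/
theorem Over.scal_cases (O : Over p ω X) {x : GG} (hx : x ∈ Xq O.two X) (hb : x ∈ Blk) (hS : Scal x) :
    ∃ l : F, l ^ 3 = 1 ∧ ((x : MM) = l • 1 ∨ (x : MM) = l • diagonal ![-1, -1, 1]) := by
  obtain ⟨e02, e12, e20, e21⟩ := (mem_blk O.two).mp hb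
  obtain ⟨e01, e10, e⟩ := hS
  set a := (x : MM) 0 0 with ha
  set b := (x : MM) 2 2 with hbd
  have hd := O.detQ hx
  rw [blk_det O.two hb, d2, dl, e01, ← e, ← ha, ← hbd] at hd
  have hab : a * a * b = 1 := by linear_combination hd
  set g := qGL O.two * x * (qGL O.two)⁻¹ with hg
  have hgX : g ∈ X := hx
  have hval : (g : MM) = !![a, 0, 0; 0, (a + b) / 2, (a - b) / 2; 0, (a - b) / 2, (a + b) / 2] := by
    refine (Units.isUnit (qGL O.two)).mul_right_cancel ?_
    rw [← Units.val_mul, hg, inv_mul_cancel_right, Units.val_mul]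
    show qM * (x : MM) = _ * qM
    have h2 := O.two
    rw [qM]
    ext i j
    fin_cases i <;> fin_cases j <;>
      simp [Matrix.mul_apply, Fin.sum_univ_three, e01, e10, e02, e12, e20, e21, ← e, ← ha, ← hbd] <;>
      field_simp <;> ring1
  have hform : ∀ l : F, l = a ∨ l = -a → l ^ 3 = 1 → b = l := by
    intro l hl hl3
    have ha0 : a ≠ 0 := left_ne_zero_of_mul (left_ne_zero_of_mul_eq_one hab)
    refine mul_left_cancel₀ (mul_ne_zero ha0 ha0) ?_
    rcases hl with rfl | rfl
    · linear_combination hab - hl3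
    · linear_combination hab - hl3
  rcases O.homology_pm hgX hval (by have := O.two; field_simp; ring) with h | h
  · refine ⟨a, h, Or.inl ?_⟩
    have := hform a (Or.inl rfl) h
    ext i j
    fin_cases i <;> fin_cases j <;> simp [e01, e10, e02, e12, e20, e21, ← e, ← ha, ← hbd, this]
  · refine ⟨-a, by linear_combination -h, Or.inr ?_⟩
    have := hform (-a) (Or.inr rfl) (by linear_combination -h)
    ext i j
    fin_cases i <;> fin_cases j <;> simp [e01, e10, e02, e12, e20, e21, ← e, ← ha, ← hbd, this]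

/-- The character factors through the image in `PSL₂`. -/
theorem Over.exists_chi (O : Over p ω X) : ∃ f : img O.two (Xq O.two X) →* Fˣ, ∀ (x : (Blk : Subgroup GG))
    (hx : (x : GG) ∈ Xq O.two X), f ⟨pr O.two x, mem_img O.two _ hx x.2⟩ = chi O.two x := by
  let C := (Xq O.two X).subgroupOf Blk
  let φ : C →* img O.two (Xq O.two X) := (pr O.two).subgroupMap C
  have hs : Function.Surjective φ := (pr O.two).subgroupMap_surjective C
  let θ : C →* Fˣ := (chi O.two).comp C.subtype
  have hker : φ.ker ≤ θ.ker := by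
    intro x hx
    have h1 : pr O.two (x : (Blk : Subgroup GG)) = 1 := congrArg Subtype.val hx
    obtain ⟨l, hl, h⟩ := O.scal_cases (Subgroup.mem_subgroupOf.mp x.2) x.1.2 ((pr_eq_one O.two).mp h1)
    refine Units.ext ?_
    show ((chi O.two (x : (Blk : Subgroup GG)) : Fˣ) : F) = 1
    rw [chi_val, dl]
    rcases h with h | h <;> rw [h] <;> simp [hl]
  refine ⟨φ.liftOfSurjective hs ⟨θ, hker⟩, fun x hx => ?_⟩
  have : (⟨pr O.two x, mem_img O.two _ hx x.2⟩ : img O.two (Xq O.two X)) = φ ⟨x, hx⟩ := rfl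
  rw [this, MonoidHom.liftOfRightInverse_comp_apply]
  rfl

/-- Involutions of the centraliser other than the central one. -/
theorem Over.inv_other (O : Over p ω X) {x : (Blk : Subgroup GG)} (hx : (x : GG) ∈ Xq O.two X)
    (hxx : (x : GG) * x = 1) (h1 : (x : GG) ≠ 1) (ht : (x : GG) ≠ lastInv) :
    dl (x : GG) = -1 ∧ d2 (x : GG) = -1 ∧ tr2 (x : GG) = 0 := by
  obtain ⟨e02, e12, e20, e21⟩ := (mem_blk O.two).mp x.2
  have h := congrArg (fun g : GG => (g : MM)) hxx
  simp only [Units.val_mul, Units.val_one] at h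
  have g22 := congrFun (congrFun h 2) 2
  have g00 := congrFun (congrFun h 0) 0
  have g01 := congrFun (congrFun h 0) 1
  have g10 := congrFun (congrFun h 1) 0
  have g11 := congrFun (congrFun h 1) 1
  simp [Matrix.mul_apply, Fin.sum_univ_three, e02, e12, e20, e21] at g22 g00 g01 g10 g11
  set a := ((x : GG) : MM) 0 0 with ha
  set b := ((x : GG) : MM) 0 1 with hb
  set c := ((x : GG) : MM) 1 0 with hc
  set d := ((x : GG) : MM) 1 1 with hd
  have hdet := O.detQ hx
  rw [blk_det O.two x.2, d2, dl, ← ha, ← hb, ← hc, ← hd] at hdet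
  rcases mul_self_eq_one_iff.mp g22 with h22 | h22
  · exfalso
    rw [h22, mul_one] at hdet
    by_cases hs : a + d = 0
    · exact O.two (by linear_combination -g00 - hdet + a * hs)
    · have hb0 : b = 0 := (mul_eq_zero.mp (show (a + d) * b = 0 by linear_combination g01)).resolve_left hs
      have hc0 : c = 0 := (mul_eq_zero.mp (show (a + d) * c = 0 by linear_combination g10)).resolve_left hs
      rw [hb0, zero_mul, sub_zero] at hdet
      rw [hb0, zero_mul, add_zero] at g00
      rcases mul_self_eq_one_iff.mp g00 with ha1 | ha1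
      · refine h1 (Units.ext (Matrix.ext fun i j => ?_))
        rw [ha1, one_mul] at hdet
        fin_cases i <;> fin_cases j <;> simp [e02, e12, e20, e21, ← ha, ← hb, ← hc, ← hd, ha1, hb0, hc0, hdet, h22]
      · refine ht (Units.ext (Matrix.ext fun i j => ?_))
        have hd1 : d = -1 := by rw [ha1] at hdet; linear_combination -hdet
        rw [lastInv_val]
        fin_cases i <;> fin_cases j <;> simp [e02, e12, e20, e21, ← ha, ← hb, ← hc, ← hd, ha1, hb0, hc0, hd1, h22]
  · rw [h22] at hdet
    refine ⟨h22, by rw [d2, ← ha, ← hb, ← hc, ← hd]; linear_combination -hdet, ?_⟩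
    rw [tr2, ← ha, ← hd]
    exact eq_zero_of_pow_eq_zero (n := 2) (by linear_combination g00 + g11 - 2 * hdet)

theorem Over.chi_inv_other (O : Over p ω X) {x : (Blk : Subgroup GG)} (hx : (x : GG) ∈ Xq O.two X)
    (hxx : (x : GG) * x = 1) (h1 : (x : GG) ≠ 1) (ht : (x : GG) ≠ lastInv) : chi O.two x = -1 := by
  refine Units.ext ?_
  rw [chi_val, (O.inv_other hx hxx h1 ht).1]
  norm_num

theorem Over.neg_one_ne (O : Over p ω X) : (-1 : Fˣ) ≠ 1 := fun e =>
  O.two (by have := congrArg Units.val e; simp at this; linear_combination -this)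

/-- No second involution centralises the inverting one when nine divides `p - 1`. -/
theorem Over.no_inv_nine (O : Over p ω X) {ζ : F} (hζ : ζ ^ 3 = ω) (hD : InK X (ζ • diagonal ![1, ω, ω]))
    {x : (Blk : Subgroup GG)} (hx : (x : GG) ∈ Xq O.two X) (hxx : (x : GG) * x = 1) (h1 : (x : GG) ≠ 1)
    (ht : (x : GG) ≠ lastInv) : False := by
  haveI := finite_img O.two (Xq O.two X)
  obtain ⟨f, hf⟩ := O.exists_chi
  obtain ⟨D, hDX, hDv⟩ := hD.toQ (h2 := O.two) (N := diagonal ![ζ, ζ * ω, ζ * ω]) (by
    rw [qM]; ext i j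
    fin_cases i <;> fin_cases j <;> simp [Matrix.diagonal, Matrix.mul_apply, Fin.sum_univ_three])
  have hDb : D ∈ Blk := (mem_blk O.two).mpr (by simp [hDv])
  have hs := hf x hx
  rw [O.chi_inv_other hx hxx h1 ht] at hs
  have hd := hf ⟨D, hDb⟩ hDX
  have hval : ((chi O.two (⟨D, hDb⟩ : (Blk : Subgroup GG)) : Fˣ) : F) = ω := by
    rw [chi_val, dl, hDv]
    simp
    rw [mul_pow, hζ, root_pow O.root, mul_one]
  rcases O.shapeQ.hom_values f with hc | h | h
  · obtain ⟨a, b, ha, hb, -, -, haa, hbb, -, ha1, hb1, hne⟩ := O.quat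
    exact not_cyclic hc (x := ⟨pr O.two a, mem_img O.two _ ha a.2⟩) (y := ⟨pr O.two b, mem_img O.two _ hb b.2⟩)
      (Subtype.ext haa) (Subtype.ext hbb) (fun e => ha1 (congrArg Subtype.val e)) (fun e => hb1 (congrArg Subtype.val e))
      (fun e => hne (congrArg Subtype.val e))
  · have := congrArg Units.val (h ⟨pr O.two ⟨D, hDb⟩, mem_img O.two _ hDX hDb⟩)
    rw [Units.val_pow_eq_pow_val, hd, hval, Units.val_one] at this
    exact root_ne O.three O.root (by linear_combination root_pow O.root - ω * this)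
  · have := h ⟨pr O.two x, mem_img O.two _ hx x.2⟩
    rw [hs] at this
    exact O.neg_one_ne (by simpa [pow_succ] using this)

end Cfsg.Lib.Classical.SLThree
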