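import Mathlib
import Cfsg.Agent.Classical.SLThree.SymIso
import Cfsg.Agent.Classical.SLThree.SymQuot

/-! The centraliser of the inverting involution when nine does not divide `p - 1`. -/

set_option autoImplicit false
set_option linter.unusedSimpArgs false
set_option linter.unusedSectionVars false
set_option linter.style.haveILetI false

namespace Cfsg.Lib.Classical.SLThree

open Matrix LinOne
open scoped MatrixGroups
open Cfsg.Lib.Classical.ExtraThree (dA mB root_pow root_ne cube_cases)

universe u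

variable {F : Type u} [Field F]

local notation "MM" => Matrix (Fin 3) (Fin 3) F
local notation "GG" => GL (Fin 3) F

theorem scal_comm (h2 : (2 : F) ≠ 0) {k g : GG} (hk : k ∈ Blk) (hg : g ∈ Blk) (hS : Scal k) : k * g = g * k := by
  obtain ⟨e01, e10, e⟩ := hS
  obtain ⟨a, b, c, d⟩ := (mem_blk h2).mp hk
  obtain ⟨a', b', c', d'⟩ := (mem_blk h2).mp hg
  refine Units.ext ?_
  rw [Units.val_mul, Units.val_mul]
  ext i j
  fin_cases i <;> fin_cases j <;>
    simp [Matrix.mul_apply, Fin.sum_univ_three, a, b, c, d, a', b', c', d', e01, e10, e] <;> ring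

/-- Two involutions are conjugate or commute with a third one. -/
theorem conj_or_third {G : Type*} [Group G] [Finite G] {u v : G} (hu : orderOf u = 2) (hv : orderOf v = 2) :
    (∃ g, g * u * g⁻¹ = v) ∨ ∃ z, orderOf z = 2 ∧ z * u = u * z ∧ z * v = v * z := by
  have huu : u * u = 1 := by rw [← pow_two, ← hu, pow_orderOf_eq_one]
  have hvv : v * v = 1 := by rw [← pow_two, ← hv, pow_orderOf_eq_one]
  set w := u * v with hw
  have hiu : ∀ j : ℕ, u * w ^ j * u⁻¹ = (w ^ j)⁻¹ := fun j => by
    rw [← conj_pow, ← inv_pow]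
    congr 1
    rw [hw, _root_.mul_inv_rev, inv_eq_of_mul_eq_one_right huu, inv_eq_of_mul_eq_one_right hvv]
    calc u * (u * v) * u = u * u * (v * u) := by simp only [mul_assoc]
      _ = v * u := by rw [huu, one_mul]
  rcases Nat.even_or_odd (orderOf w) with ⟨k, hk⟩ | ⟨k, hk⟩
  · right
    have hpos := orderOf_pos w
    have hz : orderOf (w ^ k) = 2 := by
      rw [orderOf_pow' _ (by omega), show orderOf w = 2 * k by omega, Nat.gcd_eq_right (dvd_mul_left k 2)]
      exact Nat.mul_div_cancel _ (by omega)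
    have hinv : (w ^ k)⁻¹ = w ^ k := inv_eq_of_mul_eq_one_right (by rw [← pow_two, ← hz, pow_orderOf_eq_one])
    have hzu : w ^ k * u = u * w ^ k := by
      have := hiu k
      rw [hinv, mul_inv_eq_iff_eq_mul] at this
      exact this.symm
    refine ⟨w ^ k, hz, hzu, ?_⟩
    have hv' : v = u * w := by rw [hw, ← mul_assoc, huu, one_mul]
    rw [hv', ← mul_assoc, hzu, mul_assoc, mul_assoc, (Commute.pow_self w k).eq]
  · left
    refine ⟨w ^ k, ?_⟩
    have h1 := hiu k
    rw [mul_inv_eq_iff_eq_mul] at h1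
    -- `h1 : u * w ^ k = (w ^ k)⁻¹ * u`
    have h2 : w ^ (2 * k) = w⁻¹ := by
      refine eq_inv_of_mul_eq_one_left ?_
      rw [← pow_succ, show 2 * k + 1 = orderOf w by omega, pow_orderOf_eq_one]
    have h3 : u * (w ^ k)⁻¹ = w ^ k * u := by
      calc u * (w ^ k)⁻¹ = w ^ k * ((w ^ k)⁻¹ * u) * (w ^ k)⁻¹ := by group
        _ = w ^ k * u := by rw [← h1]; group
    calc w ^ k * u * (w ^ k)⁻¹ = w ^ k * (u * (w ^ k)⁻¹) := mul_assoc _ _ _
      _ = w ^ (2 * k) * u := by rw [h3, ← mul_assoc, ← pow_add, two_mul]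
      _ = v := by rw [h2, hw, _root_.mul_inv_rev, inv_eq_of_mul_eq_one_right huu, mul_assoc, huu, mul_one,
            inv_eq_of_mul_eq_one_right hvv]

variable [Fintype F] {p : ℕ} {ω : F} {X : Subgroup (GL (Fin 3) F)} {R : Subgroup (GL (Fin 3) F)}

/-- A trace-free block commuting with a trace-free block is proportional to it. -/
theorem pr_eq_of_comm (h2 : (2 : F) ≠ 0) {x y : (Blk : Subgroup GG)} (hc : (x : GG) * y = y * x) (hx : tr2 (x : GG) = 0)
    (hy : tr2 (y : GG) = 0) (hy2 : pr h2 y * pr h2 y = 1) (hv : ((y : GG) : MM) 0 1 ≠ 0) : pr h2 x = pr h2 y := by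
  have h := congrArg (fun g : GG => (g : MM)) hc
  have e00 := congrFun (congrFun h 0) 0
  have e01 := congrFun (congrFun h 0) 1
  obtain ⟨a, b, c, d⟩ := (mem_blk h2).mp x.2
  obtain ⟨a', b', c', d'⟩ := (mem_blk h2).mp y.2
  simp [Matrix.mul_apply, Fin.sum_univ_three, a, b, c, d, a', b', c', d'] at e00 e01
  simp only [tr2] at hx hy
  set xa := ((x : GG) : MM) 0 0 with hxa
  set xb := ((x : GG) : MM) 0 1 with hxb
  set xc := ((x : GG) : MM) 1 0 with hxc
  set xd := ((x : GG) : MM) 1 1 with hxd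
  set ya := ((y : GG) : MM) 0 0 with hya
  set yb := ((y : GG) : MM) 0 1 with hyb
  set yc := ((y : GG) : MM) 1 0 with hyc
  set yd := ((y : GG) : MM) 1 1 with hyd
  have k1 : xa * yb = xb * ya := by
    refine mul_left_cancel₀ h2 ?_
    linear_combination e01 + yb * hx - xb * hy
  have hS : pr h2 x * pr h2 y = 1 := by
    rw [← map_mul, pr_eq_one]
    simp only [Scal, Subgroup.coe_mul, Units.val_mul]
    refine ⟨?_, ?_, ?_⟩ <;>
      simp [Matrix.mul_apply, Fin.sum_univ_three, a, b, c, d, a', b', c', d', ← hxa, ← hxb, ← hxc, ← hxd, ← hya, ← hyb,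
        ← hyc, ← hyd]
    · linear_combination k1 + xb * hy
    · refine mul_left_cancel₀ hv ?_
      linear_combination (-ya) * e00 + yc * (yb * hx) - yc * k1
    · linear_combination e00 + (0 : F) * k1 - (xd * hy - ya * hx)
  calc pr h2 x = pr h2 x * (pr h2 y * pr h2 y) := by rw [hy2, mul_one]
    _ = pr h2 y := by rw [← mul_assoc, hS, one_mul]

theorem Over.scal_pow_p (O : Over p ω X) {g : GG} (hg : g ∈ Xq O.two X) (hb : g ∈ Blk) (hl : dl g = 1)
    (ht : tr2 g = 2) (hd : d2 g = 1) : g = 1 := by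
  haveI : Fact p.Prime := ⟨O.prime⟩
  haveI : CharP F p := charP_of_card_eq_prime O.card
  refine no_p O.two (p := p) (O.noel.conj _) hg hb (Units.ext ?_)
  obtain ⟨a, b, c, d⟩ := (mem_blk O.two).mp hb
  simp only [dl, tr2, d2] at hl ht hd
  have hN : ((g : MM) - 1) ^ 2 = 0 := by
    rw [pow_two]
    ext i j
    fin_cases i <;> fin_cases j <;> simp [Matrix.mul_apply, Fin.sum_univ_three, a, b, c, d, hl]
    · linear_combination (g : MM) 0 0 * ht - hd
    · linear_combination (g : MM) 0 1 * ht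
    · linear_combination (g : MM) 1 0 * ht
    · linear_combination (g : MM) 1 1 * ht - hd
  have hp2 := O.prime.two_le
  have h1 : ((g : MM) - 1) ^ p = 0 := by
    rw [show p = 2 + (p - 2) by omega, pow_add, hN, zero_mul]
  rw [sub_pow_char_of_commute _ (Commute.one_right _), one_pow, sub_eq_zero] at h1
  rw [Units.val_pow_eq_pow_val, h1, Units.val_one]

set_option maxHeartbeats 1000000 in
/-- The involutions and centralisers in the quotient by scalars. -/
theorem Over.inv_structure (O : Over p ω X) (D : RData ω X R) (h9 : ¬ 9 ∣ p - 1) {T : X}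
    (hT : ((T : GG) : MM) = tM) {g₀ : X} (hc₀ : Commute T (g₀ * T * g₀⁻¹)) (hne₀ : g₀ * T * g₀⁻¹ ≠ T) :
    orderOf (QuotientGroup.mk T : X ⧸ Zs X) = 2 ∧
    (∀ v : X ⧸ Zs X, orderOf v = 2 → ∃ g, g * QuotientGroup.mk T * g⁻¹ = v) ∧
    4 * Nat.card {u : X ⧸ Zs X // u * QuotientGroup.mk T = QuotientGroup.mk T * u ∧ orderOf u = 2 ∧
      u ≠ QuotientGroup.mk T} = Nat.card (Subgroup.centralizer ({QuotientGroup.mk T} : Set (X ⧸ Zs X))) ∧
    16 ≤ Nat.card (Subgroup.centralizer ({QuotientGroup.mk T} : Set (X ⧸ Zs X))) ∧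
    (∀ x : X ⧸ Zs X, x ≠ 1 → orderOf x ≠ 2 → ∀ z z' : X ⧸ Zs X, orderOf z = 2 → orderOf z' = 2 →
      z * x = x * z → z' * x = x * z' → z = z') := by
  classical
  obtain ⟨r₃, -, -, -, -, hno⟩ := D.three O h9
  set τ : X ⧸ Zs X := QuotientGroup.mk T with hτ
  set Q := qGL O.two with hQ
  set Y := Xq O.two X with hY
  -- transport from the block to `X`
  let C := Y.subgroupOf Blk
  let κ : C →* X := MonoidHom.mk' (fun x => ⟨Q * ((x : (Blk : Subgroup GG)) : GG) * Q⁻¹, x.2⟩) fun x y =>
    Subtype.ext (by simp [mul_assoc])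
  have hκv : ∀ x : C, ((κ x : X) : GG) = Q * ((x : (Blk : Subgroup GG)) : GG) * Q⁻¹ := fun x => rfl
  have hTq : Q⁻¹ * (T : GG) * Q = lastInv := by
    refine (mul_right_injective Q) ?_
    show Q * (Q⁻¹ * (T : GG) * Q) = Q * lastInv
    rw [show Q * (Q⁻¹ * (T : GG) * Q) = (T : GG) * Q by group]
    refine Units.ext ?_
    rw [Units.val_mul, Units.val_mul, hT, lastInv_val]
    show tM * qM = qM * _
    rw [qM, tM, diag3]
    ext i j
    fin_cases i <;> fin_cases j <;> simp [Matrix.mul_apply, Fin.sum_univ_three]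
  have hLY : (lastInv : GG) ∈ Y := by
    show Q * lastInv * Q⁻¹ ∈ X
    rw [← hTq, show Q * (Q⁻¹ * (T : GG) * Q) * Q⁻¹ = T by group]
    exact T.2
  let L : C := ⟨⟨lastInv, lastInv_mem_blk O.two⟩, hLY⟩
  have hκL : κ L = T := Subtype.ext (by
    rw [hκv]; show Q * lastInv * Q⁻¹ = _
    rw [← hTq]; group)
  have hκinj : Function.Injective κ := fun x y e => by
    have e' := congrArg Subtype.val e
    rw [hκv, hκv, mul_left_inj, mul_right_inj] at e'
    exact Subtype.ext (Subtype.ext e')
  have hLL : L * L = 1 := by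
    refine Subtype.ext (Subtype.ext (Units.ext ?_))
    show (lastInv : GG).val * (lastInv : GG).val = 1
    exact Units.val_inv (lastInv : GG)
  have hcen : ∀ x : C, x * L = L * x := fun x => Subtype.ext (Subtype.ext
    (Subgroup.mem_centralizer_singleton_iff.mp (x : (Blk : Subgroup GG)).2))
  have honto : ∀ u : X, u * T = T * u → ∃ x : C, κ x = u := by
    intro u hu
    have hb : Q⁻¹ * (u : GG) * Q ∈ (Blk : Subgroup GG) := by
      refine Subgroup.mem_centralizer_singleton_iff.mpr ?_
      rw [← hTq]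
      have hu' : (u : GG) * T = T * u := congrArg Subtype.val hu
      calc Q⁻¹ * (u : GG) * Q * (Q⁻¹ * (T : GG) * Q) = Q⁻¹ * ((u : GG) * T) * Q := by group
        _ = _ := by rw [hu']; group
    refine ⟨⟨⟨_, hb⟩, ?_⟩, Subtype.ext ?_⟩
    · show Q * (Q⁻¹ * (u : GG) * Q) * Q⁻¹ ∈ X
      rw [show Q * (Q⁻¹ * (u : GG) * Q) * Q⁻¹ = u by group]
      exact u.2
    · rw [hκv]
      show Q * (Q⁻¹ * (u : GG) * Q) * Q⁻¹ = u
      group
  have hTT : T * T = 1 := by rw [← hκL, ← map_mul, hLL, map_one]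
  let μ : C →* X ⧸ Zs X := (QuotientGroup.mk' (Zs X)).comp κ
  have hμL : μ L = τ := by show QuotientGroup.mk (κ L) = τ; rw [hκL]
  haveI := finite_img O.two Y
  let H := img O.two Y
  let φ : C →* H := (pr O.two).subgroupMap C
  have hφs : Function.Surjective φ := (pr O.two).subgroupMap_surjective C
  have hφv : ∀ x : C, ((φ x : H) : Matrix.ProjectiveSpecialLinearGroup (Fin 2) (AlgebraicClosure F)) =
      pr O.two (x : (Blk : Subgroup GG)) := fun x => rfl
  have hCY : ∀ x : C, ((x : (Blk : Subgroup GG)) : GG) ∈ Y := fun x => x.2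
  have hφone : ∀ x : C, φ x = 1 ↔ Scal ((x : (Blk : Subgroup GG)) : GG) := fun x => by
    rw [← Subtype.val_inj, hφv]; exact pr_eq_one O.two
  have hμker : ∀ x : C, μ x = 1 → ∃ l : F, l ^ 3 = 1 ∧ (((x : (Blk : Subgroup GG)) : GG) : MM) = l • 1 := by
    intro x hx
    obtain ⟨l, hl⟩ := mem_zs.mp ((QuotientGroup.eq_one_iff _).mp hx)
    refine ⟨l, O.scalar_cube (κ x).2 hl, ?_⟩
    rw [hκv, Units.val_mul, Units.val_mul] at hl
    have := congrArg (fun M : MM => ((Q⁻¹ : GG) : MM) * M * (Q : MM)) hl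
    simpa [mul_assoc, ← mul_assoc ((Q⁻¹ : GG) : MM) (Q : MM)] using this
  have hscal : ∀ x : C, μ x = 1 → φ x = 1 := fun x hx => by
    obtain ⟨l, -, hl⟩ := hμker x hx
    rw [hφone]
    simp [Scal, hl]
  have hμmk : ∀ (x : C) (l : F), (((x : (Blk : Subgroup GG)) : GG) : MM) = l • 1 → μ x = 1 := fun x l hl =>
    (QuotientGroup.eq_one_iff _).mpr (mem_zs.mpr ⟨l, by simp [hκv, hl]⟩)
  have hkerφ : ∀ x : C, φ x = 1 → μ x = 1 ∨ μ x = τ := by
    intro x hx
    obtain ⟨l, hl3, h | h⟩ := O.scal_cases (hCY x) x.1.2 ((hφone x).mp hx)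
    · exact Or.inl (hμmk x l h)
    · right
      have h1 : μ (x * L) = 1 := hμmk _ l (by
        show (((x : (Blk : Subgroup GG)) : GG) : MM) * ((lastInv : GG) : MM) = _
        rw [h, lastInv_val, smul_mul_assoc, diagonal_mul_diagonal, ← diagonal_one]
        congr 2
        funext i; fin_cases i <;> simp)
      calc μ x = μ (x * L) * μ L := by rw [← map_mul, mul_assoc, hLL, mul_one]
        _ = τ := by rw [h1, one_mul, hμL]
  have hτ1 : τ ≠ 1 := by
    intro e
    have := hscal L (hμL.trans e)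
    obtain ⟨l, -, h⟩ := hμker L (hμL.trans e)
    have h0 := congrFun (congrFun h 0) 0
    have h2 := congrFun (congrFun h 2) 2
    simp [L, lastInv_val] at h0 h2
    exact O.two (by linear_combination h2 - h0)
  have hτ2 : orderOf τ = 2 := orderOf_eq_prime (by rw [pow_two, hτ, ← QuotientGroup.mk_mul, hTT]; rfl) hτ1
  have hcomm : ∀ u : X ⧸ Zs X, u * τ = τ * u → ∃ x : C, μ x = u := by
    intro u hu
    obtain ⟨a, rfl⟩ := QuotientGroup.mk_surjective u
    obtain ⟨x, hx⟩ := honto a (O.comm_exact (n := 2) (by norm_num) (by rw [pow_two, hTT]) hu)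
    exact ⟨x, by show QuotientGroup.mk (κ x) = _; rw [hx]⟩
  -- the shape of the image
  obtain ⟨f, hf⟩ := O.exists_chi
  have hfφ : ∀ x : C, f (φ x) = chi O.two (x : (Blk : Subgroup GG)) := fun x => hf _ (hCY x)
  have hno3 : ∀ h : H, orderOf h ≠ 3 := by
    intro h h3
    obtain ⟨x, rfl⟩ := hφs h
    have hd : 3 ∣ orderOf (μ x) := by
      refine (dvd_of_eq h3.symm).trans ?_
      exact orderOf_dvd_of_pow_eq_one (by rw [← map_pow]; exact hscal _ (by rw [map_pow, pow_orderOf_eq_one]))
    obtain ⟨k, hk⟩ := hd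
    have hpos := orderOf_pos (μ x)
    have hk0 : k ≠ 0 := fun e => by rw [e, mul_zero] at hk; omega
    refine hno τ (μ x ^ k) hτ2 ?_ ?_
    · rw [orderOf_pow' _ hk0, hk, Nat.gcd_eq_right (dvd_mul_left k 3)]
      exact Nat.mul_div_cancel _ (Nat.pos_of_ne_zero hk0)
    · rw [← map_pow, ← hμL, ← map_mul, ← map_mul, hcen]
  obtain ⟨Fb, Gb, hFb, hGb, hFv, hGv, hFF, hGG, hFG, hF1, hG1, hFne⟩ := O.quat
  let Fc : C := ⟨Fb, hFb⟩
  let Gc : C := ⟨Gb, hGb⟩
  have hfF : f (φ Fc) = 1 := by
    rw [hfφ]; refine Units.ext ?_; rw [chi_val]; simp [Fc, dl, hFv, fQ]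
  have hfG : f (φ Gc) = 1 := by
    rw [hfφ]; refine Units.ext ?_; rw [chi_val]; simp [Gc, dl, hGv, gQ]
  obtain ⟨n, hn0, ⟨e⟩⟩ := (O.shapeQ.of_klein (x := φ Fc) (y := φ Gc) (Subtype.ext hFF) (Subtype.ext hGG)
    (Subtype.ext hFG) (fun h => hF1 (congrArg Subtype.val h)) (fun h => hG1 (congrArg Subtype.val h))
    (fun h => hFne (congrArg Subtype.val h))).resolve_right (fun ⟨z, hz⟩ => hno3 z hz)
  haveI : NeZero n := ⟨hn0⟩
  let f' : DihedralGroup n →* Fˣ := f.comp e.symm.toMonoidHom
  have hf' : ∀ h, f' (e h) = f h := fun h => by simp [f']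
  have hfsq : ∀ z, f' z = 1 ∨ f' z = -1 := by
    intro z
    have h2 : f' z ^ 2 = 1 := by
      have hsr : ∀ i, f' (DihedralGroup.sr i) ^ 2 = 1 := fun i => by
        rw [pow_two, ← map_mul, DihedralGroup.sr_mul_self, map_one]
      rcases z with i | i
      · rw [show (DihedralGroup.r i) = DihedralGroup.sr 0 * DihedralGroup.sr i by
          rw [DihedralGroup.sr_mul_sr, sub_zero], map_mul, mul_pow, hsr, hsr, one_mul]
      · exact hsr i
    have h2' := congrArg Units.val h2
    rw [Units.val_pow_eq_pow_val, Units.val_one] at h2'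
    exact (sq_eq_one_iff.mp h2').imp (fun h => Units.ext h) (fun h => Units.ext (by rw [h]; simp))
  -- the other involution
  obtain ⟨S, hS⟩ := honto (g₀ * T * g₀⁻¹) hc₀.symm.eq
  have hS2 : S * S = 1 := hκinj (by
    rw [map_mul, hS, map_one]
    calc g₀ * T * g₀⁻¹ * (g₀ * T * g₀⁻¹) = g₀ * (T * T) * g₀⁻¹ := by group
      _ = 1 := by rw [hTT]; group)
  have hS1 : S ≠ 1 := fun h => by
    rw [h, map_one] at hS
    have : T = 1 := by
      calc T = g₀⁻¹ * (g₀ * T * g₀⁻¹) * g₀ := by group
        _ = 1 := by rw [← hS]; group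
    rw [this] at hτ
    exact hτ1 (hτ.trans rfl)
  have hSL : S ≠ L := fun h => hne₀ (by rw [← hS, h, hκL])
  have hoth : ∀ x : C, x * x = 1 → x ≠ 1 → x ≠ L → f (φ x) = -1 ∧ tr2 ((x : (Blk : Subgroup GG)) : GG) = 0 ∧
      φ x * φ x = 1 := by
    intro x h2 h1 hL
    have a1 : ((x : (Blk : Subgroup GG)) : GG) * ((x : (Blk : Subgroup GG)) : GG) = 1 :=
      congrArg (fun c : C => ((c : (Blk : Subgroup GG)) : GG)) h2
    have a2 : ((x : (Blk : Subgroup GG)) : GG) ≠ 1 := fun h => h1 (Subtype.ext (Subtype.ext h))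
    have a3 : ((x : (Blk : Subgroup GG)) : GG) ≠ lastInv := fun h => hL (Subtype.ext (Subtype.ext h))
    exact ⟨(hfφ x).trans (O.chi_inv_other (hCY x) a1 a2 a3), (O.inv_other (hCY x) a1 a2 a3).2.2, by rw [← map_mul, h2, map_one]⟩
  obtain ⟨hfS, -, -⟩ := hoth S hS2 hS1 hSL
  have hn3 : 3 ≤ n := by
    by_contra hlt
    haveI := Fintype.ofFinite H
    have h4 : Fintype.card H ≤ 4 := by
      rw [← Nat.card_eq_fintype_card, Nat.card_congr e.toEquiv, DihedralGroup.nat_card]; omega
    have h5 : ({1, φ Fc, φ Gc, φ Fc * φ Gc, φ S} : Finset H).card = 5 := by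
      have hFGne : φ Fc ≠ φ Gc := fun h => hFne (congrArg Subtype.val h)
      have hF1' : φ Fc ≠ 1 := fun h => hF1 (congrArg Subtype.val h)
      have hG1' : φ Gc ≠ 1 := fun h => hG1 (congrArg Subtype.val h)
      have hFF' : φ Fc * φ Fc = 1 := Subtype.ext hFF
      have hFG1 : φ Fc * φ Gc ≠ 1 := fun h => hFGne (mul_left_cancel (hFF'.trans h.symm))
      have hfFG : f (φ Fc * φ Gc) = 1 := by rw [map_mul, hfF, hfG, one_mul]
      have hsne : ∀ z, f z = 1 → φ S ≠ z := fun z hz h => O.neg_one_ne (hfS.symm.trans (h ▸ hz))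
      rw [Finset.card_insert_of_notMem, Finset.card_insert_of_notMem, Finset.card_insert_of_notMem,
        Finset.card_pair (hsne _ hfFG).symm]
      · simp only [Finset.mem_insert, Finset.mem_singleton, not_or]
        exact ⟨fun h => hF1' (right_eq_mul.mp (h.trans rfl) |> fun k => absurd k hF1'), (hsne _ hfG).symm⟩
      · simp only [Finset.mem_insert, Finset.mem_singleton, not_or]
        exact ⟨hFGne, fun h => hG1' (left_eq_mul.mp h), (hsne _ hfF).symm⟩
      · simp only [Finset.mem_insert, Finset.mem_singleton, not_or]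
        exact ⟨hF1'.symm, hG1'.symm, hFG1.symm, (hsne _ (map_one f)).symm⟩
    have := Finset.card_le_univ ({1, φ Fc, φ Gc, φ Fc * φ Gc, φ S} : Finset H)
    omega
  -- the rotation changes the sign
  have hrot : f' (DihedralGroup.r 1) = -1 := by
    rcases hfsq (DihedralGroup.r 1) with h | h
    swap
    · exact h
    exfalso
    have hall : ∀ i, f' (DihedralGroup.r i) = 1 := fun i => by
      rw [← ZMod.natCast_zmod_val i, ← DihedralGroup.r_one_pow, map_pow, h, one_pow]
    have hsrc : ∀ i j, f' (DihedralGroup.sr i) = f' (DihedralGroup.sr j) := fun i j => by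
      rw [show DihedralGroup.sr j = DihedralGroup.sr i * DihedralGroup.r (j - i) by
        rw [DihedralGroup.sr_mul_r, add_sub_cancel], map_mul, hall, mul_one]
    have hv : ∀ z : H, f z = -1 → ∃ i, e z = DihedralGroup.sr i := fun z hz => by
      rw [← hf'] at hz
      rcases hz' : e z with i | i
      · rw [hz', hall] at hz; exact absurd hz.symm O.neg_one_ne
      · exact ⟨i, rfl⟩
    obtain ⟨i, hi⟩ := hv _ hfS
    have hnorot : ∀ z : H, z * z = 1 → f z = 1 → ∀ j, e z = DihedralGroup.r j → j + j = 0 := fun z hz _ j hj => by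
      have := congrArg e hz
      rw [map_mul, map_one, hj, DihedralGroup.r_mul_r, DihedralGroup.one_def, DihedralGroup.r.injEq] at this
      exact this
    have hcase : ∀ z : H, z * z = 1 → f z = 1 → ∃ j, e z = DihedralGroup.r j ∧ j + j = 0 := fun z hz hzf => by
      rcases hz' : e z with j | j
      · exact ⟨j, rfl, hnorot z hz hzf j hz'⟩
      · rw [← hf', hz', hsrc j i, ← hi, hf', hfS] at hzf
        exact absurd hzf O.neg_one_ne
    obtain ⟨a, ha, ha2⟩ := hcase (φ Fc) (Subtype.ext hFF) hfF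
    obtain ⟨b, hb, hb2⟩ := hcase (φ Gc) (Subtype.ext hGG) hfG
    refine not_cyclic (H := Multiplicative (ZMod n)) inferInstance (x := Multiplicative.ofAdd a)
      (y := Multiplicative.ofAdd b) (by rw [← ofAdd_add, ha2]; rfl) (by rw [← ofAdd_add, hb2]; rfl)
      (fun h => hF1 ?_) (fun h => hG1 ?_) (fun h => hFne ?_)
    · have h0 : a = 0 := h
      exact congrArg Subtype.val (e.injective (by rw [ha, h0, map_one]; rfl) : φ Fc = 1)
    · have h0 : b = 0 := h
      exact congrArg Subtype.val (e.injective (by rw [hb, h0, map_one]; rfl) : φ Gc = 1)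
    · exact congrArg Subtype.val (e.injective (by rw [ha, hb, show a = b from h]) : φ Fc = φ Gc)
  have hneven : Even n := by
    have h := congrArg f' (show DihedralGroup.r (1 : ZMod n) ^ n = 1 by
      rw [DihedralGroup.r_one_pow, ZMod.natCast_self]; rfl)
    rw [map_pow, hrot, map_one] at h
    rcases Nat.even_or_odd n with h' | h'
    · exact h'
    · rw [h'.neg_one_pow] at h
      exact absurd h O.neg_one_ne
  have hshift : ∀ k, f' (DihedralGroup.r (k + 1)) = -f' (DihedralGroup.r k) := fun k => by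
    rw [← DihedralGroup.r_mul_r, map_mul, hrot, mul_neg_one]
  -- a central involution among the quaternion images
  obtain ⟨X₀, hX₀Y, hX₀v, hX₀2, hX₀f, hX₀c, hX₀1⟩ : ∃ (x : (Blk : Subgroup GG)) (hxY : (x : GG) ∈ Y),
      ((x : GG) : MM) 0 1 ≠ 0 ∧ pr O.two x * pr O.two x = 1 ∧ chi O.two x = 1 ∧
      (∀ z : H, z * ⟨pr O.two x, mem_img O.two _ hxY x.2⟩ = ⟨pr O.two x, mem_img O.two _ hxY x.2⟩ * z) ∧
      pr O.two x ≠ 1 := by
    have hch : ∀ x : C, f (φ x) = 1 → chi O.two (x : (Blk : Subgroup GG)) = 1 := fun x h => (hfφ x).symm.trans h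
    obtain ⟨hθ, hθ2, hω⟩ := O.fq_ne
    rcases dihedral_central (x := e (φ Fc)) (y := e (φ Gc)) (by rw [← map_mul, ← map_one e]; exact congrArg e (Subtype.ext hFF))
      (by rw [← map_mul, ← map_one e]; exact congrArg e (Subtype.ext hGG))
      (by rw [← map_mul e, ← map_mul e]; exact congrArg e (show φ Fc * φ Gc = φ Gc * φ Fc from Subtype.ext hFG)) with h | h | h
    · exact ⟨Fb, hFb, by simp [hFv, fQ, O.two]; exact O.theta, hFF, hch Fc hfF,
        fun z => e.injective (by rw [map_mul, map_mul]; exact h (e z)), hF1⟩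
    · exact ⟨Gb, hGb, by simp [hGv, gQ, O.two, hω]; exact O.theta, hGG, hch Gc hfG,
        fun z => e.injective (by rw [map_mul, map_mul]; exact h (e z)), hG1⟩
    · refine ⟨Fb * Gb, Y.mul_mem hFb hGb, ?_, ?_, hch (Fc * Gc) (by rw [map_mul, map_mul, hfF, hfG, one_mul]),
        fun z => e.injective ?_, ?_⟩
      · simp only [Subgroup.coe_mul, Units.val_mul, hFv, hGv, fQ, gQ]
        simp [Matrix.mul_apply, Fin.sum_univ_three]
        intro h0
        have h' : (2 * ((1 + 2 * ω)⁻¹) ^ 2) * (ω ^ 2 - 1) = 0 := by linear_combination h0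
        rcases mul_eq_zero.mp h' with h' | h'
        · exact mul_ne_zero O.two (pow_ne_zero 2 hθ) h'
        · exact root_ne O.three O.root (by linear_combination root_pow O.root - ω * h')
      · rw [map_mul, ← mul_assoc, mul_assoc (pr O.two Fb), ← hFG, ← mul_assoc, hFF, one_mul, hGG]
      · have : (⟨pr O.two (Fb * Gb), mem_img O.two _ (Y.mul_mem hFb hGb) (Fb * Gb).2⟩ : H) = φ Fc * φ Gc :=
          Subtype.ext (map_mul _ _ _)
        rw [this]; simp only [map_mul]; exact h (e z)
      · rw [map_mul]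
        intro h1
        exact hFne (mul_left_cancel (hFF.trans h1.symm))
  let Xc : C := ⟨X₀, hX₀Y⟩
  have hfX : f (φ Xc) = 1 := (hfφ Xc).trans hX₀f
  have hX₀t : tr2 (X₀ : GG) = 0 := (pr_order O.two (g := X₀)).1 (orderOf_eq_prime (by rw [pow_two]; exact hX₀2) hX₀1)
  -- it commutes with no other involution exactly
  have hanti : ∀ x : C, x * x = 1 → x ≠ 1 → x ≠ L → x * Xc ≠ Xc * x := by
    intro x h2 h1 hL hc
    obtain ⟨hfx, htr, -⟩ := hoth x h2 h1 hL
    have hp := pr_eq_of_comm O.two (x := (x : (Blk : Subgroup GG))) (y := X₀)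
      (congrArg (fun c : C => ((c : (Blk : Subgroup GG)) : GG)) hc) htr hX₀t hX₀2 hX₀v
    rw [show φ x = φ Xc from Subtype.ext hp, hfX] at hfx
    exact O.neg_one_ne hfx.symm
  -- reflections
  have hrefl : ∀ x : H, f x = -1 → x * x = 1 → ∃ j, e x = DihedralGroup.sr j := by
    intro x hx hx2
    rcases hj : e x with j | j
    · exfalso
      have h2 := congrArg e hx2
      rw [map_mul, map_one, hj, DihedralGroup.r_mul_r, DihedralGroup.one_def, DihedralGroup.r.injEq] at h2
      rcases hk : e (φ Xc) with k | k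
      · have hk2 := congrArg e (show φ Xc * φ Xc = 1 from Subtype.ext hX₀2)
        rw [map_mul, map_one, hk, DihedralGroup.r_mul_r, DihedralGroup.one_def, DihedralGroup.r.injEq] at hk2
        refine not_cyclic (H := Multiplicative (ZMod n)) inferInstance (x := Multiplicative.ofAdd j)
          (y := Multiplicative.ofAdd k) (by rw [← ofAdd_add, h2]; rfl) (by rw [← ofAdd_add, hk2]; rfl)
          (fun h => ?_) (fun h => hX₀1 ?_) (fun h => ?_)
        · have h0 : j = 0 := h
          rw [← hf', hj, h0, ← DihedralGroup.one_def, map_one] at hx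
          exact O.neg_one_ne hx.symm
        · have h0 : k = 0 := h
          exact congrArg Subtype.val (e.injective (by rw [hk, h0, map_one]; rfl) : φ Xc = 1)
        · rw [← hf', hj, show j = k from h, ← hk, hf', hfX] at hx
          exact O.neg_one_ne hx.symm
      · have hc := congrArg e (hX₀c (e.symm (DihedralGroup.r 1)))
        rw [map_mul, map_mul, MulEquiv.apply_symm_apply] at hc
        change DihedralGroup.r 1 * e (φ Xc) = e (φ Xc) * DihedralGroup.r 1 at hc
        rw [hk, DihedralGroup.r_mul_sr, DihedralGroup.sr_mul_r, DihedralGroup.sr.injEq] at hc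
        have h20 : ((2 : ℕ) : ZMod n) = 0 := by push_cast; linear_combination -hc
        have := Nat.le_of_dvd (by norm_num) ((ZMod.natCast_eq_zero_iff 2 n).mp h20)
        omega
    · exact ⟨j, rfl⟩
  obtain ⟨kx, hkx, hkx2⟩ : ∃ k, e (φ Xc) = DihedralGroup.r k ∧ k + k = 0 := by
    rcases hk : e (φ Xc) with k | k
    · refine ⟨k, rfl, ?_⟩
      have hk2 := congrArg e (show φ Xc * φ Xc = 1 from Subtype.ext hX₀2)
      rwa [map_mul, map_one, hk, DihedralGroup.r_mul_r, DihedralGroup.one_def, DihedralGroup.r.injEq] at hk2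
    · exfalso
      have hc := congrArg e (hX₀c (e.symm (DihedralGroup.r 1)))
      rw [map_mul, map_mul, MulEquiv.apply_symm_apply] at hc
      change DihedralGroup.r 1 * e (φ Xc) = e (φ Xc) * DihedralGroup.r 1 at hc
      rw [hk, DihedralGroup.r_mul_sr, DihedralGroup.sr_mul_r, DihedralGroup.sr.injEq] at hc
      have h20 : ((2 : ℕ) : ZMod n) = 0 := by push_cast; linear_combination -hc
      have := Nat.le_of_dvd (by norm_num) ((ZMod.natCast_eq_zero_iff 2 n).mp h20)
      omega
  -- a scalar lift for every involution with negative sign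
  obtain ⟨Cs, hCs, hCsv⟩ := O.memC.toQ (h2 := O.two) (N := ω • 1) (by simp)
  have hlift : ∀ h : H, f h = -1 ∧ h * h = 1 → ∃ x : C, φ x = h ∧ x * x = 1 ∧ x ≠ 1 ∧ x ≠ L := by
    rintro h ⟨hfh, hh⟩
    obtain ⟨x, rfl⟩ := hφs h
    have hx1 : φ x ≠ 1 := fun e1 => O.neg_one_ne (hfh.symm.trans (by rw [e1, map_one]))
    have htr : tr2 ((x : (Blk : Subgroup GG)) : GG) = 0 :=
      (pr_order O.two (g := (x : (Blk : Subgroup GG)))).1 (orderOf_eq_prime
        (by rw [pow_two]; exact congrArg Subtype.val hh) fun e1 => hx1 (Subtype.ext e1))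
    have hd3 := congrArg Units.val ((hfφ x).symm.trans hfh)
    rw [chi_val, Units.val_neg, Units.val_one] at hd3
    obtain ⟨i, hi⟩ : ∃ i : ℕ, ω ^ i * dl ((x : (Blk : Subgroup GG)) : GG) = -1 := by
      have hd0 := dl_ne O.two (x : (Blk : Subgroup GG)).2
      have h3 : (-(dl ((x : (Blk : Subgroup GG)) : GG))⁻¹) ^ 3 = 1 := by
        field_simp
        linear_combination -hd3
      rcases cube_cases O.root h3 with e1 | e1 | e1
      · exact ⟨0, by field_simp at e1; linear_combination -e1⟩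
      · exact ⟨1, by field_simp at e1; linear_combination -e1⟩
      · exact ⟨2, by field_simp at e1; linear_combination -e1⟩
    have hsb : Cs ^ i ∈ (Blk : Subgroup GG) := by
      refine Blk.pow_mem ((mem_blk O.two).mpr ?_) i
      simp [hCsv]
    let s : C := ⟨⟨Cs ^ i, hsb⟩, Y.pow_mem hCs i⟩
    have hsv : (((s : (Blk : Subgroup GG)) : GG) : MM) = ω ^ i • 1 := by
      show ((Cs ^ i : GG) : MM) = _
      rw [Units.val_pow_eq_pow_val, hCsv, smul_pow, one_pow]
    have hsφ : φ s = 1 := (hφone s).mpr (by simp [Scal, hsv])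
    refine ⟨s * x, by rw [map_mul, hsφ, one_mul], ?_, fun e1 => hx1 ?_, fun e1 => hx1 ?_⟩
    · set y : C := s * x
      have hyv : (((y : (Blk : Subgroup GG)) : GG) : MM) = ω ^ i • (((x : (Blk : Subgroup GG)) : GG) : MM) := by
        show (((s : (Blk : Subgroup GG)) : GG) : MM) * _ = _
        rw [hsv, smul_mul_assoc, one_mul]
      have hyd : dl ((y : (Blk : Subgroup GG)) : GG) = -1 := by simp [dl, hyv]; exact hi
      have hyt : tr2 ((y : (Blk : Subgroup GG)) : GG) = 0 := by
        simp [tr2, hyv]; rw [← mul_add]; exact mul_eq_zero_of_right _ htr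
      have hdet := O.detQ (hCY y)
      rw [blk_det O.two y.1.2, hyd] at hdet
      obtain ⟨a, b, c, d⟩ := (mem_blk O.two).mp y.1.2
      simp only [tr2, d2, dl] at hyd hyt hdet
      refine Subtype.ext (Subtype.ext (Units.ext ?_))
      show (((y : (Blk : Subgroup GG)) : GG) : MM) * (((y : (Blk : Subgroup GG)) : GG) : MM) = 1
      generalize (((y : (Blk : Subgroup GG)) : GG) : MM) = M at a b c d hyd hyt hdet
      ext i j
      fin_cases i <;> fin_cases j <;> simp [Matrix.mul_apply, Fin.sum_univ_three, a, b, c, d, hyd]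
      · linear_combination hdet + M 0 0 * hyt
      · linear_combination M 0 1 * hyt
      · linear_combination M 1 0 * hyt
      · linear_combination hdet + M 1 1 * hyt
    · calc φ x = φ (s * x) := by rw [map_mul, hsφ, one_mul]
        _ = 1 := by rw [e1, map_one]
    · calc φ x = φ (s * x) := by rw [map_mul, hsφ, one_mul]
        _ = 1 := by rw [e1]; exact (hφone L).mpr (by simp [Scal, L, lastInv_val])
  choose lft hlφ hl2 hl1 hlL using hlift
  have hLone : φ L = 1 := (hφone L).mpr (by simp [Scal, L, lastInv_val])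
  -- a second lift differs by the involution
  have hsame : ∀ x y : C, φ x = φ y → μ x = μ y ∨ μ x = μ y * τ := by
    intro x y hxy
    rcases hkerφ (y⁻¹ * x) (by rw [map_mul, map_inv, hxy, inv_mul_cancel]) with h | h
    · left; rw [map_mul, map_inv, inv_mul_eq_one] at h; exact h.symm
    · right; rw [map_mul, map_inv, inv_mul_eq_iff_eq_mul] at h; exact h
  have hμne : ∀ x : C, μ x ≠ μ x * τ := fun x h => hτ1 (left_eq_mul.mp h)
  -- the centraliser
  let sec : H → C := fun h => (hφs h).choose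
  have hsec : ∀ h, φ (sec h) = h := fun h => (hφs h).choose_spec
  have hcard : Nat.card (Subgroup.centralizer ({τ} : Set (X ⧸ Zs X))) = 4 * n := by
    let Φ : H × Bool → Subgroup.centralizer ({τ} : Set (X ⧸ Zs X)) := fun z =>
      ⟨if z.2 then μ (sec z.1) * τ else μ (sec z.1), by
        have hc : μ (sec z.1) * τ = τ * μ (sec z.1) := by rw [← hμL, ← map_mul, ← map_mul, hcen]
        rw [Subgroup.mem_centralizer_singleton_iff]
        split_ifs
        · rw [mul_assoc, ← mul_assoc τ, ← hc, mul_assoc]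
        · exact hc⟩
    have hbij : Function.Bijective Φ := by
      refine ⟨?_, fun q => ?_⟩
      · rintro ⟨h, b⟩ ⟨h', b'⟩ e1
        have e2 := congrArg Subtype.val e1
        simp only [Φ] at e2
        have hh : h = h' := by
          have key : ∀ x y : C, μ x = μ y → φ x = φ y := fun x y hxy => by
            have := hscal (y⁻¹ * x) (by rw [map_mul, map_inv, hxy, inv_mul_cancel])
            rw [map_mul, map_inv, inv_mul_eq_one] at this
            exact this.symm
          have k1 : ∀ g b, (if b = true then μ (sec g) * τ else μ (sec g)) = μ (if b = true then sec g * L else sec g) :=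
            fun g b => by split_ifs <;> simp [map_mul, hμL]
          rw [k1, k1] at e2
          have := key _ _ e2
          split_ifs at this <;> simpa [map_mul, hLone, hsec] using this
        subst hh
        cases b <;> cases b' <;> simp at e2 ⊢
        · exact hτ1 e2
        · exact hτ1 e2
      · obtain ⟨q, hq⟩ := q
        obtain ⟨x, rfl⟩ := hcomm q (Subgroup.mem_centralizer_singleton_iff.mp hq)
        rcases hsame x (sec (φ x)) (hsec _).symm with h | h
        · exact ⟨(φ x, false), Subtype.ext (by simpa [Φ] using h.symm)⟩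
        · exact ⟨(φ x, true), Subtype.ext (by simpa [Φ] using h.symm)⟩
    rw [← Nat.card_eq_of_bijective Φ hbij, Nat.card_prod, Nat.card_congr e.toEquiv, DihedralGroup.nat_card]
    simp; ring
  let P' := {h : H // f h = -1 ∧ h * h = 1}
  have hPn : 2 * Nat.card P' = n := by
    let N1 := {j : ZMod n // f' (DihedralGroup.r j) = -1}
    have hN : 2 * Nat.card N1 = n := by
      let N0 := {j : ZMod n // ¬ f' (DihedralGroup.r j) = -1}
      have he : N1 ≃ N0 :=
        (Equiv.addRight (1 : ZMod n)).subtypeEquiv fun j => by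
          show _ ↔ ¬ f' (DihedralGroup.r (j + 1)) = -1
          rw [hshift]
          rcases hfsq (DihedralGroup.r j) with h | h <;> simp [h, O.neg_one_ne, O.neg_one_ne.symm]
      have h1 := Nat.card_congr (Equiv.sumCompl (fun j : ZMod n => f' (DihedralGroup.r j) = -1))
      rw [Nat.card_sum, Nat.card_zmod] at h1
      change Nat.card N1 + Nat.card N0 = n at h1
      have h2 := Nat.card_congr he
      omega
    suffices h : Nat.card P' = Nat.card N1 by omega
    -- translate the reflections onto the rotations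
    obtain ⟨j₀, hj₀⟩ : ∃ j, f' (DihedralGroup.sr j) = 1 := by
      rcases hfsq (DihedralGroup.sr 0) with h | h
      · exact ⟨0, h⟩
      · refine ⟨1, ?_⟩
        rw [show DihedralGroup.sr (1 : ZMod n) = DihedralGroup.sr 0 * DihedralGroup.r 1 by
          rw [DihedralGroup.sr_mul_r, zero_add], map_mul, h, hrot, neg_one_mul, neg_neg]
    have hsr : ∀ j, f' (DihedralGroup.sr (j + j₀)) = f' (DihedralGroup.r j) := fun j => by
      rw [show DihedralGroup.sr (j + j₀) = DihedralGroup.sr j₀ * DihedralGroup.r j by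
        rw [DihedralGroup.sr_mul_r, add_comm], map_mul, hj₀, one_mul]
    let Ψ : N1 → P' := fun j => ⟨e.symm (DihedralGroup.sr (j.1 + j₀)), by
      refine ⟨?_, ?_⟩
      · exact (hsr j.1).trans j.2
      · rw [← map_mul, DihedralGroup.sr_mul_self, map_one]⟩
    refine (Nat.card_eq_of_bijective Ψ ⟨fun a b h => ?_, fun h => ?_⟩).symm
    · have := e.symm.injective (congrArg Subtype.val h)
      simpa [N1, Subtype.ext_iff] using this
    · obtain ⟨j, hj⟩ := hrefl h.1 h.2.1 h.2.2
      refine ⟨⟨j - j₀, ?_⟩, Subtype.ext ?_⟩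
      · rw [← hsr, sub_add_cancel, ← hj, hf', h.2.1]
      · simp [Ψ, ← hj]
  let I' := {u : X ⧸ Zs X // u * τ = τ * u ∧ orderOf u = 2 ∧ u ≠ τ}
  -- exact lifts of involutions commuting with the given one
  have hinvlift : ∀ u : X ⧸ Zs X, u * τ = τ * u → orderOf u = 2 → ∃ x : C, μ x = u ∧ x * x = 1 := by
    intro u hu hu2
    obtain ⟨a, ha, ha2⟩ := O.exists_lift (n := 2) (by norm_num) (q := u) (by rw [← hu2, pow_orderOf_eq_one])
    obtain ⟨x, hx⟩ := honto a (O.comm_exact (n := 2) (by norm_num) (by rw [pow_two, hTT]) (by rw [ha]; exact hu))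
    exact ⟨x, by show QuotientGroup.mk (κ x) = _; rw [hx, ha], hκinj (by rw [map_mul, hx, map_one, ← pow_two, ha2])⟩
  have hI : Nat.card I' = 2 * Nat.card P' := by
    have hmem : ∀ (h : P') (b : Bool), μ (if b then lft h.1 h.2 * L else lft h.1 h.2) * τ =
        τ * μ (if b then lft h.1 h.2 * L else lft h.1 h.2) := fun h b => by rw [← hμL, ← map_mul, ← map_mul, hcen]
    have hφl : ∀ (h : P') (b : Bool), φ (if b then lft h.1 h.2 * L else lft h.1 h.2) = h.1 := fun h b => by
      split_ifs <;> simp [map_mul, hLone, hlφ]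
    have hne1 : ∀ (h : P'), h.1 ≠ 1 := fun h h1 => O.neg_one_ne (h.2.1.symm.trans (by rw [h1, map_one]))
    let Ψ : P' × Bool → I' := fun z => ⟨μ (if z.2 then lft z.1.1 z.1.2 * L else lft z.1.1 z.1.2), hmem z.1 z.2, by
      refine orderOf_eq_prime ?_ fun h => hne1 z.1 ((hφl z.1 z.2).symm.trans (hscal _ h))
      rw [← map_pow, pow_two]
      split_ifs
      · rw [show lft z.1.1 z.1.2 * L * (lft z.1.1 z.1.2 * L) = lft z.1.1 z.1.2 * (L * lft z.1.1 z.1.2) * L by
          simp only [mul_assoc], ← hcen, ← mul_assoc, hl2, one_mul, hLL, map_one]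
      · rw [hl2, map_one], fun h => hne1 z.1 (by
        refine ((hφl z.1 z.2).symm.trans ?_).trans hLone
        rw [← hμL] at h
        have := hscal (L⁻¹ * (if z.2 then lft z.1.1 z.1.2 * L else lft z.1.1 z.1.2)) (by
          rw [map_mul, map_inv, h, inv_mul_cancel])
        rw [map_mul, map_inv, inv_mul_eq_one] at this
        exact this.symm)⟩
    have hbij : Function.Bijective Ψ := by
      refine ⟨?_, fun u => ?_⟩
      · rintro ⟨h, b⟩ ⟨h', b'⟩ e1
        have e2 : μ _ = μ _ := congrArg Subtype.val e1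
        simp only at e2
        have hh : h = h' := by
          refine Subtype.ext ((hφl h b).symm.trans ?_)
          rw [← hφl h' b']
          have := hscal ((if b' = true then lft h'.1 h'.2 * L else lft h'.1 h'.2)⁻¹ *
            (if b = true then lft h.1 h.2 * L else lft h.1 h.2)) (by rw [map_mul, map_inv, e2, inv_mul_cancel])
          rw [map_mul, map_inv, inv_mul_eq_one] at this
          exact this.symm
        subst hh
        cases b <;> cases b' <;> simp [map_mul, hμL] at e2 ⊢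
        · exact hτ1 e2
        · exact hτ1 e2
      · obtain ⟨u, hu, hu2, hut⟩ := u
        obtain ⟨x, rfl, hxx⟩ := hinvlift u hu hu2
        have hx1 : x ≠ 1 := fun h => by rw [h, map_one, orderOf_one] at hu2; omega
        have hxL : x ≠ L := fun h => hut (by rw [h, hμL])
        obtain ⟨hfx, -, hφ2⟩ := hoth x hxx hx1 hxL
        rcases hsame x (lft (φ x) ⟨hfx, hφ2⟩) (hlφ _ _).symm with h | h
        · exact ⟨(⟨φ x, hfx, hφ2⟩, false), Subtype.ext (by simpa [Ψ] using h.symm)⟩
        · exact ⟨(⟨φ x, hfx, hφ2⟩, true), Subtype.ext (by simpa [Ψ, map_mul, hμL] using h.symm)⟩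
    rw [← Nat.card_eq_of_bijective Ψ hbij, Nat.card_prod]
    simp; ring
  -- the conjugacy of the involutions in the centraliser
  have hconjC : ∀ u : X ⧸ Zs X, u * τ = τ * u → orderOf u = 2 → ∃ g, g * τ * g⁻¹ = u := by
    intro u hu hu2
    by_cases hut : u = τ
    · exact ⟨1, by simp [hut]⟩
    obtain ⟨x, rfl, hxx⟩ := hinvlift u hu hu2
    have hx1 : x ≠ 1 := fun h => by rw [h, map_one, orderOf_one] at hu2; omega
    have hxL : x ≠ L := fun h => hut (by rw [h, hμL])
    obtain ⟨hfx, -, hφ2⟩ := hoth x hxx hx1 hxL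
    obtain ⟨-, -, hφS2⟩ := hoth S hS2 hS1 hSL
    obtain ⟨j, hj⟩ := hrefl _ hfx hφ2
    obtain ⟨k, hk⟩ := hrefl _ hfS hφS2
    have hfr : f' (DihedralGroup.r (j - k)) = 1 := by
      have h1 : DihedralGroup.sr j = DihedralGroup.sr k * DihedralGroup.r (j - k) := by
        rw [DihedralGroup.sr_mul_r, add_sub_cancel]
      have h2 := congrArg f' h1
      rw [map_mul, ← hj, ← hk, hf', hf', hfx, hfS] at h2
      exact mul_left_cancel (a := (-1 : Fˣ)) (by rw [mul_one]; exact h2.symm)
    obtain ⟨m, hm⟩ : ∃ m : ZMod n, j - k = m + m := by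
      have hv := ZMod.natCast_zmod_val (j - k)
      rw [← hv, ← DihedralGroup.r_one_pow, map_pow, hrot] at hfr
      rcases Nat.even_or_odd (j - k).val with ⟨a, ha⟩ | h'
      · exact ⟨(a : ZMod n), by rw [← hv, ha, Nat.cast_add]⟩
      · rw [h'.neg_one_pow] at hfr; exact absurd hfr O.neg_one_ne
    obtain ⟨ρ, hρ⟩ := hφs (e.symm (DihedralGroup.r (-m)))
    have hφc : φ (ρ * S * ρ⁻¹) = φ x := by
      refine e.injective ?_
      rw [map_mul, map_mul, map_inv, map_mul, map_mul, map_inv, hρ, MulEquiv.apply_symm_apply, hk, hj]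
      rw [DihedralGroup.r_mul_sr, DihedralGroup.inv_r, DihedralGroup.sr_mul_r]
      congr 1
      linear_combination -hm
    have hSτ : μ S = QuotientGroup.mk g₀ * τ * (QuotientGroup.mk g₀)⁻¹ := by
      show QuotientGroup.mk (κ S) = _
      rw [hS, QuotientGroup.mk_mul, QuotientGroup.mk_mul, QuotientGroup.mk_inv]
    rcases hsame x (ρ * S * ρ⁻¹) hφc.symm with h | h
    · refine ⟨μ ρ * QuotientGroup.mk g₀, ?_⟩
      rw [h, map_mul, map_mul, map_inv, hSτ]; group
    · have hxc : μ (Xc * x * Xc⁻¹) = μ x * τ := by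
        rcases hsame (Xc * x * Xc⁻¹) x (by
          rw [map_mul, map_mul, map_inv, show φ Xc * φ x = φ x * φ Xc from (hX₀c (φ x)).symm, mul_inv_cancel_right]) with h' | h'
        · exfalso
          have hc : μ x * μ Xc = μ Xc * μ x := by
            rw [map_mul, map_mul, map_inv, mul_inv_eq_iff_eq_mul] at h'
            exact h'.symm
          have := O.comm_exact (a := κ Xc) (u := κ x) (n := 2) (by norm_num) (by rw [pow_two, ← map_mul, hxx, map_one]) hc.symm
          rw [← map_mul, ← map_mul] at this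
          exact hanti x hxx hx1 hxL (hκinj this).symm
        · exact h'
      refine ⟨(μ Xc)⁻¹ * μ ρ * QuotientGroup.mk g₀, ?_⟩
      rw [map_mul, map_mul, map_inv, hSτ] at h
      rw [map_mul, map_mul, map_inv] at hxc
      have hττ : τ * τ = 1 := by rw [← pow_two, ← hτ2, pow_orderOf_eq_one]
      calc (μ Xc)⁻¹ * μ ρ * QuotientGroup.mk g₀ * τ * ((μ Xc)⁻¹ * μ ρ * QuotientGroup.mk g₀)⁻¹
          = (μ Xc)⁻¹ * (μ ρ * (QuotientGroup.mk g₀ * τ * (QuotientGroup.mk g₀)⁻¹) * (μ ρ)⁻¹) * μ Xc := by group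
        _ = (μ Xc)⁻¹ * (μ x * τ) * μ Xc := by
            have e1 : μ ρ * (QuotientGroup.mk g₀ * τ * (QuotientGroup.mk g₀)⁻¹) * (μ ρ)⁻¹ = μ x * τ := by
              rw [h, mul_assoc _ τ τ, hττ, mul_one]
            rw [e1]
        _ = μ x := by rw [← hxc]; group
  have hone : ∀ v : X ⧸ Zs X, orderOf v = 2 → ∃ g, g * τ * g⁻¹ = v := by
    intro v hv
    rcases conj_or_third hτ2 hv with h | ⟨z, hz, hzt, hzv⟩
    · exact h
    obtain ⟨g, rfl⟩ := hconjC z hzt hz
    obtain ⟨k, hk⟩ := hconjC (g⁻¹ * v * g) (by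
      calc g⁻¹ * v * g * τ = g⁻¹ * (v * (g * τ * g⁻¹)) * g := by group
        _ = τ * (g⁻¹ * v * g) := by rw [← hzv]; group) (by
      rw [show g⁻¹ * v * g = MulAut.conj g⁻¹ v by simp, MulEquiv.orderOf_eq, hv])
    refine ⟨g * k, ?_⟩
    calc g * k * τ * (g * k)⁻¹ = g * (k * τ * k⁻¹) * g⁻¹ := by group
      _ = v := by rw [hk]; group
  have huniq : ∀ x : X ⧸ Zs X, x ≠ 1 → orderOf x ≠ 2 → x * τ = τ * x → ∀ z : X ⧸ Zs X, orderOf z = 2 → z * x = x * z → z = τ := by
    intro q hq1 hq2 hqt z hz hzq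
    obtain ⟨y, rfl⟩ := hcomm q hqt
    obtain ⟨a, ha, ha2⟩ := O.exists_lift (n := 2) (by norm_num) (q := z) (by rw [← hz, pow_orderOf_eq_one])
    have hay : κ y * a = a * κ y := O.comm_exact (n := 2) (by norm_num) ha2 (by rw [ha]; exact hzq.symm)
    set yg : GG := ((y : (Blk : Subgroup GG)) : GG) with hyg
    set zg : GG := Q⁻¹ * (a : GG) * Q with hzg
    have hyz : yg * zg = zg * yg := by
      have h1 : Q * yg * Q⁻¹ * (a : GG) = (a : GG) * (Q * yg * Q⁻¹) := congrArg Subtype.val hay
      calc yg * zg = Q⁻¹ * (Q * yg * Q⁻¹ * (a : GG)) * Q := by rw [hzg]; group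
        _ = zg * yg := by rw [h1, hzg]; group
    -- the value at the point is not an eigenvalue on the line
    have hδ : dl yg ^ 2 - tr2 yg * dl yg + d2 yg ≠ 0 := by
      intro hz0
      have hdd := O.detQ (hCY y)
      rw [blk_det O.two y.1.2, ← hyg] at hdd
      have hd0 := dl_ne O.two (g := yg) y.1.2
      have hx3 : dl yg ^ 3 = 1 ∨ dl yg ^ 3 = -1 := by
        have h := hfsq (e (φ y))
        rw [hf', hfφ] at h
        rcases h with h | h <;> [left; right] <;> have := congrArg Units.val h <;> simpa [chi_val] using this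
      have hω0 : ω ≠ 0 := O.fq_ne.2.2
      rcases hx3 with h3 | h3
      · obtain ⟨i, hi⟩ : ∃ i : ℕ, ω ^ i * dl yg = 1 := by
          rcases cube_cases O.root h3 with h' | h' | h' <;> rw [h']
          exacts [⟨0, by simp⟩, ⟨2, by linear_combination root_pow O.root⟩, ⟨1, by linear_combination root_pow O.root⟩]
        have hgY : Cs ^ i * yg ∈ Y := Y.mul_mem (Y.pow_mem hCs i) y.2
        have hgb : Cs ^ i * yg ∈ (Blk : Subgroup GG) :=
          Blk.mul_mem (Blk.pow_mem ((mem_blk O.two).mpr (by simp [hCsv])) i) y.1.2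
        have hgv : ((Cs ^ i * yg : GG) : MM) = ω ^ i • (yg : MM) := by
          rw [Units.val_mul, Units.val_pow_eq_pow_val, hCsv, smul_pow, one_pow, smul_mul_assoc, one_mul]
        have htr : tr2 yg = 2 * dl yg := mul_right_cancel₀ hd0 (by
          linear_combination (-1 : F) * hz0 - d2 yg * h3 + (dl yg ^ 2) * hdd)
        have h1 := O.scal_pow_p hgY hgb (by simp [dl, hgv]; exact hi) (by
          have : tr2 (Cs ^ i * yg) = ω ^ i * tr2 yg := by simp [tr2, hgv]; ring
          rw [this, htr]; linear_combination 2 * hi) (by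
          have : d2 (Cs ^ i * yg) = (ω ^ i) ^ 2 * d2 yg := by simp [d2, hgv]; ring
          rw [this]
          linear_combination (ω ^ i) ^ 2 * (hz0 + dl yg * htr) + (ω ^ i * dl yg + 1) * hi)
        refine hq1 (hμmk y (dl yg) ?_)
        rw [h1] at hgv
        have := congrArg (fun M : MM => dl yg • M) hgv
        simp only [smul_smul, mul_comm (dl yg), hi, one_smul, Units.val_one] at this
        rw [← hyg, ← this]
      · have htr : tr2 yg = 0 := mul_right_cancel₀ hd0 (by
          linear_combination (-1 : F) * hz0 + d2 yg * h3 - (dl yg ^ 2) * hdd)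
        have hsq : μ y * μ y = 1 := by
          rw [← map_mul]
          refine hμmk _ (dl yg ^ 2) ?_
          show (yg : MM) * (yg : MM) = _
          obtain ⟨a, b, c, d⟩ := (mem_blk O.two).mp (y : (Blk : Subgroup GG)).2
          rw [htr, zero_mul, sub_zero] at hz0
          simp only [tr2, d2, dl] at htr hz0 ⊢
          rw [← hyg] at a b c d
          ext i j
          fin_cases i <;> fin_cases j <;> simp [Matrix.mul_apply, Fin.sum_univ_three, a, b, c, d, pow_two]
          · linear_combination (yg : MM) 0 0 * htr - hz0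
          · linear_combination (yg : MM) 0 1 * htr
          · linear_combination (yg : MM) 1 0 * htr
          · linear_combination (yg : MM) 1 1 * htr - hz0
        exact hq2 (orderOf_eq_prime (by rw [pow_two, hsq]) hq1)
    obtain ⟨ya, yb, yc, yd⟩ := (mem_blk O.two).mp (y : (Blk : Subgroup GG)).2
    rw [← hyg] at ya yb yc yd
    have hzb : zg ∈ (Blk : Subgroup GG) := by
      have h := congrArg (fun g : GG => (g : MM)) hyz
      have a02 := congrFun (congrFun h 0) 2
      have a12 := congrFun (congrFun h 1) 2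
      have a20 := congrFun (congrFun h 2) 0
      have a21 := congrFun (congrFun h 2) 1
      simp [Matrix.mul_apply, Fin.sum_univ_three, ya, yb, yc, yd] at a02 a12 a20 a21
      simp only [tr2, d2, dl] at hδ
      have kill := fun (v : F) (h : _ * v = 0) => (mul_eq_zero.mp h).resolve_left hδ
      refine (mem_blk O.two).mpr ⟨kill _ ?_, kill _ ?_, kill _ ?_, kill _ ?_⟩
      · linear_combination ((yg : MM) 1 1 - (yg : MM) 2 2) * a02 - (yg : MM) 0 1 * a12
      · linear_combination ((yg : MM) 0 0 - (yg : MM) 2 2) * a12 - (yg : MM) 1 0 * a02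
      · linear_combination -(((yg : MM) 1 1 - (yg : MM) 2 2) * a20 - (yg : MM) 1 0 * a21)
      · linear_combination -(((yg : MM) 0 0 - (yg : MM) 2 2) * a21 - (yg : MM) 0 1 * a20)
    have hzY : zg ∈ Y := by
      show Q * zg * Q⁻¹ ∈ X
      rw [hzg, show Q * (Q⁻¹ * (a : GG) * Q) * Q⁻¹ = a by group]
      exact a.2
    let zc : C := ⟨⟨zg, hzb⟩, hzY⟩
    have hκz : κ zc = a := Subtype.ext (by
      rw [hκv]; show Q * zg * Q⁻¹ = _; rw [hzg]; group)
    have hμz : μ zc = z := by show QuotientGroup.mk (κ zc) = _; rw [hκz, ha]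
    have hzz : zc * zc = 1 := hκinj (by rw [map_mul, hκz, map_one, ← pow_two, ha2])
    have hcyz : y * zc = zc * y := Subtype.ext (Subtype.ext hyz)
    by_contra hne
    have hz1 : zc ≠ 1 := fun h => by rw [h, map_one] at hμz; rw [← hμz, orderOf_one] at hz; omega
    have hzL : zc ≠ L := fun h => hne (by rw [← hμz, h, hμL])
    obtain ⟨hfz, -, hφz2⟩ := hoth zc hzz hz1 hzL
    obtain ⟨j, hj⟩ := hrefl _ hfz hφz2
    have hcz : φ y * φ zc = φ zc * φ y := by rw [← map_mul, ← map_mul, hcyz]
    have hττ : τ * τ = 1 := by rw [← pow_two, ← hτ2, pow_orderOf_eq_one]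
    have hzτ : z * τ = τ * z := by rw [← hμz, ← hμL, ← map_mul, ← map_mul, hcen]
    have hzsq : z * z = 1 := by rw [← pow_two, ← hz, pow_orderOf_eq_one]
    -- the element central in the line is excluded
    have noX : ∀ w : C, φ w = φ Xc → w * zc = zc * w → False := by
      intro w hw hwz
      have hsc : φ (Xc⁻¹ * w) = 1 := by rw [map_mul, map_inv, hw, inv_mul_cancel]
      have hkc : (Xc⁻¹ * w) * zc = zc * (Xc⁻¹ * w) := Subtype.ext (Subtype.ext
        (scal_comm O.two (Xc⁻¹ * w : C).1.2 zc.1.2 ((hφone _).mp hsc)))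
      refine hanti zc hzz hz1 hzL ?_
      calc zc * Xc = zc * w * (Xc⁻¹ * w)⁻¹ := by group
        _ = w * (zc * (Xc⁻¹ * w)⁻¹) := by rw [← hwz, mul_assoc]
        _ = w * ((Xc⁻¹ * w)⁻¹ * zc) := by
            rw [show zc * (Xc⁻¹ * w)⁻¹ = (Xc⁻¹ * w)⁻¹ * zc from (Commute.inv_left (show Commute (Xc⁻¹ * w) zc from hkc)).symm.eq]
        _ = Xc * zc := by group
    have hzn : ∀ a : ZMod n, a + a = 0 → a = 0 ∨ a = kx := by
      intro a ha
      by_contra hcon
      push Not at hcon
      refine not_cyclic (H := Multiplicative (ZMod n)) inferInstance (x := Multiplicative.ofAdd a)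
        (y := Multiplicative.ofAdd kx) (by rw [← ofAdd_add, ha]; rfl) (by rw [← ofAdd_add, hkx2]; rfl)
        (fun h => hcon.1 h) (fun h => hX₀1 ?_) (fun h => hcon.2 h)
      have h0 : kx = 0 := h
      exact congrArg Subtype.val (e.injective (by rw [hkx, h0, map_one]; rfl) : φ Xc = 1)
    have hce := congrArg e hcz
    rw [map_mul, map_mul, hj] at hce
    rcases hy' : e (φ y) with a' | a' <;> rw [hy'] at hce
    · rw [DihedralGroup.r_mul_sr, DihedralGroup.sr_mul_r, DihedralGroup.sr.injEq] at hce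
      rcases hzn a' (by linear_combination -hce) with h0 | h0
      · rcases hkerφ y (e.injective (by rw [hy', h0, map_one]; rfl)) with h | h
        · exact hq1 h
        · exact hq2 (by rw [h, hτ2])
      · exact noX y (e.injective (by rw [hy', h0, hkx])) hcyz
    · rw [DihedralGroup.sr_mul_sr, DihedralGroup.sr_mul_sr, DihedralGroup.r.injEq] at hce
      rcases hzn (j - a') (by linear_combination hce) with h0 | h0
      · have ha0 : a' = j := (sub_eq_zero.mp h0).symm
        rcases hsame y zc (e.injective (by rw [hy', hj, ha0])) with h | h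
        · exact hq2 (by rw [h, hμz, hz])
        · rw [hμz] at h
          refine hq2 (orderOf_eq_prime ?_ hq1)
          rw [pow_two, h, mul_assoc, ← mul_assoc τ, ← hzτ, mul_assoc, hττ, mul_one, hzsq]
      · refine noX (y * zc) (e.injective ?_) (by rw [mul_assoc, hzz, mul_one, ← mul_assoc, ← hcyz, mul_assoc, hzz, mul_one])
        rw [map_mul, map_mul, hy', hj, hkx, DihedralGroup.sr_mul_sr, h0]
  refine ⟨hτ2, hone, ?_, ?_, ?_⟩
  · show 4 * Nat.card I' = _
    rw [hI, hcard, hPn]
  · rw [hcard]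
    obtain ⟨a, ha⟩ := hneven
    omega
  · intro x hx1 hx2 z z' hz hz' hzx hzx'
    obtain ⟨g, rfl⟩ := hone z hz
    have key := huniq (g⁻¹ * x * g) (fun h => hx1 ?_) ?_ ?_ (g⁻¹ * z' * g) ?_ ?_
    · calc g * τ * g⁻¹ = g * (g⁻¹ * z' * g) * g⁻¹ := by rw [key]
        _ = z' := by group
    · calc x = g * (g⁻¹ * x * g) * g⁻¹ := by group
        _ = 1 := by rw [h]; group
    · rw [show g⁻¹ * x * g = MulAut.conj g⁻¹ x by simp, MulEquiv.orderOf_eq]; exact hx2
    · calc g⁻¹ * x * g * τ = g⁻¹ * (x * (g * τ * g⁻¹)) * g := by group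
        _ = τ * (g⁻¹ * x * g) := by rw [← hzx]; group
    · rw [show g⁻¹ * z' * g = MulAut.conj g⁻¹ z' by simp, MulEquiv.orderOf_eq, hz']
    · calc g⁻¹ * z' * g * (g⁻¹ * x * g) = g⁻¹ * (z' * x) * g := by group
        _ = g⁻¹ * x * g * (g⁻¹ * z' * g) := by rw [hzx']; group

end Cfsg.Lib.Classical.SLThree
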