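import Mathlib
import Cfsg.Agent.Classical.SLThree.SymQuot
import Cfsg.Agent.Classical.SLThree.SymDiag

/-! Elements of order `p` without elations: centralisers and normalisers. -/

set_option autoImplicit false
set_option linter.unusedSimpArgs false
set_option linter.unusedSectionVars false
set_option linter.style.haveILetI false

namespace Cfsg.Lib.Classical.SLThree

open Matrix LinOne
open scoped MatrixGroups

universe u

variable {F : Type u} [Field F]

local notation "MM" => Matrix (Fin 3) (Fin 3) F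
local notation "GG" => GL (Fin 3) F

theorem uni_pow (k : ℕ) : ∃ c : F, (!![1, 1, 0; 0, 1, 1; 0, 0, 1] : MM) ^ k = !![1, (k : F), c; 0, 1, (k : F); 0, 0, 1] := by
  induction k with
  | zero => exact ⟨0, by ext i j; fin_cases i <;> fin_cases j <;> simp⟩
  | succ k ih =>
    obtain ⟨c, hc⟩ := ih
    refine ⟨(k : F) + c, ?_⟩
    rw [pow_succ, hc]
    ext i j
    fin_cases i <;> fin_cases j <;> simp [Matrix.mul_apply, Fin.sum_univ_three] <;> ring

variable [Fintype F] {p : ℕ} {ω : F} {X : Subgroup (GL (Fin 3) F)}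

/-- A coordinate system for an element of order `p`. -/
theorem Over.jordan (O : Over p ω X) {u : X ⧸ Zs X} (hu : orderOf u = p) :
    ∃ (a : X) (Q : GG), (QuotientGroup.mk a : X ⧸ Zs X) = u ∧ a ^ p = 1 ∧
      ((Q⁻¹ * (a : GG) * Q : GG) : MM) = !![1, 1, 0; 0, 1, 1; 0, 0, 1] := by
  haveI : Fact p.Prime := ⟨O.prime⟩
  haveI : CharP F p := charP_of_card_eq_prime O.card
  have hp3 : p.Coprime 3 := by
    refine (Nat.coprime_primes O.prime Nat.prime_three).mpr fun e => ?_
    have := O.p3; omega
  obtain ⟨a, ha, hap⟩ := O.exists_lift hp3 (q := u) (by rw [← hu, pow_orderOf_eq_one])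
  set N : MM := ((a : GG) : MM) - 1 with hN
  have hNp : N ^ p = 0 := by
    rw [hN, sub_pow_char_of_commute _ (Commute.one_right _), one_pow, ← Units.val_pow_eq_pow_val, ← Subgroup.coe_pow, hap]
    simp
  have hN2 : N * N ≠ 0 := by
    intro h0
    obtain ⟨v, hv⟩ : ∃ v, N *ᵥ v ≠ 0 := by
      by_contra hc
      push Not at hc
      have hN0 : N = 0 := Matrix.ext_of_mulVec_single fun l => by rw [hc, Matrix.zero_mulVec]
      have : a = 1 := Subtype.ext (Units.ext (by
        rw [Subgroup.coe_one, Units.val_one]; exact sub_eq_zero.mp hN0))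
      rw [this] at ha
      rw [← ha, QuotientGroup.mk_one, orderOf_one] at hu
      exact O.prime.one_lt.ne hu
    set w := N *ᵥ v with hw
    have hle : LinearMap.range (Matrix.toLin' N) ≤ LinearMap.ker (Matrix.toLin' N) := by
      rintro _ ⟨x, rfl⟩
      rw [LinearMap.mem_ker, Matrix.toLin'_apply, Matrix.toLin'_apply, Matrix.mulVec_mulVec, h0, Matrix.zero_mulVec]
    have hr1 : Module.finrank F (LinearMap.range (Matrix.toLin' N)) ≤ 1 := by
      have h1 := LinearMap.finrank_range_add_finrank_ker (Matrix.toLin' N)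
      have h2 := Submodule.finrank_mono hle
      rw [Module.finrank_fin_fun] at h1
      omega
    have hmul : ∀ x, ∃ c : F, c • w = N *ᵥ x := fun x => by
      have hwm : w ∈ LinearMap.range (Matrix.toLin' N) := ⟨v, Matrix.toLin'_apply N v⟩
      have hxm : N *ᵥ x ∈ LinearMap.range (Matrix.toLin' N) := ⟨x, Matrix.toLin'_apply N x⟩
      obtain ⟨c, hc⟩ := (finrank_eq_one_iff_of_nonzero' (⟨w, hwm⟩ : LinearMap.range (Matrix.toLin' N))
        (fun e => hv (congrArg Subtype.val e))).mp (le_antisymm hr1 (Nat.one_le_iff_ne_zero.mpr fun e => by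
          have : LinearMap.range (Matrix.toLin' N) = ⊥ := Submodule.finrank_eq_zero.mp e
          rw [this, Submodule.mem_bot] at hwm
          exact hv hwm)) ⟨_, hxm⟩
      exact ⟨c, congrArg Subtype.val hc⟩
    choose φ hφ using fun l : Fin 3 => hmul (Pi.single l 1)
    have hV : N = vecMulVec w φ := by
      ext i j
      have := congrFun (hφ j) i
      simp [Matrix.mulVec_single] at this
      rw [vecMulVec_apply, ← this, mul_comm]
    have h0' : φ ⬝ᵥ w = 0 := by
      have e : N *ᵥ w = 0 := by rw [hw, Matrix.mulVec_mulVec, h0, Matrix.zero_mulVec]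
      rw [hV, vecMulVec_mulVec, op_smul_eq_smul] at e
      exact (smul_eq_zero.mp e).resolve_right hv
    rcases O.noel w φ ⟨a, a.2, by rw [← hV, hN, add_sub_cancel]⟩ h0' with e | e
    · exact hv e
    · exact hv (by rw [hw, hV, e, vecMulVec_zero, Matrix.zero_mulVec])
  obtain ⟨Q, hQ⟩ := jordan_three N ⟨p, hNp⟩ hN2
  refine ⟨a, Q, ha, hap, ?_⟩
  refine (Units.isUnit Q).mul_left_cancel ?_
  rw [← Units.val_mul, show Q * (Q⁻¹ * (a : GG) * Q) = (a : GG) * Q by group, Units.val_mul,
    show ((a : GG) : MM) = 1 + N by rw [hN, add_sub_cancel], add_mul, one_mul, hQ]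
  nth_rewrite 1 [show (Q : MM) = (Q : MM) * 1 from (mul_one _).symm]
  rw [← mul_add]
  congr 1
  ext i j
  fin_cases i <;> fin_cases j <;> simp

/-- The centraliser of an element of order `p`. -/
theorem Over.unip (O : Over p ω X) {u : X ⧸ Zs X} (hu : orderOf u = p) {x : X ⧸ Zs X} (hx : x * u = u * x) :
    x ∈ Subgroup.zpowers u := by
  haveI : Fact p.Prime := ⟨O.prime⟩
  haveI : CharP F p := charP_of_card_eq_prime O.card
  obtain ⟨a, Q, rfl, hap, hJ⟩ := O.jordan hu
  obtain ⟨y, rfl⟩ := QuotientGroup.mk_surjective x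
  have hp3 : p.Coprime 3 := by
    refine (Nat.coprime_primes O.prime Nat.prime_three).mpr fun e => ?_
    have := O.p3; omega
  have hc : (y : GG) * a = a * y := congrArg Subtype.val (O.comm_exact hp3 hap hx)
  set yq : GG := Q⁻¹ * (y : GG) * Q with hyq
  set aq : GG := Q⁻¹ * (a : GG) * Q with haq
  have hc' : yq * aq = aq * yq := by
    calc yq * aq = Q⁻¹ * ((y : GG) * a) * Q := by rw [hyq, haq]; group
      _ = _ := by rw [hc, hyq, haq]; group
  have h := congrArg (fun g : GG => (g : MM)) hc'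
  simp only [Units.val_mul yq aq, Units.val_mul aq yq, hJ] at h
  have e00 := congrFun (congrFun h 0) 0
  have e01 := congrFun (congrFun h 0) 1
  have e02 := congrFun (congrFun h 0) 2
  have e10 := congrFun (congrFun h 1) 0
  have e11 := congrFun (congrFun h 1) 1
  have e12 := congrFun (congrFun h 1) 2
  simp [Matrix.mul_apply, Fin.sum_univ_three] at e00 e01 e02 e10 e11 e12
  set α := (yq : MM) 0 0 with hα
  set β := (yq : MM) 0 1 with hβ
  set γ := (yq : MM) 0 2 with hγ
  have z10 : (yq : MM) 1 0 = 0 := by first | exact e00 | exact e00.symm | linear_combination e00 | linear_combination -e00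
  have z20 : (yq : MM) 2 0 = 0 := by first | exact e10 | exact e10.symm | linear_combination e10 | linear_combination -e10
  have z21 : (yq : MM) 2 1 = 0 := by first | linear_combination e11 + z10 | linear_combination -e11 + z10 | linear_combination e11 - z10 | linear_combination -e11 - z10
  have z11 : (yq : MM) 1 1 = α := by first | linear_combination e01 | linear_combination -e01
  have z12 : (yq : MM) 1 2 = β := by first | linear_combination e02 | linear_combination -e02
  have z22 : (yq : MM) 2 2 = α := by first | linear_combination e12 + z11 | linear_combination -e12 + z11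
  have hY : (yq : MM) = !![α, β, γ; 0, α, β; 0, 0, α] := by
    ext i j
    fin_cases i <;> fin_cases j <;> simp [z10, z20, z21, z11, z12, z22, ← hα, ← hβ, ← hγ]
  have hα3 : α ^ 3 = 1 := by
    have hd := O.det _ y.2
    have e : ((yq : GG) : MM).det = 1 := by
      rw [hyq, Units.val_mul, Units.val_mul, Matrix.det_mul, Matrix.det_mul, hd, mul_one, ← Matrix.det_mul, Units.inv_mul,
        Matrix.det_one]
    rw [hY, Matrix.det_fin_three] at e
    simp at e
    linear_combination e
  have hα0 : α ≠ 0 := fun e => by rw [e] at hα3; simp at hα3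
  obtain ⟨k, hk⟩ : ∃ k : ℕ, (k : F) = -(β / α) := by
    let e : ZMod p ≃+* F := ZMod.ringEquivOfPrime F O.prime O.card
    exact ⟨(e.symm (-(β / α))).val, by rw [← map_natCast e, ZMod.natCast_rightInverse, e.apply_symm_apply]⟩
  obtain ⟨c, hc⟩ := uni_pow (F := F) k
  obtain ⟨Cg, hC, hCv⟩ := O.memC
  obtain ⟨i, hi⟩ : ∃ i : ℕ, ω ^ i * α = 1 := by
    rcases Cfsg.Lib.Classical.ExtraThree.cube_cases O.root hα3 with h' | h' | h' <;> rw [h']
    · exact ⟨0, by simp⟩
    · exact ⟨2, by linear_combination Cfsg.Lib.Classical.ExtraThree.root_pow O.root⟩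
    · exact ⟨1, by linear_combination Cfsg.Lib.Classical.ExtraThree.root_pow O.root⟩
  set g : X := ⟨Cg, hC⟩ ^ i * (y * a ^ k) with hg
  have hgq : ((Q⁻¹ * (g : GG) * Q : GG) : MM) = !![1, 0, ω ^ i * (α * c + β * (k : F) + γ); 0, 1, 0; 0, 0, 1] := by
    have e : Q⁻¹ * (g : GG) * Q = (Q⁻¹ * Cg ^ i * Q) * (yq * aq ^ k) := by
      rw [hyq, haq, show Q⁻¹ * (a : GG) * Q = MulAut.conj Q⁻¹ (a : GG) by simp, ← map_pow, hg]
      simp only [Subgroup.coe_mul, Subgroup.coe_pow, MulAut.conj_apply]
      group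
    have ec : ((Q⁻¹ * Cg ^ i * Q : GG) : MM) = ω ^ i • 1 := by
      rw [Units.val_mul, Units.val_mul, Units.val_pow_eq_pow_val, hCv, smul_pow, one_pow, Matrix.mul_smul, mul_one,
        Matrix.smul_mul, Units.inv_mul]
    rw [e, Units.val_mul _ (yq * aq ^ k), Units.val_mul yq, Units.val_pow_eq_pow_val, ec, hJ, hc, hY, smul_mul_assoc, one_mul]
    have hk0 : α * (k : F) + β = 0 := by rw [hk]; field_simp; ring
    ext r s
    fin_cases r <;> fin_cases s <;> simp [Matrix.mul_apply, Fin.sum_univ_three] <;>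
      first | exact Or.inl trivial | (left; ring1) | linear_combination hi | linear_combination (ω ^ i) * hk0 | (right; linear_combination hk0) | exact Or.inl trivial | ring
  set δ := ω ^ i * (α * c + β * (k : F) + γ) with hδ
  have hg1 : Q⁻¹ * (g : GG) * Q = 1 := by
    have hδ0 : δ = 0 := by
      by_contra hne
      rcases (O.noel.conj Q) (Pi.single 0 δ) (Pi.single 2 1)
        ⟨Q⁻¹ * (g : GG) * Q, by
          show Q * (Q⁻¹ * (g : GG) * Q) * Q⁻¹ ∈ X
          rw [show Q * (Q⁻¹ * (g : GG) * Q) * Q⁻¹ = (g : GG) by group]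
          exact g.2, by
          rw [hgq]; ext r s
          fin_cases r <;> fin_cases s <;> simp [vecMulVec_apply]⟩ (by simp) with e | e
      · exact hne (by simpa using congrFun e 0)
      · simpa using congrFun e 2
    refine Units.ext ?_
    rw [hgq, hδ0, Units.val_one]
    ext r s
    fin_cases r <;> fin_cases s <;> simp
  have hg' : g = 1 := Subtype.ext (by
    calc (g : GG) = Q * (Q⁻¹ * (g : GG) * Q) * Q⁻¹ := by group
      _ = 1 := by rw [hg1]; group)
  have hCz : (QuotientGroup.mk (⟨Cg, hC⟩ ^ i : X) : X ⧸ Zs X) = 1 :=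
    (QuotientGroup.eq_one_iff _).mpr (mem_zs.mpr ⟨ω ^ i, by
      rw [Subgroup.coe_pow, Units.val_pow_eq_pow_val, hCv, smul_pow, one_pow]⟩)
  have := congrArg (fun z : X => (QuotientGroup.mk z : X ⧸ Zs X)) hg'
  simp only [hg, QuotientGroup.mk_mul, hCz, one_mul, QuotientGroup.mk_one, QuotientGroup.mk_pow (Zs X) a] at this
  rw [eq_inv_of_mul_eq_one_left this]
  exact Subgroup.inv_mem _ (Subgroup.pow_mem _ (Subgroup.mem_zpowers _) k)

/-- Involutions commuting with elements normalising a subgroup of order `p` normalise it. -/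
theorem Over.flag (O : Over p ω X) {u h z : X ⧸ Zs X} (hu : orderOf u = p) (hn : h * u * h⁻¹ ∈ Subgroup.zpowers u)
    (h4 : 4 < orderOf h) (hp : ¬ p ∣ orderOf h) (hz : orderOf z = 2) (hzh : z * h = h * z) :
    z * u * z⁻¹ ∈ Subgroup.zpowers u := by
  haveI : Fact p.Prime := ⟨O.prime⟩
  haveI : CharP F p := charP_of_card_eq_prime O.card
  have hp3 : p.Coprime 3 := by
    refine (Nat.coprime_primes O.prime Nat.prime_three).mpr fun e => ?_
    have := O.p3; omega
  obtain ⟨a, Q, rfl, hap, hJ⟩ := O.jordan hu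
  obtain ⟨x, rfl⟩ := QuotientGroup.mk_surjective h
  obtain ⟨Z, hZ, hZ2⟩ := O.exists_lift (n := 2) (by norm_num) (q := z) (by rw [← hz, pow_orderOf_eq_one])
  obtain ⟨k, hk⟩ := mem_powers_iff_mem_zpowers.mpr hn
  have hk' : (QuotientGroup.mk (x * a * x⁻¹) : X ⧸ Zs X) = QuotientGroup.mk (a ^ k) := by
    rw [QuotientGroup.mk_mul, QuotientGroup.mk_mul, QuotientGroup.mk_inv, QuotientGroup.mk_pow]; exact hk.symm
  have hexact : x * a * x⁻¹ = a ^ k := by
    obtain ⟨l, hl⟩ := qmk_eq.mp hk'
    have h1 : (x * a * x⁻¹) ^ p = 1 := by rw [← MulAut.conj_apply, ← map_pow, hap, map_one]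
    have h2 : (a ^ k) ^ p = 1 := by rw [← pow_mul, mul_comm, pow_mul, hap, one_pow]
    have h1' : (((x * a * x⁻¹ : X) : GG) : MM) ^ p = 1 := by
      rw [← Units.val_pow_eq_pow_val, ← Subgroup.coe_pow, h1]; simp
    have h2' : (((a ^ k : X) : GG) : MM) ^ p = 1 := by
      rw [← Units.val_pow_eq_pow_val, ← Subgroup.coe_pow, h2]; simp
    rw [hl, smul_pow, h1'] at h2'
    have hlp : l ^ p = 1 := by simpa using congrFun (congrFun h2' 0) 0
    have hl1 : l = 1 := by rwa [← O.card, FiniteField.pow_card] at hlp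
    rw [hl1, one_smul] at hl
    exact (Subtype.ext (Units.ext hl)).symm
  have hzx : (x : GG) * (Z : GG) = (Z : GG) * x :=
    congrArg Subtype.val (O.comm_exact (a := x) (u := Z) (n := 2) (by norm_num) hZ2 (by rw [hZ]; exact hzh.symm))
  set aq : GG := Q⁻¹ * (a : GG) * Q with haq
  set xq : GG := Q⁻¹ * (x : GG) * Q with hxq
  set zq : GG := Q⁻¹ * (Z : GG) * Q with hzq
  obtain ⟨c, hc⟩ := uni_pow (F := F) k
  have hxa : xq * aq = aq ^ k * xq := by
    have e : (x : GG) * a = (a : GG) ^ k * x := by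
      have := congrArg Subtype.val hexact
      simp only [Subgroup.coe_mul, Subgroup.coe_inv, Subgroup.coe_pow] at this
      exact mul_inv_eq_iff_eq_mul.mp this
    rw [haq, show Q⁻¹ * (a : GG) * Q = MulAut.conj Q⁻¹ (a : GG) by simp,
      show xq = MulAut.conj Q⁻¹ (x : GG) by simp [hxq], ← map_pow, ← map_mul, ← map_mul, e]
  have h := congrArg (fun g : GG => (g : MM)) hxa
  simp only [Units.val_mul xq aq, Units.val_mul _ xq, Units.val_pow_eq_pow_val, hJ, hc] at h
  have e00 := congrFun (congrFun h 0) 0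
  have e01 := congrFun (congrFun h 0) 1
  have e10 := congrFun (congrFun h 1) 0
  have e12 := congrFun (congrFun h 1) 2
  have e22 := congrFun (congrFun h 2) 2
  simp [Matrix.mul_apply, Fin.sum_univ_three] at e00 e01 e10 e12 e22
  set d := fun i j : Fin 3 => (xq : MM) i j with hd
  have hkF : (k : F) ≠ 0 := by
    intro e
    have hpk : p ∣ k := (CharP.cast_eq_zero_iff F p k).mp e
    have e1 : x * a * x⁻¹ = 1 := by
      rw [hexact]; obtain ⟨j, rfl⟩ := hpk; rw [pow_mul, hap, one_pow]
    have : a = 1 := by simpa using e1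
    rw [this, QuotientGroup.mk_one, orderOf_one] at hu
    exact O.prime.one_lt.ne hu
  have x20 : (xq : MM) 2 0 = 0 := by
    rcases e10 with e | e
    · exact absurd e hkF
    · exact e
  have x10 : (xq : MM) 1 0 = 0 := by
    rcases mul_eq_zero.mp (show (k : F) * (xq : MM) 1 0 = 0 by linear_combination -e00 - c * x20) with e | e
    · exact absurd e hkF
    · exact e
  have x21 : (xq : MM) 2 1 = 0 := by first | exact e22 | linear_combination e22 | linear_combination -e22
  rw [x21, mul_zero, add_zero] at e01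
  have e01' : (xq : MM) 0 0 = (k : F) * (xq : MM) 1 1 := by first | linear_combination e01 | linear_combination -e01
  have e12' : (xq : MM) 1 1 = (k : F) * (xq : MM) 2 2 := by first | linear_combination e12 | linear_combination -e12
  have x22 : (xq : MM) 2 2 ≠ 0 := fun e => by
    refine (Matrix.isUnits_det_units xq).ne_zero ?_
    rw [Matrix.det_fin_three, x20, x21, x10, e]
    ring
  -- the multiplier is not a sign
  have hk1 : (k : F) ^ 2 ≠ 1 := by
    intro e2
    have hdiv : p ∣ k ^ 2 + (p - 1) := by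
      rw [← CharP.cast_eq_zero_iff F p, Nat.cast_add, Nat.cast_pow, Nat.cast_sub O.prime.one_le, CharP.cast_eq_zero F p, Nat.cast_one]
      linear_combination e2
    have hsq : x * x * a * (x * x)⁻¹ = a := by
      have e : x * x * a * (x * x)⁻¹ = (a ^ k) ^ k := by
        rw [show x * x * a * (x * x)⁻¹ = x * (x * a * x⁻¹) * x⁻¹ by group, hexact, ← conj_pow, hexact]
      rw [e, ← pow_mul, ← pow_two]
      obtain ⟨j, hj⟩ := hdiv
      have hj' : k ^ 2 + p = p * j + 1 := by have := O.prime.two_le; omega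
      calc a ^ k ^ 2 = a ^ k ^ 2 * a ^ p := by rw [hap, mul_one]
        _ = a := by rw [← pow_add, hj', pow_add, pow_mul, hap, one_pow, one_mul, pow_one]
    set q : X ⧸ Zs X := QuotientGroup.mk x
    have hcomm : (q * q) * QuotientGroup.mk a = QuotientGroup.mk a * (q * q) := by
      rw [← QuotientGroup.mk_mul, ← QuotientGroup.mk_mul, ← QuotientGroup.mk_mul]
      exact congrArg _ (mul_inv_eq_iff_eq_mul.mp hsq)
    have hd := orderOf_dvd_of_mem_zpowers (O.unip hu hcomm)
    rw [hu] at hd
    rcases (Nat.dvd_prime O.prime).mp hd with e | e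
    · have h2 := Nat.le_of_dvd (by norm_num) (orderOf_dvd_of_pow_eq_one (x := q) (n := 2) (by
        rw [pow_two]; exact orderOf_eq_one_iff.mp e))
      omega
    · exact hp (by rw [← e, ← pow_two]; exact orderOf_pow_dvd 2)
  have hne1 : (k : F) - 1 ≠ 0 := fun e => hk1 (by linear_combination ((k : F) + 1) * e)
  have hne2 : (k : F) + 1 ≠ 0 := fun e => hk1 (by linear_combination ((k : F) - 1) * e)
  -- the involution preserves the flag
  have hzxq : xq * zq = zq * xq := by
    calc xq * zq = Q⁻¹ * ((x : GG) * Z) * Q := by rw [hxq, hzq]; group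
      _ = _ := by rw [hzx, hxq, hzq]; group
  have h' := congrArg (fun g : GG => (g : MM)) hzxq
  simp only [Units.val_mul xq zq, Units.val_mul zq xq] at h'
  have f20 := congrFun (congrFun h' 2) 0
  have f10 := congrFun (congrFun h' 1) 0
  have f21 := congrFun (congrFun h' 2) 1
  simp [Matrix.mul_apply, Fin.sum_univ_three, x20, x10, x21] at f20 f10 f21
  rw [e01', e12'] at f20 f10
  rw [e12'] at f21
  have z20 : (zq : MM) 2 0 = 0 := (mul_eq_zero.mp (show ((xq : MM) 2 2 * ((k : F) - 1) * ((k : F) + 1)) * _ = 0 by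
    linear_combination -f20)).resolve_left (mul_ne_zero (mul_ne_zero x22 hne1) hne2)
  rw [z20] at f10
  have z10 : (zq : MM) 1 0 = 0 := (mul_eq_zero.mp (show ((k : F) * (xq : MM) 2 2 * ((k : F) - 1)) * _ = 0 by
    linear_combination -f10)).resolve_left (mul_ne_zero (mul_ne_zero hkF x22) hne1)
  rw [z20] at f21
  have z21 : (zq : MM) 2 1 = 0 := (mul_eq_zero.mp (show ((xq : MM) 2 2 * ((k : F) - 1)) * _ = 0 by
    linear_combination -f21)).resolve_left (mul_ne_zero x22 hne1)
  have hz2 : (zq : MM) * (zq : MM) = 1 := by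
    rw [← Units.val_mul, hzq, show Q⁻¹ * (Z : GG) * Q * (Q⁻¹ * (Z : GG) * Q) = Q⁻¹ * ((Z : GG) * Z) * Q by group,
      ← Subgroup.coe_mul, ← pow_two Z, hZ2]
    simp
  set V : GG := zq * aq * zq with hV
  set W : GG := aq * V * (V * aq)⁻¹ with hW
  have hdiag : ∀ i : Fin 3, (zq : MM) i i * (zq : MM) i i = 1 := fun i => by
    have := congrFun (congrFun hz2 i) i
    fin_cases i <;> simpa [Matrix.mul_apply, Fin.sum_univ_three, z20, z10, z21] using this
  obtain ⟨v01, v02, v12, hVv⟩ : ∃ r s t : F, (V : MM) = !![1, r, s; 0, 1, t; 0, 0, 1] := by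
    refine ⟨(V : MM) 0 1, (V : MM) 0 2, (V : MM) 1 2, ?_⟩
    have eV : (V : MM) = (zq : MM) * !![1, 1, 0; 0, 1, 1; 0, 0, 1] * (zq : MM) := by
      rw [hV, Units.val_mul _ zq, Units.val_mul zq aq, hJ]
    ext i j
    fin_cases i <;> fin_cases j <;>
      simp [eV, Matrix.mul_apply, Fin.sum_univ_three, z20, z10, z21] <;>
      first | linear_combination hdiag 0 | linear_combination hdiag 1 | linear_combination hdiag 2
  have hWX : Q * W * Q⁻¹ ∈ X := by
    have e : Q * W * Q⁻¹ = ((a * (Z * a * Z) * ((Z * a * Z) * a)⁻¹ : X) : GG) := by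
      rw [hW, hV, haq, hzq]; simp only [Subgroup.coe_mul, Subgroup.coe_inv]; group
    rw [e]; exact SetLike.coe_mem _
  have hWv : (W : MM) = 1 + vecMulVec (Pi.single 0 (v12 - v01)) (Pi.single 2 1) := by
    refine (Units.isUnit (V * aq)).mul_right_cancel ?_
    rw [← Units.val_mul, hW, inv_mul_cancel_right, Units.val_mul aq V, Units.val_mul V aq, hJ, hVv]
    ext i j
    fin_cases i <;> fin_cases j <;> simp [Matrix.mul_apply, Fin.sum_univ_three, vecMulVec_apply] <;> ring
  have hW1 : W = 1 := by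
    rcases (O.noel.conj Q) (Pi.single 0 (v12 - v01)) (Pi.single 2 1) ⟨W, hWX, hWv⟩ (by simp) with e | e
    · refine Units.ext ?_
      rw [hWv, e, zero_vecMulVec, add_zero, Units.val_one]
    · exact absurd (congrFun e 2) (by simp)
  rw [hW, mul_inv_eq_one, hV, hzq, haq] at hW1
  have hcx : a * (Z * a * Z) = Z * a * Z * a := by
    refine Subtype.ext ?_
    simp only [Subgroup.coe_mul]
    have := congrArg (fun g : GG => Q * g * Q⁻¹) hW1
    simpa [mul_assoc] using this
  have hzi : z⁻¹ = z := inv_eq_of_mul_eq_one_right (by rw [← pow_two, ← hz, pow_orderOf_eq_one])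
  refine O.unip hu ?_
  rw [hzi, ← hZ, ← QuotientGroup.mk_mul, ← QuotientGroup.mk_mul, ← QuotientGroup.mk_mul, ← QuotientGroup.mk_mul]
  exact congrArg _ hcx.symm

end Cfsg.Lib.Classical.SLThree
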