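import Mathlib
import Cfsg.Agent.Classical.SLThree.SymStd
import Cfsg.Agent.Classical.SLThree.SymStruct
import Cfsg.Agent.Classical.SLThree.SymSemi
import Cfsg.Agent.Classical.SLThree.SymUnip
import Cfsg.Agent.Classical.SLThree.SymCount
import Cfsg.Agent.Classical.Misc.ExtraThreeApply
import Cfsg.Prelude.Def_TwoFusion

/-! Subgroups between the normaliser of `3^{1+2}` and the special linear group without elations: the inverting
involution is isolated. -/

set_option autoImplicit false
set_option linter.unusedSimpArgs false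
set_option linter.unusedSectionVars false
set_option linter.style.haveILetI false

namespace Cfsg.Lib.Classical.SLThree

open Matrix LinOne Cfsg.Geo
open scoped MatrixGroups
open Cfsg.Lib.Classical.ExtraThree (dA mB root_pow root_ne cube_cases)

universe u

variable {F : Type u} [Field F] [Fintype F]

local notation "MM" => Matrix (Fin 3) (Fin 3) F
local notation "GG" => GL (Fin 3) F

theorem mem_sl_iff {g : GG} : g ∈ specialLinear (Fin 3) F ↔ (g : MM).det = 1 := by
  rw [specialLinear, MonoidHom.mem_ker, Units.ext_iff, Matrix.GeneralLinearGroup.val_det_apply, Units.val_one]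

/-- A group above the normaliser of a standard Heisenberg group. -/
structure Above (p : ℕ) (ω : F) (R : Subgroup (GL (Fin 3) F)) (c a b : GL (Fin 3) F)
    (X : Subgroup (GL (Fin 3) F)) : Prop where
  prime : p.Prime
  card : Fintype.card F = p
  p3 : p % 3 = 1
  std : Std ω R c a b
  ge : subgroupNormalizer R ⊓ specialLinear (Fin 3) F ≤ X
  le : X ≤ specialLinear (Fin 3) F

variable {p : ℕ} {ω : F} {R X : Subgroup (GL (Fin 3) F)} {c a b : GL (Fin 3) F}

theorem Above.R_le_sl (A : Above p ω R c a b X) : R ≤ specialLinear (Fin 3) F := by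
  rw [← A.std.frame.gen, Subgroup.closure_le]
  rintro g (rfl | rfl)
  exacts [mem_sl_iff.mpr A.std.frame.det_one.1, mem_sl_iff.mpr A.std.frame.det_one.2]

theorem Above.R_le (A : Above p ω R c a b X) : R ≤ X :=
  (le_inf Subgroup.le_normalizer A.R_le_sl).trans A.ge

/-- Matrices normalising the group. -/
theorem Above.inK (A : Above p ω R c a b X) {D : MM} (hd : D.det = 1)
    (hA : ∃ i j k : ℕ, D * dA ω = (ω ^ i • (dA ω ^ j * mB ^ k)) * D)
    (hB : ∃ i j k : ℕ, D * mB = (ω ^ i • (dA ω ^ j * mB ^ k)) * D) : InK X D := by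
  let g : GG := Matrix.GeneralLinearGroup.mkOfDetNeZero D (by rw [hd]; exact one_ne_zero)
  have hg : (g : MM) = D := rfl
  refine ⟨g, A.ge ⟨?_, mem_sl_iff.mpr (by rw [hg, hd])⟩, hg⟩
  exact A.std.frame.mem_normalizer (D := D) (by rw [hg, Units.val_one, mul_one, one_mul]) hA hB

theorem tM_det : (tM : MM).det = 1 := by
  rw [tM, Matrix.det_fin_three]; simp

theorem Above.over (A : Above p ω R c a b X) (hne : NoEl X) : Over p ω X := by
  have hw := A.std.root
  have hw3 := root_pow hw
  have hθ2 : (1 + 2 * ω) ^ 2 = -3 := by linear_combination 4 * hw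
  have hθ : 1 + 2 * ω ≠ 0 := fun e => A.std.three (by linear_combination hθ2 - (1 + 2 * ω) * e)
  refine
    { prime := A.prime
      card := A.card
      p3 := A.p3
      det := fun g hg => mem_sl_iff.mp (A.le hg)
      noel := hne
      root := hw
      memA := ⟨a, A.R_le A.std.frame.mem_a, A.std.val_a⟩
      memB := ⟨b, A.R_le A.std.frame.mem_b, A.std.val_b⟩
      memC := ⟨c, A.R_le A.std.frame.mem_c, A.std.frame.eqc⟩
      memT := A.inK tM_det ⟨0, 2, 0, ?_⟩ ⟨0, 0, 2, ?_⟩
      memF := A.inK ?_ ⟨0, 0, 2, ?_⟩ ⟨0, 1, 0, ?_⟩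
      memG := A.inK ?_ ⟨2, 1, 2, ?_⟩ ⟨1, 2, 2, ?_⟩ }
  · ext i j
    fin_cases i <;> fin_cases j <;> simp [tM, dA, mB, pow_two, Matrix.mul_apply, Fin.sum_univ_three, Matrix.diagonal] <;>
      linear_combination (-ω : F) * hw3
  · ext i j
    fin_cases i <;> fin_cases j <;> simp [tM, dA, mB, pow_two, Matrix.mul_apply, Fin.sum_univ_three, Matrix.diagonal]
  · rw [fM, Matrix.det_smul, Fintype.card_fin, inv_pow, inv_mul_eq_one₀ (pow_ne_zero 3 hθ), Matrix.det_fin_three]
    simp
    linear_combination (1 + 7 * ω + ω ^ 2) * hw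
  · rw [fM, smul_mul_assoc, pow_zero, one_smul, mul_smul_comm]
    congr 1
    ext i j
    fin_cases i <;> fin_cases j <;> simp [dA, mB, pow_two, Matrix.mul_apply, Fin.sum_univ_three, Matrix.diagonal] <;>
      first | linear_combination hw3 | linear_combination -hw3 | linear_combination ω * hw3 | linear_combination -ω * hw3
  · rw [fM, smul_mul_assoc, pow_zero, one_smul, mul_smul_comm]
    congr 1
    ext i j
    fin_cases i <;> fin_cases j <;> simp [dA, mB, pow_two, Matrix.mul_apply, Fin.sum_univ_three, Matrix.diagonal] <;>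
      first | linear_combination hw3 | linear_combination -hw3 | linear_combination ω * hw3 | linear_combination -ω * hw3
  · rw [gM, Matrix.det_smul, Fintype.card_fin, inv_pow, inv_mul_eq_one₀ (pow_ne_zero 3 hθ), Matrix.det_fin_three]
    simp
    linear_combination (1 + 5 * ω + 5 * ω ^ 2 - 2 * ω ^ 3) * hw
  · rw [gM, smul_mul_assoc, mul_smul_comm]
    congr 1
    ext i j
    fin_cases i <;> fin_cases j <;> simp [dA, mB, pow_two, Matrix.mul_apply, Fin.sum_univ_three, Matrix.diagonal] <;>
      first
        | ring1
        | (linear_combination (1 : F) * hw3)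
        | (linear_combination (ω) * hw3)
        | (linear_combination (ω ^ 2) * hw3)
        | (linear_combination (ω ^ 3) * hw3)
        | (linear_combination ((ω ^ 3 + 1)) * hw3)
        | (linear_combination ((ω ^ 4 + ω)) * hw3)
        | (linear_combination ((ω ^ 5 + ω ^ 2)) * hw3)
        | (linear_combination ((ω + ω ^ 2)) * hw3)
        | (linear_combination (-1 : F) * hw3)
        | (linear_combination (-ω) * hw3)
        | (linear_combination (-ω ^ 2) * hw3)
        | (linear_combination (-ω ^ 3) * hw3)
        | (linear_combination (-(ω ^ 3 + 1)) * hw3)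
        | (linear_combination (-(ω ^ 4 + ω)) * hw3)
        | (linear_combination (-(ω ^ 5 + ω ^ 2)) * hw3)
        | (linear_combination (-(ω + ω ^ 2)) * hw3)
        | (left; linear_combination ω * hw3)
        | (left; linear_combination -ω * hw3)
  · rw [gM, smul_mul_assoc, mul_smul_comm]
    congr 1
    ext i j
    fin_cases i <;> fin_cases j <;> simp [dA, mB, pow_two, Matrix.mul_apply, Fin.sum_univ_three, Matrix.diagonal] <;>
      first
        | ring1
        | (linear_combination (1 : F) * hw3)
        | (linear_combination (ω) * hw3)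
        | (linear_combination (ω ^ 2) * hw3)
        | (linear_combination (ω ^ 3) * hw3)
        | (linear_combination ((ω ^ 3 + 1)) * hw3)
        | (linear_combination ((ω ^ 4 + ω)) * hw3)
        | (linear_combination ((ω ^ 5 + ω ^ 2)) * hw3)
        | (linear_combination ((ω + ω ^ 2)) * hw3)
        | (linear_combination (-1 : F) * hw3)
        | (linear_combination (-ω) * hw3)
        | (linear_combination (-ω ^ 2) * hw3)
        | (linear_combination (-ω ^ 3) * hw3)
        | (linear_combination (-(ω ^ 3 + 1)) * hw3)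
        | (linear_combination (-(ω ^ 4 + ω)) * hw3)
        | (linear_combination (-(ω ^ 5 + ω ^ 2)) * hw3)
        | (linear_combination (-(ω + ω ^ 2)) * hw3)
        | (left; linear_combination ω * hw3)
        | (left; linear_combination -ω * hw3)

theorem Above.rdata (A : Above p ω R c a b X) (h9 : ¬ 9 ∣ p - 1) : RData ω X R where
  card := A.std.card
  le := A.R_le
  exp := A.std.exp
  form := A.std.form
  memC := ⟨c, A.std.frame.mem_c, A.std.frame.eqc⟩
  memA := ⟨a, A.std.frame.mem_a, A.std.val_a⟩
  memB := ⟨b, A.std.frame.mem_b, A.std.val_b⟩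
  sylow := fun h => by
    have h3 := A.p3
    have hle : X ≤ ⊤ ⊓ specialLinear (Fin 3) F := le_inf le_top A.le
    exact Cfsg.Lib.Classical.ExtraThree.not_dvd_card_SL A.card (by omega) (h.trans (Subgroup.card_dvd_of_le hle))

/-- The inverting involution is isolated. -/
theorem Above.isolated (A : Above p ω R c a b X) (hne : NoEl X) {T : X} (hT : ((T : GG) : MM) = tM) :
    Cfsg.IsIsolatedInvolution T := by
  classical
  have O := A.over hne
  haveI : Fact p.Prime := ⟨A.prime⟩
  have hT2 : ((T : GG) : MM) * ((T : GG) : MM) = 1 := by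
    rw [hT, tM]
    ext i j
    fin_cases i <;> fin_cases j <;> simp [Matrix.mul_apply, Fin.sum_univ_three]
  have hTT : T * T = 1 := Subtype.ext (Units.ext (by
    simpa only [Subgroup.coe_mul, Units.val_mul, Subgroup.coe_one, Units.val_one] using hT2))
  have hTne : T ≠ 1 := fun e => by
    rw [e, Subgroup.coe_one, Units.val_one] at hT
    have := congrFun (congrFun hT 1) 1
    simp [tM] at this
  refine ⟨orderOf_eq_prime (by rw [pow_two, hTT]) hTne, fun g hg => ?_⟩
  by_contra hne₀
  by_cases h9 : 9 ∣ p - 1
  · obtain ⟨ζ, hζ⟩ := Cfsg.Lib.Classical.ExtraThree.exists_root_three (F := F) (by rw [A.card]; exact h9) (root_pow A.std.root)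
    have hD : InK X (ζ • diagonal ![1, ω, ω]) := A.inK (by
      rw [Matrix.det_smul, Fintype.card_fin, Matrix.det_diagonal, Fin.prod_univ_three, hζ]
      simp
      linear_combination root_pow A.std.root) ⟨0, 1, 0, (by
        rw [smul_mul_assoc, pow_zero, one_smul, pow_one, pow_zero, mul_one, mul_smul_comm, dA, diagonal_mul_diagonal,
          diagonal_mul_diagonal]
        congr 2; funext i; ring)⟩ ⟨2, 2, 1, (by
        rw [smul_mul_assoc, mul_smul_comm, smul_mul_assoc]
        congr 1
        have hw3 := root_pow A.std.root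
        ext i j
        fin_cases i <;> fin_cases j <;> simp [dA, mB, pow_two, Matrix.mul_apply, Fin.sum_univ_three, Matrix.diagonal] <;>
          first
            | ring1
            | (linear_combination (1 : F) * hw3)
            | (linear_combination (ω) * hw3)
            | (linear_combination (ω ^ 2) * hw3)
            | (linear_combination (ω ^ 3) * hw3)
            | (linear_combination ((ω ^ 3 + 1)) * hw3)
            | (linear_combination ((ω ^ 4 + ω)) * hw3)
            | (linear_combination ((ω ^ 5 + ω ^ 2)) * hw3)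
            | (linear_combination ((ω + ω ^ 2)) * hw3)
            | (linear_combination (-1 : F) * hw3)
            | (linear_combination (-ω) * hw3)
            | (linear_combination (-ω ^ 2) * hw3)
            | (linear_combination (-ω ^ 3) * hw3)
            | (linear_combination (-(ω ^ 3 + 1)) * hw3)
            | (linear_combination (-(ω ^ 4 + ω)) * hw3)
            | (linear_combination (-(ω ^ 5 + ω ^ 2)) * hw3)
            | (linear_combination (-(ω + ω ^ 2)) * hw3)
            | (left; linear_combination ω * hw3)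
            | (left; linear_combination -ω * hw3))⟩
    set q : GG := qGL O.two with hq
    have hconj : q⁻¹ * (T : GG) * q = lastInv := by
      refine mul_left_cancel (a := q) (Units.ext ?_)
      rw [show q * (q⁻¹ * (T : GG) * q) = (T : GG) * q by group, Units.val_mul, Units.val_mul, hT, lastInv_val]
      show tM * qM = qM * _
      rw [tM, qM]
      ext i j
      fin_cases i <;> fin_cases j <;> simp [Matrix.mul_apply, Fin.sum_univ_three, Matrix.diagonal]
    set u : GG := ((g * T * g⁻¹ : X) : GG) with hu
    have huT : (T : GG) * u = u * T := congrArg Subtype.val hg.eq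
    have huu : u * u = 1 := by
      rw [hu, ← Subgroup.coe_mul, show g * T * g⁻¹ * (g * T * g⁻¹) = g * (T * T) * g⁻¹ by group, hTT]
      simp
    have hxb : q⁻¹ * u * q ∈ Blk := by
      rw [Blk, Subgroup.mem_centralizer_singleton_iff, ← hconj]
      calc q⁻¹ * u * q * (q⁻¹ * (T : GG) * q) = q⁻¹ * (u * (T : GG)) * q := by group
        _ = q⁻¹ * (T : GG) * q * (q⁻¹ * u * q) := by rw [← huT]; group
    refine O.no_inv_nine hζ hD (x := ⟨q⁻¹ * u * q, hxb⟩) ?_ ?_ ?_ ?_
    · show q * (q⁻¹ * u * q) * q⁻¹ ∈ X
      rw [show q * (q⁻¹ * u * q) * q⁻¹ = u by group]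
      exact SetLike.coe_mem _
    · show q⁻¹ * u * q * (q⁻¹ * u * q) = 1
      rw [show q⁻¹ * u * q * (q⁻¹ * u * q) = q⁻¹ * (u * u) * q by group, huu]; group
    · intro e
      have e1 : u = 1 := by
        calc u = q * (q⁻¹ * u * q) * q⁻¹ := by group
          _ = 1 := by rw [show q⁻¹ * u * q = 1 from e]; group
      have : g * T * g⁻¹ = 1 := Subtype.ext e1
      exact hTne (conj_eq_one_iff.mp this)
    · intro e
      refine hne₀ (Subtype.ext ?_)
      rw [show q⁻¹ * u * q = lastInv from e |>.trans rfl, ← hconj] at *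
      calc u = q * (q⁻¹ * u * q) * q⁻¹ := by group
        _ = q * (q⁻¹ * (T : GG) * q) * q⁻¹ := by rw [show q⁻¹ * u * q = q⁻¹ * (T : GG) * q from e]
        _ = T := by group
  · have D := A.rdata h9
    obtain ⟨ht2, hone, hfour, h16, huniq⟩ := O.inv_structure D h9 hT hg hne₀
    obtain ⟨r, hr3, hcr, hcr3, hclass, -⟩ := D.three O h9
    have hp7 : 7 ≤ p := by
      have := A.p3
      have := A.prime.two_le
      have h4 : p ≠ 4 := fun e => by have := A.prime; rw [e] at this; norm_num at this
      omega
    refine CountData.main (p := p) (t := (QuotientGroup.mk T : X ⧸ Zs X)) (r := r)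
      { prime := A.prime
        big := hp7
        inv_t := ht2
        one_class := hone
        four := hfour
        sixteen := h16
        uniq := huniq
        r3 := hr3
        cr := hcr
        cr3 := hcr3
        class3 := hclass
        semi := fun x hx hpx => O.semi hx.1 hpx fun q hq => ⟨fun h2 => hx.2.2.2 q h2 hq, fun h3 => ?_⟩
        unip := fun w hw x hx => O.unip hw hx
        flag := fun w h z h1 h2 h3 h4 h5 h6 => O.flag h1 h2 h3 h4 h5 h6 }
    obtain ⟨k, hk⟩ := hclass q h3
    have hc := hcr3 (k⁻¹ * x * k) (by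
      rw [← hk] at hq
      calc k⁻¹ * x * k * r = k⁻¹ * (x * (k * r * k⁻¹)) * k := by group
        _ = r * (k⁻¹ * x * k) := by rw [← hq]; group)
    have hx3 : x ^ 3 = 1 := by
      calc x ^ 3 = k * (k⁻¹ * x * k) ^ 3 * k⁻¹ := by simp [pow_succ, mul_assoc]
        _ = 1 := by rw [hc]; group
    exact hx.2.2.1 (orderOf_eq_prime (hp := ⟨Nat.prime_three⟩) hx3 hx.1)

end Cfsg.Lib.Classical.SLThree
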