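import Mathlib
import Cfsg.Agent.Classical.SLThree.SymTop
import Cfsg.Agent.Classical.SLThree.FieldAut
import Cfsg.Agent.Classical.PrimeDim.Core
import Cfsg.Agent.Blocks.ZStar
import Cfsg.Agent.Components.Cores
import Cfsg.Agent.S0205

/-! Subgroups above the normaliser of `3^{1+2}`: the four cases. -/

set_option autoImplicit false
set_option linter.unusedSimpArgs false
set_option linter.unusedSectionVars false
set_option linter.style.haveILetI false

namespace Cfsg.Lib.Classical.SLThree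

open Matrix LinOne Cfsg.Geo
open scoped MatrixGroups
open Cfsg.Lib.Classical.ExtraThree (dA mB root_pow root_ne cube_cases)
open Cfsg.Lib.Classical.PrimeDim (Normalises)

universe u

variable {F : Type u} [Field F] [Fintype F]

local notation "MM" => Matrix (Fin 3) (Fin 3) F
local notation "GG" => GL (Fin 3) F

variable {p : ℕ} {ω : F} {R X : Subgroup (GL (Fin 3) F)} {c a b : GL (Fin 3) F}

/-- Invariance under the two generators forces triviality. -/
theorem Std.irr_gen (S : Std ω R c a b) (W : Submodule F (Fin 3 → F)) (hA : ∀ x ∈ W, dA ω *ᵥ x ∈ W)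
    (hB : ∀ x ∈ W, mB *ᵥ x ∈ W) : W = ⊥ ∨ W = ⊤ := by
  refine or_iff_not_imp_left.mpr fun h => ?_
  obtain ⟨v, hv, hv0⟩ := (Submodule.ne_bot_iff W).mp h
  have hw := S.root
  have hw3 := root_pow hw
  obtain ⟨i, hi⟩ := Function.ne_iff.mp hv0
  have hmem : v + ω ^ (2 * (i : ℕ)) • (dA ω *ᵥ v) + ω ^ (i : ℕ) • (dA ω *ᵥ (dA ω *ᵥ v)) ∈ W :=
    W.add_mem (W.add_mem hv (W.smul_mem _ (hA _ hv))) (W.smul_mem _ (hA _ (hA _ hv)))
  have he : v + ω ^ (2 * (i : ℕ)) • (dA ω *ᵥ v) + ω ^ (i : ℕ) • (dA ω *ᵥ (dA ω *ᵥ v)) =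
      (3 * v i) • Pi.single i 1 := by
    funext l
    have h4 : ω ^ 4 = ω := by linear_combination ω * hw3
    have h5 : ω ^ 5 = ω ^ 2 := by linear_combination ω ^ 2 * hw3
    have h6 : ω ^ 6 = 1 := by linear_combination (ω ^ 3 + 1) * hw3
    have h7 : ω ^ 7 = ω := by linear_combination (ω ^ 4 + ω) * hw3
    have h8 : ω ^ 8 = ω ^ 2 := by linear_combination (ω ^ 5 + ω ^ 2) * hw3
    fin_cases i <;> fin_cases l <;> simp [dA, Matrix.mulVec_diagonal] <;> ring_nf <;>
      (try simp only [hw3, h4, h5, h6, h7, h8]) <;>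
      first
        | ring1
        | (linear_combination (v 0) * hw) | (linear_combination (v 1) * hw) | (linear_combination (v 2) * hw)
  rw [he] at hmem
  have hei : (Pi.single i 1 : Fin 3 → F) ∈ W := by
    have := W.smul_mem (3 * v i)⁻¹ hmem
    rwa [smul_smul, inv_mul_cancel₀ (mul_ne_zero S.three hi), one_smul] at this
  have hnext : ∀ l : Fin 3, (Pi.single l 1 : Fin 3 → F) ∈ W → (Pi.single (l + 1) 1 : Fin 3 → F) ∈ W := fun l hl => by
    have := hB _ hl
    rwa [show mB *ᵥ Pi.single l 1 = (Pi.single (l + 1) 1 : Fin 3 → F) by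
      funext o; fin_cases l <;> fin_cases o <;> simp [mB, Matrix.mulVec_single]] at this
  have h1 := hnext _ hei
  have h2 := hnext _ h1
  refine Submodule.eq_top_iff'.mpr fun x => ?_
  rw [show x = x i • Pi.single i (1 : F) + x (i + 1) • Pi.single (i + 1) 1 + x (i + 1 + 1) • Pi.single (i + 1 + 1) 1 by
    funext o; fin_cases i <;> fin_cases o <;> simp]
  exact W.add_mem (W.add_mem (W.smul_mem _ hei) (W.smul_mem _ h1)) (W.smul_mem _ h2)

theorem Above.irr (A : Above p ω R c a b X) : Irr X ∧ ActsIrreducibly (matrixSet X) := by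
  refine ⟨fun W hW => A.std.irr_gen W (fun x hx => ?_) (fun x hx => ?_), fun W hW => A.std.irr_gen W (fun x hx => ?_) (fun x hx => ?_)⟩
  · rw [← A.std.val_a]; exact hW a (A.R_le A.std.frame.mem_a) x hx
  · rw [← A.std.val_b]; exact hW b (A.R_le A.std.frame.mem_b) x hx
  · rw [← A.std.val_a, ← Matrix.toLin'_apply]
    exact hW _ (Cfsg.Lib.Classical.PrimeDim.mem_matrixSet (A.R_le A.std.frame.mem_a)) ⟨x, hx, rfl⟩
  · rw [← A.std.val_b, ← Matrix.toLin'_apply]
    exact hW _ (Cfsg.Lib.Classical.PrimeDim.mem_matrixSet (A.R_le A.std.frame.mem_b)) ⟨x, hx, rfl⟩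

/-- The data used in every case. -/
theorem Above.elems (A : Above p ω R c a b X) (hne : NoEl X) :
    (∃ f ∈ X, f ∈ Subgroup.normalizer (R : Set GG) ∧ (f : MM) * dA ω = mB ^ 2 * (f : MM) ∧ (f : MM) * mB = dA ω * (f : MM)) ∧
    (∃ t ∈ X, (t : MM) = tM ∧ t * t = 1 ∧ t * a * t⁻¹ * a⁻¹ = a ∧ t * b * t⁻¹ * b⁻¹ = b) := by
  have O := A.over hne
  have hw := A.std.root
  have hw3 := root_pow hw
  refine ⟨?_, ?_⟩
  · obtain ⟨f, hf, hfv⟩ := O.memF
    have h1 : fM ω * dA ω = mB ^ 2 * fM ω := by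
      rw [fM, smul_mul_assoc, mul_smul_comm]
      congr 1
      ext i j
      fin_cases i <;> fin_cases j <;> simp [dA, mB, pow_two, Matrix.mul_apply, Fin.sum_univ_three, Matrix.diagonal] <;>
        first | ring1 | (linear_combination hw3) | (linear_combination -hw3) | (linear_combination ω * hw3) | (linear_combination -ω * hw3)
    have h2 : fM ω * mB = dA ω * fM ω := by
      rw [fM, smul_mul_assoc, mul_smul_comm]
      congr 1
      ext i j
      fin_cases i <;> fin_cases j <;> simp [dA, mB, pow_two, Matrix.mul_apply, Fin.sum_univ_three, Matrix.diagonal] <;>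
        first | ring1 | (linear_combination hw3) | (linear_combination -hw3) | (linear_combination ω * hw3) | (linear_combination -ω * hw3)
    refine ⟨f, hf, A.std.frame.mem_normalizer (D := fM ω) (by rw [hfv, Units.val_one, mul_one, one_mul]) ⟨0, 0, 2, ?_⟩
      ⟨0, 1, 0, ?_⟩, hfv ▸ h1, hfv ▸ h2⟩
    · simpa using h1
    · simpa using h2
  · obtain ⟨t, ht, htv⟩ := O.memT
    have htt : t * t = 1 := Units.ext (by
      rw [Units.val_mul, htv, tM, Units.val_one]
      ext i j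
      fin_cases i <;> fin_cases j <;> simp [Matrix.mul_apply, Fin.sum_univ_three])
    refine ⟨t, ht, htv, htt, ?_, ?_⟩
    · rw [mul_inv_eq_iff_eq_mul, mul_inv_eq_iff_eq_mul]
      refine Units.ext ?_
      simp only [Units.val_mul, htv, A.std.val_a, tM, dA]
      ext i j
      fin_cases i <;> fin_cases j <;> simp [Matrix.mul_apply, Fin.sum_univ_three, Matrix.diagonal] <;>
        first | ring1 | (linear_combination hw3) | (linear_combination -hw3) | (linear_combination ω * hw3) | (linear_combination -ω * hw3)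
    · rw [mul_inv_eq_iff_eq_mul, mul_inv_eq_iff_eq_mul]
      refine Units.ext ?_
      simp only [Units.val_mul, htv, A.std.val_b, tM]
      ext i j
      fin_cases i <;> fin_cases j <;> simp [mB, Matrix.mul_apply, Fin.sum_univ_three]

theorem Above.not_comm (A : Above p ω R c a b X) : a * b ≠ b * a := fun e => by
  have h := congrFun (congrFun (congrArg (fun g : GG => (g : MM)) e) 1) 0
  simp [A.std.val_a, A.std.val_b, dA, mB, Matrix.mul_apply, Fin.sum_univ_three, Matrix.diagonal] at h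
  exact root_ne A.std.three A.std.root h

theorem Above.a_not_scalar (A : Above p ω R c a b X) : a ∉ scalars (Fin 3) F := fun h =>
  A.not_comm (Cfsg.Lib.Classical.PrimeDim.scalar_commute h b)

/-- No frame is preserved. -/
theorem Above.no_frame (A : Above p ω R c a b X) (hne : NoEl X) {D : Fin 3 → Submodule F (Fin 3 → F)}
    (hD : IsMDecomposition 1 D) (hle : X ≤ decompositionStabilizer D) : False := by
  classical
  obtain ⟨⟨f, hfX, hfN, hfA, hfB⟩, -⟩ := A.elems hne
  let K : Subgroup GG :=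
    { carrier := {g | g ∈ R ∧ ∀ i, ∀ v ∈ D i, (g : MM) *ᵥ v ∈ D i}
      mul_mem' := fun {g h} hg hh => ⟨R.mul_mem hg.1 hh.1, fun i v hv => by
        rw [Units.val_mul, ← Matrix.mulVec_mulVec]; exact hg.2 i _ (hh.2 i v hv)⟩
      one_mem' := ⟨R.one_mem, fun i v hv => by rw [Units.val_one, Matrix.one_mulVec]; exact hv⟩
      inv_mem' := fun {g} hg => ⟨R.inv_mem hg.1, fun i v hv => by
        rw [show g⁻¹ = g * g by rw [inv_eq_iff_mul_eq_one, ← A.std.exp g hg.1, pow_three], Units.val_mul,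
          ← Matrix.mulVec_mulVec]
        exact hg.2 i _ (hg.2 i v hv)⟩ }
  have hKR : K ≤ R := fun g hg => hg.1
  have hperm : ∀ g ∈ X, ∃ σ : Equiv.Perm (Fin 3), ∀ i, ∀ v ∈ D i, (g : MM) *ᵥ v ∈ D (σ i) := fun g hg => by
    obtain ⟨σ, hσ⟩ := hle hg
    exact ⟨σ, fun i v hv => hσ i ▸ ⟨v, hv, Matrix.toLin'_apply _ _⟩⟩
  have hval : ∀ (g : GG) (v : Fin 3 → F), (g : MM) *ᵥ (((g⁻¹ : GG) : MM) *ᵥ v) = v := fun g v => by
    rw [Matrix.mulVec_mulVec, ← Units.val_mul, mul_inv_cancel, Units.val_one, Matrix.one_mulVec]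
  have hperm' : ∀ g ∈ X, ∃ σ : Equiv.Perm (Fin 3), (∀ i, ∀ v ∈ D i, (g : MM) *ᵥ v ∈ D (σ i)) ∧
      ∀ i, ∀ v ∈ D (σ i), ((g⁻¹ : GG) : MM) *ᵥ v ∈ D i := fun g hg => by
    obtain ⟨σ, hσ⟩ := hle hg
    refine ⟨σ, fun i v hv => hσ i ▸ ⟨v, hv, Matrix.toLin'_apply _ _⟩, fun i v hv => ?_⟩
    rw [← hσ i] at hv
    obtain ⟨w, hw, rfl⟩ := hv
    rw [Matrix.toLin'_apply, Matrix.mulVec_mulVec, ← Units.val_mul, inv_mul_cancel, Units.val_one, Matrix.one_mulVec]
    exact hw
  have hstab : ∀ y ∈ K, f * y * f⁻¹ ∈ K := by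
    intro y hy
    refine ⟨(Subgroup.mem_set_normalizer_iff.mp hfN y).mp hy.1, fun i v hv => ?_⟩
    obtain ⟨σ, h1, h2⟩ := hperm' f hfX
    obtain ⟨j, rfl⟩ := σ.surjective i
    rw [Units.val_mul, Units.val_mul, ← Matrix.mulVec_mulVec, ← Matrix.mulVec_mulVec]
    exact h1 j _ (hy.2 j _ (h2 j v hv))
  have hKcomm : ∀ g ∈ K, ∀ h ∈ K, g * h = h * g := by
    intro g hg h hh
    refine Units.ext ?_
    have hker : (⊤ : Submodule F (Fin 3 → F)) ≤ LinearMap.ker (Matrix.toLin' ((g : MM) * (h : MM) - (h : MM) * (g : MM))) := by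
      rw [← hD.iSup_eq_top]
      refine iSup_le fun i v hv => ?_
      obtain ⟨⟨w, hw⟩, hw0, hw'⟩ := finrank_eq_one_iff'.mp (hD.finrank_eq i)
      obtain ⟨s, hs⟩ := hw' ⟨v, hv⟩
      obtain ⟨α, hα⟩ := hw' ⟨_, hg.2 i w hw⟩
      obtain ⟨β, hβ⟩ := hw' ⟨_, hh.2 i w hw⟩
      have e1 : α • w = (g : MM) *ᵥ w := congrArg Subtype.val hα
      have e2 : β • w = (h : MM) *ᵥ w := congrArg Subtype.val hβ
      have e3 : s • w = v := congrArg Subtype.val hs
      rw [LinearMap.mem_ker, Matrix.toLin'_apply, ← e3, Matrix.mulVec_smul, Matrix.sub_mulVec, ← Matrix.mulVec_mulVec,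
        ← Matrix.mulVec_mulVec, ← e2, Matrix.mulVec_smul, ← e1, Matrix.mulVec_smul, ← e2, smul_smul, smul_smul,
        mul_comm β, sub_self, smul_zero]
    rw [top_le_iff, LinearMap.ker_eq_top, LinearEquiv.map_eq_zero_iff, sub_eq_zero] at hker
    rw [Units.val_mul, Units.val_mul, hker]
  have hscal : ∀ y ∈ K, ∃ l : F, (y : MM) = l • 1 := by
    intro y hy
    by_contra hns
    push Not at hns
    have hKR' := A.std.eq_of_stable hfA hfB hKR hstab hy hns
    exact A.not_comm (hKcomm a (hKR' ▸ A.std.frame.mem_a) b (hKR' ▸ A.std.frame.mem_b))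
  have hK3 : Nat.card K ≤ 3 := by
    let φ : K → ({1, ω, ω ^ 2} : Finset F) := fun y => ⟨((y : GG) : MM) 0 0, by
      obtain ⟨l, hl⟩ := hscal y y.2
      have h3 : l ^ 3 = 1 := by
        have h := congrArg (fun g : GG => (g : MM)) (A.std.exp y (hKR y.2))
        simp only [Units.val_pow_eq_pow_val, hl, smul_pow, one_pow] at h
        simpa using congrFun (congrFun h 0) 0
      rw [hl]
      simpa using cube_cases A.std.root h3⟩
    have hφ : Function.Injective φ := fun y z e => by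
      obtain ⟨l, hl⟩ := hscal y y.2
      obtain ⟨m, hm⟩ := hscal z z.2
      have e' : ((y : GG) : MM) 0 0 = ((z : GG) : MM) 0 0 := congrArg Subtype.val e
      rw [hl, hm] at e'
      refine Subtype.ext (Units.ext ?_)
      rw [hl, hm, show l = m by simpa using e']
    refine (Nat.card_le_card_of_injective φ hφ).trans ?_
    rw [Nat.card_eq_finsetCard]
    exact Finset.card_le_three
  choose σ hσ using fun g : R => hperm g (A.R_le g.2)
  have hfib : ∀ g h : R, σ g = σ h → ((g : GG))⁻¹ * h ∈ K := fun g h e => by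
    refine ⟨R.mul_mem (R.inv_mem g.2) h.2, fun i v hv => ?_⟩
    obtain ⟨τ, h1, h2⟩ := hperm' g (A.R_le g.2)
    have hτ : τ = σ g := by
      ext j
      congr 1
      by_contra hne'
      obtain ⟨⟨w, hw⟩, hw0, -⟩ := finrank_eq_one_iff'.mp (hD.finrank_eq j)
      refine hw0 (Subtype.ext ?_)
      have := (disjoint_iff.mp (hD.indep.pairwiseDisjoint hne')).le ⟨h1 j w hw, hσ g j w hw⟩
      rw [Submodule.mem_bot] at this
      have h' := congrArg (fun x => ((g : GG)⁻¹ : GG).val *ᵥ x) this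
      simp only [Matrix.mulVec_zero, Matrix.mulVec_mulVec, ← Units.val_mul, inv_mul_cancel, Units.val_one,
        Matrix.one_mulVec] at h'
      exact h'
    rw [Units.val_mul, ← Matrix.mulVec_mulVec]
    exact h2 i _ (by rw [hτ, e]; exact hσ h i v hv)
  let ψ : R → Equiv.Perm (Fin 3) × K := fun g => (σ g, ⟨((Function.invFun σ (σ g) : R) : GG)⁻¹ * g,
    hfib _ _ (Function.invFun_eq ⟨g, rfl⟩)⟩)
  have hψ : Function.Injective ψ := fun g h e => by
    simp only [ψ, Prod.mk.injEq, Subtype.mk.injEq] at e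
    rw [e.1] at e
    exact Subtype.ext (mul_left_cancel e.2)
  have := Nat.card_le_card_of_injective ψ hψ
  rw [Nat.card_prod, A.std.card, Nat.card_eq_fintype_card (α := Equiv.Perm (Fin 3)), Fintype.card_perm, Fintype.card_fin,
    show Nat.factorial 3 = 6 from rfl] at this
  omega

/-- No cubic field is normalised. -/
theorem Above.no_field (A : Above p ω R c a b X) (hne : NoEl X) {K : Subalgebra F MM} (hK : IsFieldSubalgebra 3 K)
    (hle : X ≤ subalgebraNormalizer K) : False := by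
  obtain ⟨-, t, ht, -, -, hta, htb⟩ := A.elems hne
  have hmem : ∀ g ∈ R, t * g * t⁻¹ * g⁻¹ = g → (g : MM) ∈ K := fun g hg e => by
    refine Cfsg.Lib.Classical.PrimeDim.fieldSub_centralizer (K := K) (by simpa using hK) fun k hk => ?_
    have := commutator_centralizes hK (hle ht) (hle (A.R_le hg)) hk
    rwa [e] at this
  refine A.not_comm (Units.ext ?_)
  rw [Units.val_mul, Units.val_mul]
  exact hK.comm _ (hmem a A.std.frame.mem_a hta) _ (hmem b A.std.frame.mem_b htb)

/-- A normalised Heisenberg group is the given one. -/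
theorem Above.heisenberg (A : Above p ω R c a b X) (hne : NoEl X) {R₁ : Subgroup GG} (hle : R₁ ≤ X)
    (hn : Normalises X R₁) (h27 : Nat.card R₁ = 27) (hns : ¬ R₁ ≤ scalars (Fin 3) F) :
    X ≤ Subgroup.normalizer (R : Set GG) := by
  classical
  have O := A.over hne
  obtain ⟨⟨f, hfX, hfN, hfA, hfB⟩, -⟩ := A.elems hne
  haveI : Fact (Nat.Prime 3) := ⟨Nat.prime_three⟩
  set π := QuotientGroup.mk' (Zs X) with hπ
  set N₁ : Subgroup (X ⧸ Zs X) := (R₁.subgroupOf X).map π with hN₁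
  haveI : (R₁.subgroupOf X).Normal := ⟨fun n hn' g => by
    rw [Subgroup.mem_subgroupOf] at hn' ⊢
    exact hn g g.2 n hn'⟩
  haveI : N₁.Normal := Subgroup.Normal.map inferInstance _ (QuotientGroup.mk'_surjective _)
  have hP1 : IsPGroup 3 N₁ := ((IsPGroup.of_card (n := 3) (by
    rw [Nat.card_congr (Subgroup.subgroupOfEquivOfLe hle).toEquiv, h27]; norm_num)).map π)
  have hPR : IsPGroup 3 ((R.subgroupOf X).map π) := ((IsPGroup.of_card (n := 3) (by
    rw [Nat.card_congr (Subgroup.subgroupOfEquivOfLe A.R_le).toEquiv, A.std.card]; norm_num)).map π)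
  letI act : MulAction ((R.subgroupOf X).map π) N₁ :=
    MulAction.compHom N₁ ((MulAut.conjNormal (H := N₁)).comp ((R.subgroupOf X).map π).subtype)
  have hdvd : 3 ∣ Nat.card N₁ := by
    obtain ⟨n, hn'⟩ := IsPGroup.iff_card.mp hP1
    rcases Nat.eq_zero_or_pos n with rfl | hn0
    · exfalso
      refine hns fun r hr => ?_
      have : π ⟨r, hle hr⟩ ∈ (⊥ : Subgroup (X ⧸ Zs X)) :=
        Subgroup.card_eq_one.mp (by rw [hn', pow_zero]) ▸ Subgroup.mem_map_of_mem π (by rw [Subgroup.mem_subgroupOf]; exact hr)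
      rw [Subgroup.mem_bot, hπ, QuotientGroup.mk'_apply, QuotientGroup.eq_one_iff, Subgroup.mem_subgroupOf] at this
      exact this
    · rw [hn']; exact dvd_pow_self 3 hn0.ne'
  obtain ⟨v, hv, hv1⟩ := hPR.exists_fixed_point_of_prime_dvd_card_of_fixed_point N₁ hdvd (a := 1) (fun g => by
    show MulAut.conjNormal (g : X ⧸ Zs X) (1 : N₁) = 1
    rw [map_one])
  obtain ⟨r, hr, hrv⟩ := v.2
  rw [SetLike.mem_coe, Subgroup.mem_subgroupOf] at hr
  have htw : ∀ y ∈ R, ∃ l : F, ((r : X) : GG).val * (y : MM) = l • ((y : MM) * ((r : X) : GG).val) := by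
    intro y hy
    have h : (MulAut.conjNormal (π ⟨y, A.R_le hy⟩) v : N₁) = v :=
      hv ⟨π ⟨y, A.R_le hy⟩, Subgroup.mem_map_of_mem π (by rw [Subgroup.mem_subgroupOf]; exact hy)⟩
    have h' := congrArg Subtype.val h
    rw [MulAut.conjNormal_apply, ← hrv, ← map_inv, ← map_mul, ← map_mul] at h'
    obtain ⟨l, hl⟩ := qmk_eq.mp h'
    refine ⟨l, ?_⟩
    simp only [Subgroup.coe_mul, Subgroup.coe_inv, Units.val_mul] at hl
    conv_lhs => rw [hl]
    simp only [Matrix.smul_mul, Matrix.mul_assoc, ← Units.val_mul, inv_mul_cancel, Units.val_one, Matrix.mul_one,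
      inv_mul_cancel_right]
  obtain ⟨l, hl⟩ := htw a A.std.frame.mem_a
  obtain ⟨m, hm⟩ := htw b A.std.frame.mem_b
  rw [A.std.val_a] at hl
  rw [A.std.val_b] at hm
  have hrR : (r : GG) ∈ R := A.std.mem_of_twist (O.det _ r.2) hl hm
  have hrns : ∀ l : F, ((r : GG) : MM) ≠ l • 1 := fun l e => hv1 (Subtype.ext (by
    rw [OneMemClass.coe_one, ← hrv, hπ, QuotientGroup.mk'_apply]
    exact ((QuotientGroup.eq_one_iff _).mpr (mem_zs.mpr ⟨l, e⟩)).symm))
  have hL := A.std.eq_of_stable hfA hfB (L := R ⊓ R₁) inf_le_left (fun y hy =>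
    ⟨(Subgroup.mem_set_normalizer_iff.mp hfN y).mp hy.1, hn f hfX y hy.2⟩) ⟨hrR, hr⟩ hrns
  have hRR : R = R₁ := Subgroup.eq_of_le_of_card_ge (inf_eq_left.mp hL) (by rw [h27, A.std.card])
  intro x hx
  refine Subgroup.mem_normalizer_fintype fun y hy => ?_
  rw [SetLike.mem_coe] at hy ⊢
  rw [hRR] at hy ⊢
  exact hn x hx y hy

/-- No quasi-simple core. -/
theorem Above.no_core (A : Above p ω R c a b X) (hne : NoEl X) {P : Subgroup GG}
    (hP : Cfsg.Lib.Classical.PrimeDim.IsPreCore X P) : False := by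
  classical
  obtain ⟨-, t, ht, htv, htt, hta, htb⟩ := A.elems hne
  have hz := Cfsg.Lib.Blocks.zstar (Nat.card X) rfl (A.isolated hne (T := ⟨t, ht⟩) htv)
  set O₂ : Subgroup X := Cfsg.pPrimeCore 2 X with hO₂
  haveI : O₂.Normal := by rw [hO₂]; infer_instance
  have hodd : Odd (Nat.card O₂) := Nat.coprime_two_right.1 (Cfsg.Lib.Components.coprime_card_pPrimeCore 2)
  haveI hsolO : Group.IsSolvable O₂ := Cfsg.Agent.S0205.result hodd
  have hgen : ∀ g : GG, (hg : g ∈ R) → t * g * t⁻¹ * g⁻¹ = g → (⟨g, A.R_le hg⟩ : X) ∈ O₂ := fun g hg e => by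
    have := hz ⟨g, A.R_le hg⟩
    rwa [show (⟨t, ht⟩ : X) * ⟨g, A.R_le hg⟩ * (⟨t, ht⟩ : X)⁻¹ * (⟨g, A.R_le hg⟩ : X)⁻¹ = ⟨g, A.R_le hg⟩ from
      Subtype.ext e] at this
  set H : Subgroup X := O₂ ⊓ P.subgroupOf X with hH
  have hcomm : ∀ (n x : X), n ∈ O₂ → (x : GG) ∈ P → n * x * n⁻¹ * x⁻¹ ∈ H := fun n x hn hx => by
    refine ⟨?_, ?_⟩
    · rw [mul_assoc, mul_assoc]
      refine O₂.mul_mem hn ?_
      rw [← mul_assoc]
      exact (inferInstance : O₂.Normal).conj_mem _ (O₂.inv_mem hn) x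
    · show ((n * x * n⁻¹ * x⁻¹ : X) : GG) ∈ P
      simp only [Subgroup.coe_mul, Subgroup.coe_inv]
      exact P.mul_mem (hP.normal _ n.2 _ hx) (P.inv_mem hx)
  haveI := hP.simple
  haveI : Group.IsSolvable H := solvable_of_solvable_injective (f := Subgroup.inclusion (inf_le_left : H ≤ O₂))
    (Subgroup.inclusion_injective _)
  let j : H →* P := MonoidHom.mk' (fun h => ⟨((h : X) : GG), h.2.2⟩) fun g h => rfl
  let ψ : H →* P ⧸ (scalars (Fin 3) F).subgroupOf P := (QuotientGroup.mk' _).comp j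
  haveI : ψ.range.Normal := ⟨fun m hm q => by
    obtain ⟨h, rfl⟩ := hm
    obtain ⟨x, rfl⟩ := QuotientGroup.mk_surjective q
    refine ⟨⟨(⟨x.1, hP.le x.2⟩ : X) * h * (⟨x.1, hP.le x.2⟩ : X)⁻¹, ?_, ?_⟩, ?_⟩
    · exact (inferInstance : O₂.Normal).conj_mem _ h.2.1 _
    · show x.1 * ((h : X) : GG) * x.1⁻¹ ∈ P
      exact P.mul_mem (P.mul_mem x.2 h.2.2) (P.inv_mem x.2)
    · show QuotientGroup.mk _ = _
      rw [← QuotientGroup.mk_inv]
      rfl⟩
  rcases (inferInstance : ψ.range.Normal).eq_bot_or_eq_top with h | h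
  · refine A.a_not_scalar (hP.centralizer_scalar a (A.R_le A.std.frame.mem_a) fun x hx => ?_)
    have hm := hcomm ⟨a, A.R_le A.std.frame.mem_a⟩ ⟨x, hP.le hx⟩ (hgen a A.std.frame.mem_a hta) hx
    have h1 : ψ ⟨_, hm⟩ ∈ (⊥ : Subgroup _) := h ▸ ⟨_, rfl⟩
    rw [Subgroup.mem_bot] at h1
    have h2 := (QuotientGroup.eq_one_iff _).mp h1
    rw [Subgroup.mem_subgroupOf] at h2
    exact h2
  · have hs : Group.IsSolvable (P ⧸ (scalars (Fin 3) F).subgroupOf P) :=
      solvable_of_surjective (MonoidHom.range_eq_top.mp h)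
    exact hP.nonabelian ⟨⟨IsSimpleGroup.comm_iff_isSolvable.mpr hs⟩⟩

/-- A group above the normaliser normalises or contains the special linear group. -/
theorem Above.main (A : Above p ω R c a b X) :
    X ≤ Subgroup.normalizer (R : Set GG) ∨ specialLinear (Fin 3) F ≤ X := by
  classical
  by_cases hne : NoEl X
  · left
    rcases Cfsg.Lib.Classical.PrimeDim.core_cases (n := 3) (Fintype.card_fin 3) Nat.prime_three (by decide) A.le A.irr.2
      with ⟨N, -, -, D, hD⟩ | ⟨N, -, hNn, hK⟩ | ⟨R₁, hR₁, hn, hH⟩ | ⟨P, hP⟩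
    · exact (A.no_frame hne hD.decomp hD.le_stab).elim
    · exact (A.no_field hne hK (Cfsg.Lib.Classical.PrimeDim.le_subalgebraNormalizer_comm hNn)).elim
    · refine A.heisenberg hne hR₁ hn (by rw [hH.card]; norm_num) fun hsc => ?_
      have htop : Subgroup.center R₁ = ⊤ := by
        rw [eq_top_iff]
        exact fun x _ => Subgroup.mem_center_iff.mpr fun y =>
          Subtype.ext (Cfsg.Lib.Classical.PrimeDim.scalar_commute (hsc y.2) x)
      have h3 := hH.card_center
      rw [htop, Subgroup.card_top, hH.card] at h3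
      norm_num at h3
    · exact (A.no_core hne hP).elim
  · right
    unfold NoEl at hne
    push Not at hne
    obtain ⟨x, φ, h, h0, hx, hφ⟩ := hne
    exact sl_of_elation_prime (A.card ▸ A.prime) A.irr.1 h h0 hx hφ

end Cfsg.Lib.Classical.SLThree
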