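import Mathlib
import Cfsg.Prelude.Def_GeometricClasses
import Cfsg.Agent.Classical.Misc.ExtraThree
import Cfsg.Agent.Classical.PrimeDim.Heisenberg

/-! A symplectic-type three-group in dimension three has order twenty-seven. -/

set_option autoImplicit false
set_option linter.unusedSimpArgs false
set_option linter.unusedSectionVars false
set_option linter.style.haveILetI false

namespace Cfsg.Lib.Classical.SLThree

open Matrix Cfsg.Geo
open scoped MatrixGroups commutatorElement

universe u

/-- Characteristic abelian subgroups of order at most `q` in a `q`-group force class two. -/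
theorem commutator_central {G : Type*} [Group G] [Finite G] {q : ℕ} [Fact q.Prime] (hG : IsPGroup q G)
    (hA : ∀ A : Subgroup G, A.Characteristic → IsMulCommutative A → A ≤ Subgroup.center G) :
    commutator G ≤ Subgroup.center G := by
  classical
  set S : Subgroup G := Subgroup.upperCentralSeriesStep (Subgroup.center G) with hS
  haveI : (Subgroup.center G).Characteristic := Subgroup.centerCharacteristic
  haveI hSc : S.Characteristic := by rw [hS]; infer_instance
  haveI hD : (commutator G).Characteristic := by rw [commutator_def]; infer_instance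
  have hcomm : ∀ z ∈ S, ∀ d ∈ commutator G, z * d = d * z := by
    intro z hz d hd
    let f : G →* Subgroup.center G := MonoidHom.mk' (fun g => ⟨⁅z, g⁆, Subgroup.mem_upperCentralSeriesStep (Subgroup.center G) z |>.mp hz g⟩)
      fun g h => Subtype.ext (by
        show ⁅z, g * h⁆ = ⁅z, g⁆ * ⁅z, h⁆
        have hc := Subgroup.mem_center_iff.mp (Subgroup.mem_upperCentralSeriesStep (Subgroup.center G) z |>.mp hz h) g
        rw [commutatorElement_def] at hc ⊢
        rw [commutatorElement_def, commutatorElement_def]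
        calc z * (g * h) * z⁻¹ * (g * h)⁻¹ = z * g * z⁻¹ * (z * h * z⁻¹ * h⁻¹) * g⁻¹ := by group
          _ = z * g * z⁻¹ * (g⁻¹ * (g * (z * h * z⁻¹ * h⁻¹))) * g⁻¹ := by group
          _ = _ := by rw [hc]; group)
    haveI := Subgroup.center.isMulCommutative (G := G)
    have hk : commutator G ≤ f.ker := by
      rw [commutator_def, Subgroup.commutator_le]
      intro a _ b _
      rw [MonoidHom.mem_ker, commutatorElement_def, map_mul, map_mul, map_mul, map_inv, map_inv,
        (Subgroup.center.isMulCommutative (G := G)).is_comm.comm (f a) (f b)]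
      group
    have h1 : ⁅z, d⁆ = 1 := congrArg Subtype.val (MonoidHom.mem_ker.mp (hk hd))
    rwa [commutatorElement_eq_one_iff_mul_comm] at h1
  haveI hInf : (commutator G ⊓ S).Characteristic := Subgroup.characteristic_iff_map_le.mpr fun φ => by
    refine le_inf ?_ ?_
    · exact (Subgroup.map_mono inf_le_left).trans (Subgroup.characteristic_iff_map_le.mp hD φ)
    · exact (Subgroup.map_mono inf_le_right).trans (Subgroup.characteristic_iff_map_le.mp hSc φ)
  have hAc : commutator G ⊓ S ≤ Subgroup.center G :=
    hA _ hInf ⟨⟨fun a b => Subtype.ext (hcomm a a.2.2 b b.2.1)⟩⟩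
  by_contra hne
  set Q := G ⧸ Subgroup.center G
  set N : Subgroup Q := (commutator G).map (QuotientGroup.mk' (Subgroup.center G)) with hN
  haveI : N.Normal := Subgroup.Normal.map inferInstance _ (QuotientGroup.mk'_surjective _)
  have hN1 : N ≠ ⊥ := fun e => hne (by
    rw [hN, Subgroup.map_eq_bot_iff, QuotientGroup.ker_mk'] at e
    exact e)
  have hQ : IsPGroup q Q := hG.to_quotient _
  -- a non-trivial central element of the image
  have hfix : ∃ x ∈ N, x ≠ 1 ∧ x ∈ Subgroup.center Q := by
    have hdvd : q ∣ Nat.card N := by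
      obtain ⟨n, hn⟩ := IsPGroup.iff_card.mp (hQ.to_subgroup N)
      rcases Nat.eq_zero_or_pos n with rfl | hn0
      · exact absurd (Subgroup.card_eq_one.mp (by rw [hn, pow_zero])) hN1
      · rw [hn]; exact dvd_pow_self q hn0.ne'
    have hP : IsPGroup q (ConjAct Q) := hQ
    obtain ⟨b, hb, hb1⟩ := hP.exists_fixed_point_of_prime_dvd_card_of_fixed_point N hdvd (a := 1)
      (fun g => Subtype.ext (by simp [ConjAct.Subgroup.val_conj_smul]))
    refine ⟨b, b.2, fun e => hb1 (Subtype.ext e.symm), Subgroup.mem_center_iff.mpr fun g => ?_⟩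
    have h := congrArg Subtype.val (hb (ConjAct.toConjAct g))
    rw [ConjAct.Subgroup.val_conj_smul, ConjAct.toConjAct_smul] at h
    rw [mul_inv_eq_iff_eq_mul] at h
    exact h
  obtain ⟨x, hxN, hx1, hxc⟩ := hfix
  obtain ⟨d, hd, rfl⟩ := hxN
  refine hx1 ((QuotientGroup.eq_one_iff d).mpr (hAc ⟨hd, ?_⟩))
  show d ∈ S
  rw [hS, Subgroup.upperCentralSeriesStep_eq_comap_center]
  exact hxc

variable {F : Type u} [Field F] [Fintype F]

local notation "MM" => Matrix (Fin 3) (Fin 3) F
local notation "GG" => GL (Fin 3) F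

/-- The order of the group. -/
theorem symp_card {R : Subgroup GG} (hR : IsLinearSymplecticTypeData 3 R) :
    Nat.card R = 27 ∧ Monoid.exponent R = 3 ∧ ¬ IsMulCommutative R := by
  classical
  haveI : Fact (Nat.Prime 3) := ⟨Nat.prime_three⟩
  obtain ⟨p, e, -, hmin, h⟩ := hR.field
  rcases h with ⟨-, -, hc, m, hm, hcard⟩ | ⟨h, -⟩ | ⟨h, -⟩
  swap; · norm_num at h
  swap; · norm_num at h
  have hexp : Monoid.exponent R = 3 := by simpa using hR.symplecticType.exponent_eq
  have hcube : ∀ g : R, g ^ 3 = 1 := fun g => by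
    have h := Monoid.pow_exponent_eq_one g
    rwa [hexp] at h
  have h27 : 27 ≤ Nat.card R := by
    rw [hcard]
    calc 27 = 3 ^ (1 + 2 * 1) := by norm_num
      _ ≤ _ := Nat.pow_le_pow_right (by norm_num) (by omega)
  have hna : ¬ IsMulCommutative R := fun hcm => by
    have : Subgroup.center R = ⊤ := by
      rw [eq_top_iff]
      exact fun x _ => Subgroup.mem_center_iff.mpr fun y => hcm.is_comm.comm y x
    rw [this, Subgroup.card_top] at hc
    omega
  have hR' : IsPGroup 3 R := hR.symplecticType.pGroup
  have hchar : ∀ A : Subgroup R, A.Characteristic → IsMulCommutative A → A ≤ Subgroup.center R := by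
    intro A hA hAc
    haveI := hA
    haveI := hR.symplecticType.cyclic_of_characteristic A hA hAc
    obtain ⟨z, hz⟩ := IsCyclic.exists_generator (α := A)
    intro a ha
    by_cases hz1 : z = 1
    · obtain ⟨k, hk⟩ := hz ⟨a, ha⟩
      rw [hz1] at hk
      simp at hk
      rw [← show ((1 : A) : R) = a from congrArg Subtype.val hk]
      exact one_mem _
    have hcA : Nat.card A = 3 := by
      have h3 : orderOf z = 3 := orderOf_eq_prime (Subtype.ext (hcube z)) hz1
      exact (Subgroup.card_top (G := A)).symm.trans (by rw [← (Subgroup.eq_top_iff' _).mpr hz, Nat.card_zpowers, h3])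
    -- a normal subgroup of order three is central
    have hP : IsPGroup 3 (ConjAct R) := hR'
    obtain ⟨b, hb, hb1⟩ := hP.exists_fixed_point_of_prime_dvd_card_of_fixed_point A (by rw [hcA]) (a := 1)
      (fun g => Subtype.ext (by simp [ConjAct.Subgroup.val_conj_smul]))
    have hbc : (b : R) ∈ Subgroup.center R := Subgroup.mem_center_iff.mpr fun g => by
      have h := congrArg Subtype.val (hb (ConjAct.toConjAct g))
      rw [ConjAct.Subgroup.val_conj_smul, ConjAct.toConjAct_smul, mul_inv_eq_iff_eq_mul] at h
      exact h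
    have hgen : Subgroup.zpowers b = ⊤ := zpowers_eq_top_of_prime_card hcA (Ne.symm hb1)
    obtain ⟨k, hk⟩ := (hgen ▸ Subgroup.mem_top (⟨a, ha⟩ : A) : (⟨a, ha⟩ : A) ∈ Subgroup.zpowers b)
    have := congrArg Subtype.val hk
    rw [← show ((b ^ k : A) : R) = a from this, Subgroup.coe_zpow]
    exact Subgroup.zpow_mem _ hbc k
  have hcen := commutator_central hR' hchar
  have hscal : ∀ a : R, a ∈ Subgroup.center R → ∃ c : F, ((a : GG) : MM) = c • 1 := fun a ha => by
    obtain ⟨c, hc'⟩ := hR.absIrred.2 ((a : GG) : MM) (Cfsg.Lib.Classical.PrimeDim.forall_matrixSet.mpr fun g hg => by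
      rw [← Units.val_mul, ← Units.val_mul]
      exact congrArg (fun z : R => ((z : GG) : MM)) (Subgroup.mem_center_iff.mp ha ⟨g, hg⟩).symm)
    exact ⟨c, hc'⟩
  refine ⟨le_antisymm ?_ h27, hexp, hna⟩
  obtain ⟨x, y, hxy⟩ : ∃ x y : R, x * y ≠ y * x := by
    by_contra hc
    push Not at hc
    exact hna ⟨⟨hc⟩⟩
  set Z := Subgroup.center R
  have hsub : ∀ a b : R, ⁅a, b⁆ ∈ Z := fun a b =>
    hcen (Subgroup.commutator_mem_commutator (Subgroup.mem_top a) (Subgroup.mem_top b))
  let φ : R → Z × Z := fun g => (⟨⁅g, x⁆, hsub g x⟩, ⟨⁅g, y⁆, hsub g y⟩)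
  -- the commuting matrices
  have hker : ∀ g : R, g * x = x * g → g * y = y * g → g ∈ Z := by
    intro g hgx hgy
    obtain ⟨κ, hκ⟩ := hscal ⁅x, y⁆ (hsub x y)
    have hκ1 : κ ≠ 1 := fun e1 => hxy (by
      rw [← commutatorElement_eq_one_iff_mul_comm]
      exact Subtype.ext (Units.ext (by rw [hκ, e1, one_smul]; rfl)))
    have hκ3 : κ ^ 3 = 1 := by
      have h := congrArg (fun z : R => ((z : GG) : MM)) (hcube ⁅x, y⁆)
      simp only [Subgroup.coe_pow, Units.val_pow_eq_pow_val, hκ, smul_pow, one_pow] at h
      simpa using congrFun (congrFun h 0) 0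
    have hprim : IsPrimitiveRoot κ 3 := by
      rw [← orderOf_eq_prime hκ3 hκ1]; exact IsPrimitiveRoot.orderOf κ
    have htw : ((x : GG) : MM) * ((y : GG) : MM) = κ • (((y : GG) : MM) * ((x : GG) : MM)) := by
      have e : x * y = ⁅x, y⁆ * (y * x) := by rw [commutatorElement_def]; group
      have h := congrArg (fun z : R => ((z : GG) : MM)) e
      simp only [Subgroup.coe_mul, Units.val_mul, hκ, smul_mul_assoc, one_mul] at h
      exact h
    have hli := Cfsg.Lib.Classical.PrimeDim.mono_indep hprim htw
    have hspan := hli.span_eq_top_of_card_eq_finrank' (by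
      rw [Fintype.card_prod, Fintype.card_fin, Module.finrank_matrix, Module.finrank_self, Fintype.card_fin,
        mul_one])
    have cx : Commute ((g : GG) : MM) ((x : GG) : MM) := congrArg (fun z : R => ((z : GG) : MM)) hgx
    have cy : Commute ((g : GG) : MM) ((y : GG) : MM) := congrArg (fun z : R => ((z : GG) : MM)) hgy
    have hall : ∀ M : MM, ((g : GG) : MM) * M = M * ((g : GG) : MM) := fun M => by
      have hM : M ∈ Submodule.span F (Set.range fun q : Fin 3 × Fin 3 =>
          ((x : GG) : MM) ^ (q.1 : ℕ) * ((y : GG) : MM) ^ (q.2 : ℕ)) := hspan ▸ Submodule.mem_top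
      induction hM using Submodule.span_induction with
      | mem _ h =>
        obtain ⟨q, rfl⟩ := h
        exact ((cx.pow_right _).mul_right (cy.pow_right _)).eq
      | zero => simp
      | add a b _ _ ha hb => rw [mul_add, add_mul, ha, hb]
      | smul c a _ ha => rw [Matrix.mul_smul, Matrix.smul_mul, ha]
    exact Subgroup.mem_center_iff.mpr fun h => Subtype.ext (Units.ext (by
      simp only [Subgroup.coe_mul, Units.val_mul]; exact (hall _).symm))
  let ψ : R → (Z × Z) × Z := fun g => (φ g, ⟨(Function.invFun φ (φ g))⁻¹ * g, by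
    set g₀ := Function.invFun φ (φ g)
    have h0 : φ g₀ = φ g := Function.invFun_eq ⟨g, rfl⟩
    have ex : g₀ * x * g₀⁻¹ = g * x * g⁻¹ := by
      have := congrArg (fun q : Z × Z => (q.1 : R)) h0
      simp only [φ, commutatorElement_def] at this
      exact mul_right_cancel this
    have ey : g₀ * y * g₀⁻¹ = g * y * g⁻¹ := by
      have := congrArg (fun q : Z × Z => (q.2 : R)) h0
      simp only [φ, commutatorElement_def] at this
      exact mul_right_cancel this
    refine hker _ ?_ ?_
    · calc g₀⁻¹ * g * x = g₀⁻¹ * (g * x * g⁻¹) * g := by group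
        _ = x * (g₀⁻¹ * g) := by rw [← ex]; group
    · calc g₀⁻¹ * g * y = g₀⁻¹ * (g * y * g⁻¹) * g := by group
        _ = y * (g₀⁻¹ * g) := by rw [← ey]; group⟩)
  have hψ : Function.Injective ψ := fun a b hab => by
    simp only [ψ, Prod.mk.injEq, Subtype.mk.injEq] at hab
    rw [hab.1] at hab
    exact mul_left_cancel hab.2
  have := Nat.card_le_card_of_injective ψ hψ
  rw [Nat.card_prod, Nat.card_prod, hc] at this
  omega

end Cfsg.Lib.Classical.SLThree
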