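import Mathlib
import Cfsg.Agent.Classical.SLThree.SymCases
import Cfsg.Agent.Classical.SLThree.SymData

/-! The normaliser of an extraspecial group of order twenty-seven is maximal in `SL₃(p)`. -/

set_option autoImplicit false
set_option linter.unusedSimpArgs false
set_option linter.unusedSectionVars false
set_option linter.style.haveILetI false

namespace Cfsg.Lib.Classical.SLThree.Symp

open Matrix Cfsg.Geo
open scoped MatrixGroups
open Cfsg.Lib.Classical.ExtraThree (dA mB root_pow root_ne Frame)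

universe u

variable {F : Type u} [Field F] [Fintype F]

local notation "MM" => Matrix (Fin 3) (Fin 3) F
local notation "GG" => GL (Fin 3) F

/-- The normaliser does not contain the special linear group. -/
theorem not_le {ω : F} {R : Subgroup GG} {c a b : GG} (S : Std ω R c a b) :
    ¬ specialLinear (Fin 3) F ≤ Subgroup.normalizer (R : Set GG) := by
  intro h
  let t : GG := ⟨!![1, 1, 0; 0, 1, 0; 0, 0, 1], !![1, -1, 0; 0, 1, 0; 0, 0, 1],
    by ext i j; fin_cases i <;> fin_cases j <;> simp [Matrix.mul_apply, Fin.sum_univ_three],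
    by ext i j; fin_cases i <;> fin_cases j <;> simp [Matrix.mul_apply, Fin.sum_univ_three]⟩
  have ht : t ∈ specialLinear (Fin 3) F := mem_sl_iff.mpr (by
    show (!![1, 1, 0; 0, 1, 0; 0, 0, 1] : MM).det = 1
    rw [Matrix.det_fin_three]; simp)
  have hm : t * a * t⁻¹ ∈ R := (Subgroup.mem_set_normalizer_iff.mp (h ht) a).mp S.frame.mem_a
  obtain ⟨i, j, k, hj, hk, e⟩ := S.form3 hm
  have hv : ((t * a * t⁻¹ : GG) : MM) = !![1, ω - 1, 0; 0, ω, 0; 0, 0, ω ^ 2] := by
    rw [Units.val_mul, Units.val_mul, S.val_a]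
    show (!![1, 1, 0; 0, 1, 0; 0, 0, 1] : MM) * dA ω * !![1, -1, 0; 0, 1, 0; 0, 0, 1] = _
    rw [dA_eq]
    ext r s
    fin_cases r <;> fin_cases s <;> simp [dA, Matrix.mul_apply, Fin.sum_univ_three, Matrix.diagonal] <;> ring
  rw [hv] at e
  have hω1 := root_ne S.three S.root
  have h00 := congrFun (congrFun e 0) 0
  have h01 := congrFun (congrFun e 0) 1
  rw [dA, Matrix.diagonal_pow, Matrix.smul_apply, Matrix.diagonal_mul] at h00 h01
  interval_cases k
  · simp at h01
    exact hω1 (by linear_combination h01)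
  · simp [mB] at h00
  · simp [mB, pow_two, Matrix.mul_apply, Fin.sum_univ_three] at h00

/-- **The symplectic-type case.** -/
theorem symplectic_maximal (p : ℕ) (R : Subgroup GG) (hp : p.Prime) (hF : Fintype.card F = p) (hp3 : p % 3 = 1)
    (hR : IsLinearSymplecticTypeData 3 R) :
    IsMaximalIn (specialLinear (Fin 3) F) (subgroupNormalizer R ⊓ specialLinear (Fin 3) F) := by
  classical
  obtain ⟨h27, hexp, hna⟩ := symp_card hR
  haveI : Fact p.Prime := ⟨hp⟩
  haveI : CharP F p := charP_of_card_eq_prime hF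
  have h3 : (3 : F) ≠ 0 := by
    intro e
    have e' : ((3 : ℕ) : F) = 0 := by exact_mod_cast e
    have := (Nat.prime_dvd_prime_iff_eq hp Nat.prime_three).mp ((CharP.cast_eq_zero_iff F p 3).mp e')
    omega
  obtain ⟨ω₀, hω₀⟩ := Cfsg.Lib.Classical.ExtraThree.exists_omega (F := F) (by rw [hF]; omega)
  obtain ⟨ω, Pm, c, a, b, S⟩ := Cfsg.Lib.Classical.ExtraThree.exists_frame h3 hω₀ R h27 hexp hna
  set φ : GG →* GG := (MulAut.conj Pm⁻¹).toMonoidHom with hφ
  have hφv : ∀ g, φ g = Pm⁻¹ * g * Pm := fun g => by simp [hφ]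
  have hφi : Function.Injective φ := (MulAut.conj Pm⁻¹).injective
  set R' : Subgroup GG := R.map φ with hR'
  have hval : ∀ (g : GG) (D : MM), (g : MM) * (Pm : MM) = (Pm : MM) * D → ((φ g : GG) : MM) = D := fun g D h => by
    rw [hφv, Units.val_mul, Units.val_mul, mul_assoc, h, ← mul_assoc, ← Units.val_mul, inv_mul_cancel, Units.val_one,
      one_mul]
  have S' : Std ω R' (φ c) (φ a) (φ b) :=
    { frame :=
        { root := S.root
          mem_c := Subgroup.mem_map_of_mem φ S.mem_c
          mem_a := Subgroup.mem_map_of_mem φ S.mem_a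
          mem_b := Subgroup.mem_map_of_mem φ S.mem_b
          gen := by rw [hR', ← S.gen, MonoidHom.map_closure, Set.image_pair]
          eqc := hval c _ (by rw [S.eqc, smul_mul_assoc, mul_smul_comm, one_mul, mul_one])
          eqa := by rw [Units.val_one, mul_one, one_mul]; exact hval a _ S.eqa
          eqb := by rw [Units.val_one, mul_one, one_mul]; exact hval b _ S.eqb }
      three := h3
      card := by rw [hR', Subgroup.card_map_of_injective hφi, h27]
      exp := by
        rintro _ ⟨y, hy, rfl⟩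
        rw [← map_pow, show y ^ 3 = 1 from congrArg Subtype.val
          (show (⟨y, hy⟩ : R) ^ 3 = 1 by have := Monoid.pow_exponent_eq_one (⟨y, hy⟩ : R); rwa [hexp] at this), map_one] }
  have hN : ∀ g, φ g ∈ Subgroup.normalizer (R' : Set GG) ↔ g ∈ Subgroup.normalizer (R : Set GG) := fun g => by
    simp only [Subgroup.mem_set_normalizer_iff, SetLike.mem_coe]
    constructor
    · intro h x
      have := h (φ x)
      rwa [← map_inv, ← map_mul, ← map_mul, hR', Subgroup.mem_map_iff_mem hφi, Subgroup.mem_map_iff_mem hφi] at this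
    · intro h x
      obtain ⟨x, rfl⟩ := (MulAut.conj Pm⁻¹).surjective x
      show φ x ∈ R' ↔ φ g * φ x * (φ g)⁻¹ ∈ R'
      rw [← map_inv, ← map_mul, ← map_mul, hR', Subgroup.mem_map_iff_mem hφi, Subgroup.mem_map_iff_mem hφi]
      exact h x
  have hS : ∀ g, φ g ∈ specialLinear (Fin 3) F ↔ g ∈ specialLinear (Fin 3) F := fun g => by
    rw [mem_sl_iff, mem_sl_iff, hφv, Units.val_mul, Units.val_mul, Matrix.det_mul, Matrix.det_mul, mul_right_comm,
      ← Matrix.det_mul, ← Units.val_mul, inv_mul_cancel, Units.val_one, Matrix.det_one, one_mul]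
  refine ⟨lt_of_le_of_ne inf_le_right fun e => not_le S' fun y hy => ?_, fun M hM hMle => ?_⟩
  · obtain ⟨x, rfl⟩ := (MulAut.conj Pm⁻¹).surjective y
    have hy' : φ x ∈ specialLinear (Fin 3) F := hy
    rw [hS, ← e] at hy'
    exact (hN x).mpr hy'.1
  have A : Above p ω R' (φ c) (φ a) (φ b) (M.map φ) :=
    { prime := hp
      card := hF
      p3 := hp3
      std := S'
      ge := fun y hy => by
        obtain ⟨x, rfl⟩ := (MulAut.conj Pm⁻¹).surjective y
        exact Subgroup.mem_map_of_mem φ (hM ⟨(hN x).mp hy.1, (hS x).mp hy.2⟩)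
      le := by
        rintro _ ⟨x, hx, rfl⟩
        exact (hS x).mpr (hMle hx) }
  rcases A.main with h | h
  · exact Or.inl (le_antisymm (le_inf (fun x hx => (hN x).mp (h (Subgroup.mem_map_of_mem φ hx))) hMle) hM)
  · exact Or.inr (le_antisymm hMle fun x hx => (Subgroup.mem_map_iff_mem hφi).mp (h ((hS x).mpr hx)))

end Cfsg.Lib.Classical.SLThree.Symp
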