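import Mathlib
import Cfsg.Agent.Classical.Unitary.InSL
import Cfsg.Agent.Classical.MaxBridge
import Cfsg.Prelude.Def_GeometricClasses

/-! The unitary similitudes are maximal in the special linear group in dimension three. -/

set_option autoImplicit false
set_option linter.unusedVariables false
set_option linter.unusedSimpArgs false
set_option linter.style.haveILetI false

namespace Cfsg.Lib.Classical.HermSpace

universe u v

variable {F : Type u} [Field F] {V : Type v} [AddCommGroup V] [Module F V] {H : HermSpace F V}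

/-- A transvection with isotropic axis and anisotropic centre gives one with both equal to the same point. -/
theorem line_of_tangent [Finite F] [FiniteDimensional F V] {K : Subgroup (slGroup F V)}
    (hK : ∀ s : H.SIsom, H.toSL s ∈ K) {v r : V} (hv : H.h v v ≠ 0) (hr : H.h r r = 0)
    (hA : r ∈ H.axes K v) (l : F) : l • r ∈ H.axes K r := by
  obtain ⟨h1, hT⟩ := hA
  have hvr : H.h v r = 0 := h1
  set c : F := -(l / H.h v v) with hc
  have he : H.h (c • v) r = 0 := by rw [H.smul_left, hvr, mul_zero]
  obtain ⟨θ, hθ⟩ := H.conj.exists_trace_one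
  have ha : -(θ * H.h (c • v) (c • v)) + H.σ (-(θ * H.h (c • v) (c • v))) = -H.h (c • v) (c • v) := by
    rw [map_neg, map_mul, H.self_fixed]; linear_combination (-H.h (c • v) (c • v)) * hθ
  let s : H.SIsom := ⟨H.siegel hr he ha, H.siegel_mem_SIsom hr he ha⟩
  have hsr : s.1.1 r = r := by
    change (H.siegel hr he ha).1 r = r
    rw [siegel_apply, hr, H.eq_zero_symm he, zero_smul, mul_zero, sub_zero, zero_smul, add_zero, add_zero]
  have hsv : s.1.1 v = v + (-(H.σ c * H.h v v)) • r := by
    change (H.siegel hr he ha).1 v = _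
    simp only [siegel_apply, hvr, zero_smul, mul_zero, add_zero, zero_sub, H.smul_right]
  have h1' : H.lin (s.1.1 r) (s.1.1 v) = 0 := by rw [lin_apply, H.map_form]; exact h1
  have h3 := K.mul_mem (K.mul_mem (hK s) hT) (K.inv_mem (hK s))
  rw [slT_conj_lin s v r h1 h1'] at h3
  have h4 := K.mul_mem h3 (K.inv_mem hT)
  have h5 : H.lin (l • r) r = 0 := by rw [lin_apply, H.smul_right, hr, mul_zero]
  refine ⟨h5, ?_⟩
  convert h4 using 1
  rw [eq_mul_inv_iff_mul_eq]
  refine slGroup.ext' fun x => ?_
  rw [slGroup.mul_apply', slT_apply, slT_apply, slT_apply]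
  simp only [lin_apply, hsr, hsv, H.smul_right, H.add_left, H.smul_left, hvr, hr, mul_zero, add_zero]
  rw [hc, map_neg, map_div₀, H.self_fixed, neg_mul, neg_neg, div_mul_cancel₀ _ hv]
  module

variable (H)

theorem isCoatom_slSimilitudes_three [Finite F] [FiniteDimensional F V] (hd : Module.finrank F V = 3) :
    IsCoatom H.slSimilitudes := by
  haveI : Nontrivial V := Module.nontrivial_of_finrank_pos (R := F) (by omega)
  refine ⟨fun htop => ?_, fun K hlt => ?_⟩
  · obtain ⟨b, hb⟩ := H.exists_norm_one
    obtain ⟨a, ha, hab⟩ := H.exists_anisotropic_orth_singleton (by omega) b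
    have h0 : H.lin b a = 0 := hab
    obtain ⟨c, hc⟩ := (htop ▸ Subgroup.mem_top (slT (H.lin b) a h0) : _ ∈ H.slSimilitudes)
    have h1 := hc a a
    have h2 := hc b b
    rw [slT_apply, lin_apply, hab, zero_smul, add_zero, ha, mul_one] at h1
    rw [slT_apply, lin_apply, hb, one_smul, ← h1, one_mul, H.add_left, H.add_right, H.add_right, ha, hb, hab,
      H.eq_zero_symm hab] at h2
    exact one_ne_zero (α := F) (by linear_combination h2)
  obtain ⟨g, hgK, hgM⟩ := SetLike.exists_of_lt hlt
  have hK : ∀ s : H.SIsom, H.toSL s ∈ K := fun s => hlt.le (H.toSL_mem s)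
  -- a transvection of `K` that is not unitary
  obtain ⟨v, hv, w, hwv, hw⟩ : ∃ v, v ≠ 0 ∧ ∃ w, w ∉ Submodule.span F ({v} : Set V) ∧ w ∈ H.axes K v := by
    by_contra hcon
    push Not at hcon
    obtain ⟨δ, hδ0, hδ⟩ := H.conj.exists_skew
    have key : ∀ v, H.h v v = 0 → v ≠ 0 →
        ∃ c : F, ∀ x, H.h ((g : V ≃ₗ[F] V) x) ((g : V ≃ₗ[F] V) v) = c * H.h x v := by
      intro v hvv hv
      have h0 : (δ • H.lin v) v = 0 := by rw [LinearMap.smul_apply, lin_apply, hvv, smul_zero]
      have hT := K.mul_mem (K.mul_mem hgK (hK ⟨H.uT hvv hδ, H.uT_mem_SIsom hvv hδ⟩)) (K.inv_mem hgK)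
      rw [show H.toSL ⟨H.uT hvv hδ, H.uT_mem_SIsom hvv hδ⟩ = slT (δ • H.lin v) v h0 from
        slGroup.ext' fun x => by
          rw [slT_apply]; exact (H.uT_apply hvv hδ x).trans (by simp [lin_apply]), slT_conj] at hT
      set u := (g : V ≃ₗ[F] V) v with hu
      obtain ⟨w, hw⟩ := H.exists_lin ((δ • H.lin v) ∘ₗ ((g⁻¹ : slGroup F V) : V ≃ₗ[F] V).toLinearMap)
      have hwu : H.lin w u = 0 := by
        rw [lin_apply, hw]; simp [hu, slGroup.inv_apply_self, lin_apply, hvv]
      have hwA : w ∈ H.axes K u := by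
        refine ⟨hwu, ?_⟩
        convert hT using 1
        exact slT_congr fun x => by rw [lin_apply, hw]
      have hu0 : u ≠ 0 := by simpa [hu] using hv
      obtain ⟨a, ha⟩ := Submodule.mem_span_singleton.mp (by_contra fun h => hcon u hu0 w h hwA)
      have e : ∀ x, H.σ a * H.h ((g : V ≃ₗ[F] V) x) u = δ * H.h x v := fun x => by
        rw [← H.smul_right, ha, hw]; simp [slGroup.inv_apply_self, lin_apply]
      have ha0 : H.σ a ≠ 0 := fun h => by
        obtain ⟨y, hy⟩ := H.exists_partner hv
        have := e y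
        rw [h, zero_mul, H.symm, hy, map_one, mul_one] at this
        exact hδ0 this.symm
      exact ⟨δ / H.σ a, fun x => by rw [div_mul_eq_mul_div, eq_div_iff ha0, mul_comm _ (H.σ a), e]⟩
    choose c hc using key
    have hrel : ∀ p r hp hp0 hr hr0, H.h p r ≠ 0 → c r hr hr0 = H.σ (c p hp hp0) := by
      intro p r hp hp0 hr hr0 hne
      have h1 := hc r hr hr0 p
      have h2 := congrArg H.σ (hc p hp hp0 r)
      rw [map_mul, ← H.symm, ← H.symm] at h2
      exact mul_right_cancel₀ hne (h1.symm.trans h2)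
    have hconst : ∀ p s hp hp0 hs hs0, c p hp hp0 = c s hs hs0 := by
      intro p s hp hp0 hs hs0
      obtain ⟨r, hr, hpr, hsr⟩ := H.exists_isotropic_nonorth hp0 hs0 hp hs
      have hr0 : r ≠ 0 := fun h => hpr (by rw [h, H.zero_right])
      exact H.conj.inj ((hrel p r hp hp0 hr hr0 hpr).symm.trans (hrel s r hs hs0 hr hr0 hsr))
    obtain ⟨p, hp0, hp⟩ := H.exists_isotropic_of_two_le (by omega)
    have hc0 : c p hp hp0 ≠ 0 := fun h => by
      obtain ⟨y, hy⟩ := H.exists_partner (v := (g : V ≃ₗ[F] V) p) (by simpa using hp0)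
      have := hc p hp hp0 (((g⁻¹ : slGroup F V) : V ≃ₗ[F] V) y)
      rw [slGroup.apply_inv_self, h, zero_mul, H.symm, hy, map_one] at this
      exact one_ne_zero this
    have hfix : H.σ (c p hp hp0) = c p hp hp0 := by
      obtain ⟨r, hr, hpr, -⟩ := H.exists_isotropic_nonorth hp0 hp0 hp hp
      have hr0 : r ≠ 0 := fun h => hpr (by rw [h, H.zero_right])
      rw [← hrel p r hp hp0 hr hr0 hpr, hconst r p hr hr0 hp hp0]
    refine hgM ⟨Units.mk0 _ hc0, fun x y => ?_⟩
    have hy : y ∈ Submodule.span F {x : V | H.h x x = 0} := by rw [H.span_isotropic (by omega)]; trivial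
    rw [Units.val_mk0]
    induction hy using Submodule.span_induction with
    | mem z hz =>
      rcases eq_or_ne z 0 with rfl | hz0
      · simp [H.zero_right]
      · rw [hc z hz hz0, hconst z p hz hz0 hp hp0]
    | zero => simp [H.zero_right]
    | add a b _ _ ha hb => rw [map_add, H.add_right, H.add_right, ha, hb, mul_add]
    | smul r a _ ha => rw [map_smul, H.smul_right, H.smul_right, ha]; ring
  have hvw : H.h v w = 0 := hw.choose
  obtain ⟨δ, hδ0, hδ⟩ := H.conj.exists_skew
  -- a full root group with isotropic centre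
  obtain ⟨p, hp0, hpp, hline⟩ : ∃ p, p ≠ 0 ∧ H.h p p = 0 ∧ ∀ l : F, l • p ∈ H.axes K p := by
    by_cases hvv : H.h v v = 0
    · refine ⟨v, hv, hvv, fun l => ?_⟩
      obtain ⟨e, hev, hwe⟩ : ∃ e, H.h e v = 0 ∧ H.h w e = l := by
        obtain ⟨e, hev, hwe⟩ : ∃ e ∈ H.orth (Submodule.span F ({v} : Set V)), H.h w e ≠ 0 := by
          by_contra h
          push Not at h
          exact hwv (by rw [← H.orth_orth (Submodule.span F ({v} : Set V))]; exact h)
        refine ⟨H.σ (l / H.h w e) • e, ?_, ?_⟩
        · rw [H.smul_left, hev v (Submodule.mem_span_singleton_self v), mul_zero]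
        · rw [H.smul_right, H.conj.invol, div_mul_cancel₀ _ hwe]
      obtain ⟨θ, hθ⟩ := H.conj.exists_trace_one
      have ha : -(θ * H.h e e) + H.σ (-(θ * H.h e e)) = -H.h e e := by
        rw [map_neg, map_mul, H.self_fixed]; linear_combination (-H.h e e) * hθ
      have := (H.axes K v).sub_mem hw (axes_map hK hw
        (g := ⟨H.siegel hvv hev ha, H.siegel_mem_SIsom hvv hev ha⟩)
        (by change (H.siegel hvv hev ha).1 v = v
            rw [siegel_apply, hvv, H.eq_zero_symm hev, zero_smul, mul_zero, sub_zero, zero_smul, add_zero, add_zero]))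
      change w - (H.siegel hvv hev ha).1 w ∈ _ at this
      rw [siegel_apply, H.eq_zero_symm hvw, hwe] at this
      convert this using 1
      module
    · set U := H.orth (Submodule.span F ({v} : Set V))
      have hU : H.NondegOn U := H.nondegOn_orth (H.nondegOn_span_singleton hvv)
      have hU2 : 2 ≤ Module.finrank F U := by
        show 2 ≤ Module.finrank F (H.orth (Submodule.span F ({v} : Set V)))
        rw [H.finrank_orth, finrank_span_singleton hv]; omega
      have hwU : w ∈ U := H.mem_orth_span.mpr fun t ht => by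
        rw [Set.mem_singleton_iff.mp ht]; exact H.eq_zero_symm hvw
      have hw0 : (⟨w, hwU⟩ : U) ≠ 0 := fun h => hwv (by
        rw [show w = 0 from congrArg Subtype.val h]; exact Submodule.zero_mem _)
      obtain ⟨⟨r, hrU⟩, hrr, hwr⟩ := (H.restrict U hU).exists_isotropic_nonorth_to hU2 hw0
      replace hrr : H.h r r = 0 := hrr
      replace hwr : H.h w r ≠ 0 := hwr
      have hrv : H.h r v = 0 := hrU v (Submodule.mem_span_singleton_self v)
      have := axes_map hK hw (g := ⟨H.uT hrr hδ, H.uT_mem_SIsom hrr hδ⟩) (by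
        change (H.uT hrr hδ).1 v = v
        rw [uT_apply, H.eq_zero_symm hrv, mul_zero, zero_smul, add_zero])
      change (H.uT hrr hδ).1 w ∈ _ at this
      rw [uT_apply] at this
      have h2 := (H.axes K v).sub_mem this hw
      rw [add_sub_cancel_left] at h2
      have h0 : δ * H.h w r ≠ 0 := mul_ne_zero hδ0 hwr
      refine ⟨(δ * H.h w r) • r, smul_ne_zero h0 (fun e => hwr (by rw [e, H.zero_right])),
        by rw [H.smul_left, H.smul_right, hrr, mul_zero, mul_zero], fun l => ?_⟩
      exact line_of_tangent hK hvv (by rw [H.smul_left, H.smul_right, hrr, mul_zero, mul_zero]) h2 l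
  haveI := H.isoPt_pretransitive
  obtain ⟨u, hu, huu⟩ := H.exists_hyperbolic hp0 hpp
  have hu0 : u ≠ 0 := fun e => one_ne_zero (α := F) (by rw [← hu, e, H.zero_right])
  have hu1 : H.h u p = 1 := by rw [H.symm, hu, map_one]
  have hlineu : ∀ l : F, l • u ∈ H.axes K u := by
    intro l
    obtain ⟨s, hs⟩ := MulAction.exists_smul_eq H.SIsom (H.isoMk p hp0 hpp) (H.isoMk u hu0 huu)
    rw [smul_isoMk, isoMk_eq_iff] at hs
    obtain ⟨e, he⟩ := hs
    have he0 : e ≠ 0 := by
      rintro rfl
      rw [zero_smul] at he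
      exact H.isom_ne_zero s.1 hp0 he.symm
    have he1 : H.σ e ≠ 0 := fun h => he0 (H.conj.inj (h.trans (map_zero _).symm))
    obtain ⟨h1, h2⟩ := hline (l / (H.σ e * e))
    have h1' : H.lin (s.1.1 ((l / (H.σ e * e)) • p)) (s.1.1 p) = 0 := by rw [lin_apply, H.map_form]; exact h1
    have h3 := K.mul_mem (K.mul_mem (hK s) h2) (K.inv_mem (hK s))
    rw [slT_conj_lin s p _ h1 h1'] at h3
    have h4 : H.lin (l • u) u = 0 := by rw [lin_apply, H.smul_right, huu, mul_zero]
    refine ⟨h4, ?_⟩
    convert h3 using 1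
    refine slT_congr fun x => ?_
    rw [map_smul, ← he, lin_apply, lin_apply, H.smul_right, H.smul_right, H.smul_right, smul_smul]
    congr 1
    rw [map_div₀, map_mul, H.conj.invol]
    field_simp
  -- an anisotropic point with a full group of secant axis
  obtain ⟨a, ha⟩ := H.conj.exists_trace_one
  set q := p + H.σ a • u with hq
  set z := p - a • u with hz
  have hqz : H.h q z = 0 := by
    simp only [hq, hz, H.sub_right, H.add_left, H.smul_left, H.smul_right, hpp, huu, hu, hu1]
    ring
  have hqq : H.h q q = 1 := by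
    simp only [hq, H.add_right, H.add_left, H.smul_left, H.smul_right, hpp, huu, hu, hu1, H.conj.invol]
    linear_combination ha
  have hzz : H.h z z ≠ 0 := by
    have : H.h z z = -1 := by
      simp only [hz, H.sub_right, H.sub_left, H.smul_left, H.smul_right, hpp, huu, hu, hu1]
      linear_combination (-1 : F) * ha
    rw [this]; exact neg_ne_zero.mpr one_ne_zero
  have hzline : ∀ l : F, l • z ∈ H.axes K q := by
    intro l
    obtain ⟨h1, hS⟩ := hlineu a
    obtain ⟨h2, hT⟩ := hline l
    have h3 : H.lin (l • z) q = 0 := by rw [lin_apply, H.smul_right, hqz, mul_zero]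
    refine ⟨h3, ?_⟩
    have h6 := K.mul_mem (K.mul_mem hS hT) (K.inv_mem hS)
    convert h6 using 1
    rw [eq_mul_inv_iff_mul_eq]
    refine slGroup.ext' fun x => ?_
    rw [slGroup.mul_apply', slGroup.mul_apply', slT_apply, slT_apply, slT_apply, slT_apply]
    simp only [hq, hz, lin_apply, H.smul_right, H.sub_right, H.add_left, H.smul_left, hpp, huu, hu, hu1, map_mul]
    module
  set U := H.orth (Submodule.span F ({q} : Set V))
  have hq0 : q ≠ 0 := fun e => one_ne_zero (α := F) (by rw [← hqq, e, H.zero_left])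
  have hU : H.NondegOn U := H.nondegOn_orth (H.nondegOn_span_singleton (by rw [hqq]; exact one_ne_zero))
  have hU2 : Module.finrank F U = 2 := by
    show Module.finrank F (H.orth (Submodule.span F ({q} : Set V))) = 2
    rw [H.finrank_orth, finrank_span_singleton hq0]; omega
  have hzU : z ∈ U := H.mem_orth_span.mpr fun t ht => by
    rw [Set.mem_singleton_iff.mp ht]; exact H.eq_zero_symm hqz
  have hz0 : (⟨z, hzU⟩ : U) ≠ 0 := fun h => hzz (by rw [show z = 0 from congrArg Subtype.val h, H.zero_left])
  obtain ⟨⟨r, hrU⟩, hrr, hzr⟩ := (H.restrict U hU).exists_isotropic_nonorth_to hU2.ge hz0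
  replace hrr : H.h r r = 0 := hrr
  replace hzr : H.h z r ≠ 0 := hzr
  have hrq : H.h r q = 0 := hrU q (Submodule.mem_span_singleton_self q)
  have hrline : ∀ l : F, l • r ∈ H.axes K q := by
    intro l
    have hm := hzline (l / (δ * H.h z r))
    have := axes_map hK hm (g := ⟨H.uT hrr hδ, H.uT_mem_SIsom hrr hδ⟩) (by
      change (H.uT hrr hδ).1 q = q
      rw [uT_apply, H.eq_zero_symm hrq, mul_zero, zero_smul, add_zero])
    change (H.uT hrr hδ).1 _ ∈ _ at this
    rw [uT_apply, H.smul_left] at this
    have h2 := (H.axes K q).sub_mem this hm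
    rw [add_sub_cancel_left] at h2
    convert h2 using 2
    field_simp
  have hqC : q ∈ slCentres K := mem_slCentres_of_axes fun x hx => by
    have hxU : x ∈ U := H.mem_orth_span.mpr fun t ht => by
      rw [Set.mem_singleton_iff.mp ht]; exact H.eq_zero_symm hx
    have hli : LinearIndependent F ![(⟨z, hzU⟩ : U), ⟨r, hrU⟩] := by
      refine LinearIndependent.pair_iff.mpr fun s t hst => ?_
      have e : s • z + t • r = 0 := congrArg Subtype.val hst
      have e1 := congrArg (fun y => H.h y r) e
      simp only [H.add_left, H.smul_left, hrr, mul_zero, add_zero, H.zero_left, mul_eq_zero, hzr, or_false] at e1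
      subst e1
      rw [zero_smul, zero_add] at e
      exact ⟨rfl, (smul_eq_zero.mp e).resolve_right fun e' => hzr (by rw [e', H.zero_right])⟩
    have htop := hli.span_eq_top_of_card_eq_finrank' (by rw [hU2, Fintype.card_fin])
    obtain ⟨c, hc⟩ := (Submodule.mem_span_range_iff_exists_fun F).mp
      (htop ▸ Submodule.mem_top : (⟨x, hxU⟩ : U) ∈ Submodule.span F (Set.range ![(⟨z, hzU⟩ : U), ⟨r, hrU⟩]))
    rw [Fin.sum_univ_two] at hc
    have e : c 0 • z + c 1 • r = x := congrArg Subtype.val hc
    rw [← e]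
    exact (H.axes K q).add_mem (hzline _) (hrline _)
  refine slGroup_eq_top_of_transvections fun y => ?_
  have haniso : ∀ y, H.h y y ≠ 0 → y ∈ slCentreSpace K := by
    intro y hy
    obtain ⟨b, hb⟩ := H.conj.norm_surjective (a := H.h y y) (H.self_fixed y)
    have hb0 : b ≠ 0 := fun e => hy (by rw [← hb, e, zero_mul])
    obtain ⟨s, hs, -⟩ := H.exists_SIsom_move (U := ⊤) (fun z _ h => H.nondeg z fun x => h x trivial)
      (by rw [finrank_top]; omega) (x := ⟨b • q, trivial⟩) (y := ⟨y, trivial⟩)
      (fun h => smul_ne_zero hb0 hq0 (congrArg Subtype.val h))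
      (fun h => hy (by rw [show y = 0 from congrArg Subtype.val h, H.zero_left]))
      (by rw [H.smul_left, H.smul_right, ← mul_assoc, hb, hqq, mul_one])
    have := slCentres_map (slCentres_smul hqC b) (hK s)
    change s.1.1 (b • q) ∈ slCentres K at this
    rwa [hs] at this
  have hiso : ∀ r, H.h r r = 0 → r ∈ slCentreSpace K := fun r hr => by
    obtain ⟨e, he, her⟩ := H.exists_anisotropic_orth_singleton (by omega) r
    have h1 : H.h (r + e) (r + e) ≠ 0 := by
      simp only [H.add_left, H.add_right, he, her, H.eq_zero_symm her, hr, zero_add, add_zero]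
      exact one_ne_zero
    have := (slCentreSpace K).sub_mem (haniso _ h1) (haniso e (by rw [he]; exact one_ne_zero))
    rwa [add_sub_cancel_right] at this
  by_cases hy : H.h y y = 0
  · exact hiso y hy
  · exact haniso y hy

end Cfsg.Lib.Classical.HermSpace

namespace Cfsg.Lib.Classical.SLThree

theorem unitary_maximal {F : Type*} [Field F] [Fintype F] (σ : F ≃+* F)
    (f : (Fin 3 → F) → (Fin 3 → F) → F) (hf : Cfsg.Geo.IsUnitaryForm σ f) :
    Cfsg.Geo.IsMaximalIn (Cfsg.Geo.specialLinear (Fin 3) F)
      (Cfsg.Geo.similarityGroup f ⊓ Cfsg.Geo.specialLinear (Fin 3) F) := by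
  let H : Cfsg.Lib.Classical.HermSpace F (Fin 3 → F) :=
    { σ := σ.toRingHom
      h := f
      conj := ⟨hf.involutive, by
        by_contra hc
        push Not at hc
        exact hf.ne_refl (RingEquiv.ext hc)⟩
      add_left := hf.add_left
      smul_left := hf.smul_left
      symm := hf.herm
      nondeg := fun v hv => by
        by_contra hne
        obtain ⟨⟨x, hx⟩, -⟩ := hf.nondegenerate v hne
        exact hx (hv x) }
  refine Cfsg.Lib.Classical.isMaximalIn_of_isCoatom_comap (Cfsg.Lib.Classical.slToGL (Fin 3) F)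
    (Cfsg.Lib.Classical.range_slToGL (Fin 3)) ?_
  have e : (Cfsg.Geo.similarityGroup f).comap (Cfsg.Lib.Classical.slToGL (Fin 3) F) = H.slSimilitudes := by
    ext g
    refine exists_congr fun c => forall_congr' fun x => forall_congr' fun y => ?_
    change f ((Cfsg.Lib.Classical.slToGL (Fin 3) F g).val.mulVec x) ((Cfsg.Lib.Classical.slToGL (Fin 3) F g).val.mulVec y) = _ ↔ _
    rw [Cfsg.Lib.Classical.slToGL_mulVec, Cfsg.Lib.Classical.slToGL_mulVec]
  rw [e]
  exact H.isCoatom_slSimilitudes_three (Module.finrank_fin_fun F)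

end Cfsg.Lib.Classical.SLThree
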